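import Mathlib
import Cfsg.Agent.Lib.QT1.Basic
import Cfsg.Agent.Lib.ZN.JComp

/-!
Definitions for the case `ℒ_f = ∅`, `|ℳ(C_G(Z))| > 1` (plan: `plans/QT5.md`).
-/

set_option autoImplicit false

namespace CfsgLib.QT5

open Subgroup Cfsg CfsgLib.LAE CfsgLib.PLocal CfsgLib.ZN
open scoped commutatorElement

variable {G : Type*} [Group G]

/-- at most two members -/
def Two {α : Type*} (F : Set α) : Prop := ∀ a ∈ F, ∀ b ∈ F, ∀ c ∈ F, a = b ∨ a = c ∨ b = c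

/-- the standing hypothesis on the overgroups of the Sylow `2`-subgroup `T` -/
structure Hy (T : Subgroup G) : Prop where
  ec : QT1.EC T
  solv : ∀ H : Subgroup G, T ≤ H → pCoreOf 2 H ≠ ⊥ → Group.IsSolvable H
  sqt : ∀ H : Subgroup G, T ≤ H → pCoreOf 2 H ≠ ⊥ → IsStronglyQuasithin H

/-- `P` permutes one or two four-groups, transitively under `T`, moving the fixed points of `T` -/
structure FP0 (T P : Subgroup G) (𝒱 : Set (Subgroup G)) : Prop where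
  syl : IsSylowIn 2 T P
  ne : 𝒱.Nonempty
  four : ∀ V ∈ 𝒱, IsFour V
  le : ∀ V ∈ 𝒱, V ≤ T
  conj : ∀ g ∈ P, ∀ V ∈ 𝒱, conjS g V ∈ 𝒱
  two : Two 𝒱
  disj : ∀ V ∈ 𝒱, ∀ W ∈ 𝒱, V ≠ W → V ⊓ W = ⊥
  comm : ∀ V ∈ 𝒱, ∀ W ∈ 𝒱, W ≤ centralizer (V : Set G)
  trans : ∀ V ∈ 𝒱, ∀ W ∈ 𝒱, ∃ t ∈ T, conjS t V = W
  jn : ∀ V ∈ 𝒱, thompsonSubgroupOf 2 T ≤ normalizer (V : Set G)
  jc : ∀ V ∈ 𝒱, ¬ thompsonSubgroupOf 2 T ≤ centralizer (V : Set G)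
  nc : ¬ P ≤ centralizer ((sSup 𝒱 ⊓ centralizer (T : Set G) : Subgroup G) : Set G)

/-- a minimal such `P` -/
structure FP (T P : Subgroup G) (𝒱 : Set (Subgroup G)) : Prop extends FP0 T P 𝒱 where
  max : ∀ H : Subgroup G, T ≤ H → H < P →
    H ≤ centralizer ((sSup 𝒱 ⊓ centralizer (T : Set G) : Subgroup G) : Set G)

/-- the points of the four-groups fixed by their normalizers in `T` -/
def Pt (T : Subgroup G) (𝒱 : Set (Subgroup G)) : Set G :=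
  {z | z ≠ 1 ∧ ∃ V ∈ 𝒱, z ∈ V ∧ T ⊓ normalizer (V : Set G) ≤ centralizer ({z} : Set G)}

/-- the amalgam -/
structure Am (T P R : Subgroup G) (𝒱 𝒰 : Set (Subgroup G)) : Prop where
  fp : FP T P 𝒱
  fr : FP T R 𝒰
  noN : ∀ N : Subgroup G, N ≤ T → P ≤ normalizer (N : Set G) → R ≤ normalizer (N : Set G) → N = ⊥
  sp : ¬ T ⊓ pResOf 2 P ≤ pCoreOf 2 R
  sr : ¬ T ⊓ pResOf 2 R ≤ pCoreOf 2 P

theorem Am.symm {T P R : Subgroup G} {𝒱 𝒰 : Set (Subgroup G)} (h : Am T P R 𝒱 𝒰) : Am T R P 𝒰 𝒱 :=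
  ⟨h.fr, h.fp, fun N a b c => h.noN N a c b, h.sr, h.sp⟩

/-- `O²(P)` centralizes the points of the other family -/
def Gd (T P : Subgroup G) (𝒰 : Set (Subgroup G)) : Prop :=
  ∀ u ∈ Pt T 𝒰, pResOf 2 P ≤ centralizer ({u} : Set G)

/-- a non-commuting pair of four-groups -/
structure Pr (T T' : Subgroup G) (𝒱 𝒱' : Set (Subgroup G)) (V V' : Subgroup G) (z : G) : Prop where
  mem : V ∈ 𝒱
  mem' : V' ∈ 𝒱'
  zV : z ∈ V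
  zV' : z ∈ V'
  pt : z ∈ Pt T 𝒱
  pt' : z ∈ Pt T' 𝒱'
  nc : ¬ V' ≤ centralizer (V : Set G)
  oth : ∀ W ∈ 𝒱, W ≠ V → V' ≤ centralizer (W : Set G)
  oth' : ∀ W ∈ 𝒱', W ≠ V' → V ≤ centralizer (W : Set G)

/-- critical distance one -/
structure B1 (T P R : Subgroup G) (𝒱 𝒰 : Set (Subgroup G)) : Prop extends Am T P R 𝒱 𝒰 where
  nc : ¬ sSup 𝒱 ≤ centralizer ((sSup 𝒰 : Subgroup G) : Set G)

theorem B1.symm {T P R : Subgroup G} {𝒱 𝒰 : Set (Subgroup G)} (h : B1 T P R 𝒱 𝒰) : B1 T R P 𝒰 𝒱 :=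
  ⟨h.toAm.symm, fun k => h.nc (le_centralizer_iff.mp k)⟩

/-- the components of the normal closure `V` of `Ω₁(Z(T))` in `H` -/
structure Fm (T H : Subgroup G) (𝒲 : Set (Subgroup G)) : Prop where
  four : ∀ W ∈ 𝒲, IsFour W
  le : ∀ W ∈ 𝒲, W ≤ nclIn (omegaZ 2 T) H
  conj : ∀ g ∈ H, ∀ W ∈ 𝒲, conjS g W ∈ 𝒲
  disj : ∀ V ∈ 𝒲, ∀ W ∈ 𝒲, V ≠ W → V ⊓ W = ⊥
  jn : ∀ W ∈ 𝒲, nclIn (thompsonSubgroupOf 2 T) H ≤ normalizer (W : Set G)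
  gen : nclIn (omegaZ 2 T) H ≤
    (nclIn (omegaZ 2 T) H ⊓ centralizer (nclIn (thompsonSubgroupOf 2 T) H : Set G)) ⊔ sSup 𝒲
  big : ∀ W ∈ 𝒲, ∃ Y : Subgroup G, Y ≤ nclIn (thompsonSubgroupOf 2 T) H ∧
    nclIn (thompsonSubgroupOf 2 T) H ≤ normalizer (Y : Set G) ∧
    (centralizer (W : Set G)).relIndex Y = 6 ∧ ∀ U ∈ 𝒲, U ≠ W → Y ≤ centralizer (U : Set G)

end CfsgLib.QT5
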