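import Mathlib
import Cfsg.Agent.Lib.QT5.Defs

/-!
Small lemmas shared by `TWO` and `FAM`.
-/

set_option autoImplicit false

namespace CfsgLib.QT5

open Subgroup Cfsg CfsgLib.LAE CfsgLib.PLocal CfsgLib.ZN
open scoped commutatorElement

variable {G : Type*} [Group G] {T H W A B Y : Subgroup G} {𝒲 : Set (Subgroup G)}

theorem ax_zp {z x : G} (hz : z * z = 1) (hx : x ∈ zpowers z) : x = 1 ∨ x = z := by
  obtain ⟨k, rfl⟩ := mem_zpowers_iff.1 hx
  have e : ∀ m : ℤ, z ^ (2 * m) = 1 := fun m => by rw [zpow_mul, zpow_two, hz, one_zpow]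
  rcases Int.even_or_odd' k with ⟨m, rfl | rfl⟩
  · exact .inl (e m)
  · exact .inr (by rw [zpow_add, e, one_mul, zpow_one])

theorem Two.res_le_norm (h : Two 𝒲) (hc : ∀ g ∈ H, ∀ W ∈ 𝒲, conjS g W ∈ 𝒲) (hW : W ∈ 𝒲) :
    pResOf 2 H ≤ normalizer (W : Set G) := pResOf_le_of_forall_pow_mem fun g hg => ⟨1, by
  rw [pow_one, pow_two]
  have k : conjS g W = W → g * g ∈ normalizer (W : Set G) := fun e =>
    mul_mem (mem_normalizer_iff_conjS.2 e) (mem_normalizer_iff_conjS.2 e)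
  rcases h W hW _ (hc g hg W hW) _ (hc g hg _ (hc g hg W hW)) with e | e | e
  · exact k e.symm
  · rw [mem_normalizer_iff_conjS, conjS_mul, ← e]
  · exact k (conjS_injective g e).symm⟩

theorem Two.exists_conj [Finite G] (h : Two 𝒲) (hc : ∀ g ∈ H, ∀ W ∈ 𝒲, conjS g W ∈ 𝒲) (hT : IsSylowIn 2 T H)
    (hW : W ∈ 𝒲) {g : G} (hg : g ∈ H) : ∃ t ∈ T, conjS g W = conjS t W := by
  have := Fact.mk Nat.prime_two
  obtain ⟨t, ht, x, hx, rfl⟩ := hT.exists_mul' hg
  exact ⟨t, ht, by rw [conjS_mul, mem_normalizer_iff_conjS.1 (h.res_le_norm hc hW hx)]⟩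

theorem ax_fpf [Finite G] (hW : IsFour W) (hn : Y ≤ normalizer (W : Set G))
    (h : (centralizer (W : Set G)).relIndex Y = 6) :
    ∃ d ∈ Y, W ⊓ centralizer ({d} : Set G) = ⊥ := by
  have := Fact.mk Nat.prime_two
  have k : ¬ pResOf 2 Y ≤ centralizer (W : Set G) := fun e => by
    obtain ⟨S, hS⟩ := exists_isSylowIn 2 Y
    have h1 : S ≤ normalizer ((centralizer (W : Set G) : Subgroup G) : Set G) :=
      le_normalizer_centralizer (hS.le.trans hn)
    have h2 := relIndex_dvd_relIndex_of_le_normalizer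
      (hS.le_of_pResOf_le (N := S ⊔ centralizer (W : Set G)) (le_sup_of_le_right e) le_sup_left)
      (sup_le h1 le_normalizer)
    rw [relIndex_sup_of_le_normalizer h1, h] at h2
    by_cases c : S ≤ centralizer (W : Set G)
    · rw [relIndex_eq_one.2 c] at h2; omega
    · rw [hW.relIndex_eq_two hS.isPGroup (hS.le.trans hn) c] at h2; omega
  obtain ⟨d, hd, -, e⟩ := hW.exists_fpf (pResOf_pResOf Y) ((pResOf_le Y).trans hn) k
  exact ⟨d, pResOf_le Y hd, e⟩

theorem ax_syl [Finite G] (hT : IsSylowIn 2 T Y) (h : (centralizer (W : Set G)).relIndex Y = 6) :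
    ¬ T ≤ centralizer (W : Set G) := fun e => by
  have := Fact.mk Nat.prime_two
  exact hT.not_dvd_relIndex (Dvd.dvd.trans (by rw [h]; decide) (relIndex_dvd_of_le_left Y e))

/-- a subgroup of index two and exponent two -/
structure Hp (W A : Subgroup G) : Prop where
  le : A ≤ W
  ne : ¬ W ≤ A
  idx : ∀ a ∈ W, ∀ b ∈ W, a ∉ A → b ∉ A → a * b ∈ A
  sq : ∀ a ∈ A, a * a = 1

theorem Hp.conj (h : Hp W A) (g : G) : Hp (conjS g W) (conjS g A) := by
  refine ⟨conjS_mono h.le, fun e => h.ne (conjS_le_conjS_iff.1 e), fun a ha b hb h1 h2 => ?_, fun a ha => ?_⟩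
  · rw [mem_conjS] at *
    convert h.idx _ ha _ hb h1 h2 using 1
    group
  · obtain ⟨y, hy, rfl⟩ := exists_of_mem_conjS ha
    calc _ = g * (y * y) * g⁻¹ := by group
      _ = 1 := by rw [h.sq y hy]; group

theorem Hp.com (h : Hp W A) {a b : G} (ha : a ∈ A) (hb : b ∈ A) : Commute a b := by
  have e : ∀ x ∈ A, x⁻¹ = x := fun x hx => inv_eq_of_mul_eq_one_right (h.sq x hx)
  rw [Commute, SemiconjBy, ← e _ (mul_mem ha hb), mul_inv_rev, e a ha, e b hb]

theorem Hp.exists_not (h : Hp W A) (k : Hp W B) (e : A ≠ B) : ∃ a ∈ A, a ∉ B := by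
  by_contra! c
  refine e (le_antisymm c fun b hb => by_contra fun f => k.ne fun w hw => by_contra fun g => g ?_)
  exact (Subgroup.mul_mem_cancel_right _ hb).1 (c _ (h.idx w hw b (k.le hb) (fun f => g (c _ f)) f))

theorem Hp.ind (h : Hp W A) {b : G} (hb : b ∈ W) (hb' : b ∉ A) {x : G} (h1 : ∀ a ∈ A, Commute a x)
    (h2 : Commute b x) {w : G} (hw : w ∈ W) : Commute w x := by
  by_cases e : w ∈ A
  · exact h1 w e
  · simpa using (h1 _ (h.idx w hw b hb e hb')).mul_left h2.inv_left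

theorem Hp.abel (h : Hp W A) (k : Hp W B) {a b : G} (ha : a ∈ A) (ha' : a ∉ B) (hb : b ∈ B) (hb' : b ∉ A)
    (e : Commute a b) : W ≤ centralizer (W : Set G) := by
  have h1 : ∀ c ∈ A, Commute c b := fun c hc =>
    k.ind (h.le ha) ha' (fun _ hd => k.com hd hb) e (h.le hc)
  intro w hw v hv
  exact h.ind (k.le hb) hb' (fun c hc => (h.ind (k.le hb) hb' (fun _ hd => h.com hd hc) (h1 c hc).symm hw).symm)
    (h.ind (k.le hb) hb' h1 (Commute.refl b) hw).symm hv

theorem two_hp (hW : ¬ W ≤ centralizer (W : Set G)) : Two {A | Hp W A} := by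
  have key : ∀ {A B C : Subgroup G}, Hp W A → Hp W B → Hp W C → C ≠ A → ∀ a ∈ A, a ∉ B → ∀ b ∈ B, b ∉ A →
      a ∈ C → False := fun {A B C} hA hB hC e a ha ha' b hb hb' hc => by
    obtain ⟨c, h1, h2⟩ := hC.exists_not hA e
    have k : ∀ c ∈ C, c ∉ A → c ∈ B → False := fun c h1 h2 h3 =>
      hW (hA.abel hB ha ha' h3 h2 (hC.com hc h1))
    by_cases h3 : c ∈ B
    · exact k c h1 h2 h3
    · exact k (a * c) (mul_mem hc h1) (fun f => h2 ((Subgroup.mul_mem_cancel_left _ ha).1 f))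
        (hB.idx a (hA.le ha) c (hC.le h1) ha' h3)
  intro A hA B hB C hC
  by_contra! e
  obtain ⟨a, ha, ha'⟩ := Hp.exists_not hA hB e.1
  obtain ⟨b, hb, hb'⟩ := Hp.exists_not hB hA e.1.symm
  by_cases h1 : a ∈ C
  · exact key hA hB hC e.2.1.symm a ha ha' b hb hb' h1
  by_cases h2 : b ∈ C
  · exact key hB hA hC e.2.2.symm b hb hb' a ha ha' h2
  have h3 := Hp.sq hC _ (Hp.idx hC a (Hp.le hA ha) b (Hp.le hB hb) h1 h2)
  refine hW (Hp.abel hA hB ha ha' hb hb' ?_)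
  rw [Commute, SemiconjBy, ← inv_eq_of_mul_eq_one_right h3, mul_inv_rev,
    inv_eq_of_mul_eq_one_right (Hp.sq hA a ha), inv_eq_of_mul_eq_one_right (Hp.sq hB b hb)]

end CfsgLib.QT5
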