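import Mathlib
import Cfsg.Agent.Lib.QT5.Defs

/-!
BA: elementary facts on `FP0`.
-/

set_option autoImplicit false
set_option linter.unusedSectionVars false

namespace CfsgLib.QT5

open Subgroup Cfsg CfsgLib.LAE CfsgLib.PLocal CfsgLib.ZN
open scoped commutatorElement

variable {G : Type*} [Group G] [Finite G] {T T' P P' R H M V V' W U : Subgroup G}
  {𝒱 𝒱' 𝒰 𝒲 : Set (Subgroup G)}

/-- the other member (or `⊥`) -/
def oth (𝒱 : Set (Subgroup G)) (V : Subgroup G) : Subgroup G := sSup (𝒱 \ {V})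

theorem ba_cen {g z : G} : g ∈ centralizer ({z} : Set G) ↔ g * z * g⁻¹ = z := by
  rw [mem_centralizer_singleton_iff, mul_inv_eq_iff_eq_mul]

theorem ba_cen' {g : G} : g ∈ centralizer (V : Set G) ↔ ∀ v ∈ V, g * v * g⁻¹ = v :=
  ⟨fun k v hv => by rw [← k v hv, mul_inv_cancel_right],
    fun k v hv => (mul_inv_eq_iff_eq_mul.1 (k v hv)).symm⟩

theorem conjS_sSup (g : G) (𝒱 : Set (Subgroup G)) : conjS g (sSup 𝒱) = sSup (conjS g '' 𝒱) := by
  rw [sSup_image]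
  exact (gc_map_comap (MulAut.conj g).toMonoidHom).l_sSup

theorem conjS_cen1 (g z : G) :
    conjS g (centralizer ({z} : Set G)) = centralizer ({g * z * g⁻¹} : Set G) := by
  ext x
  rw [mem_conjS, ba_cen, ba_cen]
  constructor
  · intro k
    calc x * (g * z * g⁻¹) * x⁻¹ = g * (g⁻¹ * x * g * z * (g⁻¹ * x * g)⁻¹) * g⁻¹ := by group
      _ = _ := by rw [k]
  · intro k
    calc g⁻¹ * x * g * z * (g⁻¹ * x * g)⁻¹ = g⁻¹ * (x * (g * z * g⁻¹) * x⁻¹) * g := by group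
      _ = _ := by rw [k]; group

theorem conj_ne_one {g z : G} (h : z ≠ 1) : g * z * g⁻¹ ≠ 1 := fun e =>
  h (by simpa [mul_inv_eq_one] using e)

theorem four_cases (hV : IsFour V) {a b v : G} (ha : a ∈ V) (hb : b ∈ V) (a1 : a ≠ 1) (b1 : b ≠ 1)
    (ab : a ≠ b) (hv : v ∈ V) : v = 1 ∨ v = a ∨ v = b ∨ v = a * b := by
  have : Nontrivial V := ⟨⟨⟨a, ha⟩, 1, fun e => a1 (congrArg Subtype.val e)⟩⟩
  have : IsKleinFour V := ⟨hV.card, (Monoid.exponent_eq_prime_iff Nat.prime_two).2 fun g hg =>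
    orderOf_eq_prime (Subtype.ext (hV.elem.2 g g.2)) hg⟩
  by_contra k
  push Not at k
  exact k.2.2.2 (congrArg Subtype.val (IsKleinFour.eq_mul_of_ne_all (x := (⟨a, ha⟩ : V))
    (y := ⟨b, hb⟩) (z := ⟨v, hv⟩) (fun e => a1 (congrArg Subtype.val e))
    (fun e => b1 (congrArg Subtype.val e)) (fun e => ab (congrArg Subtype.val e))
    (fun e => k.1 (congrArg Subtype.val e)) (fun e => k.2.1 (congrArg Subtype.val e))
    (fun e => k.2.2.1 (congrArg Subtype.val e))))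

theorem Two.oth_cases (h : Two 𝒱) (hV : V ∈ 𝒱) :
    (𝒱 = {V} ∧ oth 𝒱 V = ⊥) ∨ (oth 𝒱 V ∈ 𝒱 ∧ oth 𝒱 V ≠ V ∧ 𝒱 = {V, oth 𝒱 V}) := by
  by_cases k : ∃ W ∈ 𝒱, W ≠ V
  · obtain ⟨W, hW, ne⟩ := k
    have e : 𝒱 = {V, W} := by
      ext U
      refine ⟨fun hU => ?_, by rintro (rfl | rfl) <;> assumption⟩
      rcases h V hV W hW U hU with e | e | e
      exacts [absurd e.symm ne, .inl e.symm, .inr e.symm]
    have e' : oth 𝒱 V = W := by
      rw [oth, e, Set.pair_sdiff_left ne.symm, sSup_singleton]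
    exact .inr (by rw [e']; exact ⟨hW, ne, e⟩)
  · push Not at k
    have e : 𝒱 = {V} := Set.eq_singleton_iff_unique_mem.2 ⟨hV, k⟩
    exact .inl ⟨e, by rw [oth, e, Set.sdiff_self, sSup_empty]⟩

theorem sup_oth (hV : V ∈ 𝒱) : V ⊔ oth 𝒱 V = sSup 𝒱 := by
  rw [oth, ← sSup_insert, Set.insert_sdiff_singleton, Set.insert_eq_of_mem hV]

theorem Pt_conj (g : G) {z : G} : g * z * g⁻¹ ∈ Pt (conjS g T) (conjS g '' 𝒱) ↔ z ∈ Pt T 𝒱 := by
  constructor
  · rintro ⟨h1, _, ⟨V, hV, rfl⟩, hz, k⟩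
    refine ⟨fun e => h1 (by simp [e]), V, hV, conj_mem_conjS.1 hz, ?_⟩
    rwa [← conjS_normalizer, ← conjS_inf, ← conjS_cen1, conjS_le_conjS_iff] at k
  · rintro ⟨h1, V, hV, hz, k⟩
    refine ⟨conj_ne_one h1, _, ⟨V, hV, rfl⟩, conj_mem_conjS.2 hz, ?_⟩
    rwa [← conjS_normalizer, ← conjS_inf, ← conjS_cen1, conjS_le_conjS_iff]

/-- an element normalizing a four-group and fixing a nontrivial element `z` moves elements by `z` -/
theorem four_commutator (hV : IsFour V) {z y v : G} (hz : z ∈ V) (h1 : z ≠ 1)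
    (hy : y ∈ normalizer (V : Set G)) (hyz : y ∈ centralizer ({z} : Set G)) (hv : v ∈ V) :
    y * v * y⁻¹ = v ∨ y * v * y⁻¹ = v * z := by
  by_cases v1 : v = 1
  · left; simp [v1]
  by_cases vz : v = z
  · left; rw [vz]; exact ba_cen.1 hyz
  rcases four_cases hV hv hz v1 h1 vz (conj_mem_of_mem_normalizer hy hv) with e | e | e | e
  · exact absurd e (conj_ne_one v1)
  · exact .inl e
  · rw [← ba_cen.1 hyz] at e
    exact absurd (by simpa using e) vz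
  · exact .inr e

/-- an element acting nontrivially on a four-group fixes at most one nontrivial element -/
theorem four_fix (hV : IsFour V) {y a b : G} (hy : y ∉ centralizer (V : Set G)) (ha : a ∈ V) (hb : b ∈ V)
    (a1 : a ≠ 1) (b1 : b ≠ 1) (h1 : y ∈ centralizer ({a} : Set G)) (h2 : y ∈ centralizer ({b} : Set G)) :
    a = b := by
  by_contra ab
  refine hy (ba_cen'.2 fun v hv => ?_)
  rcases four_cases hV ha hb a1 b1 ab hv with rfl | rfl | rfl | rfl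
  · simp
  · exact ba_cen.1 h1
  · exact ba_cen.1 h2
  · rw [← conj_mul, ba_cen.1 h1, ba_cen.1 h2]

theorem ba_odd_part (hV : IsFour V) {y : G} (hy : y ∈ normalizer (V : Set G))
    (hf : V ⊓ centralizer ({y} : Set G) = ⊥) :
    ∃ k : ℕ, Odd (orderOf (y ^ k)) ∧ V ⊓ centralizer ({y ^ k} : Set G) = ⊥ := by
  have key : ∀ j : ℕ, V ⊓ centralizer ({y ^ 2 ^ j} : Set G) = ⊥ := by
    intro j
    induction j with
    | zero => simpa using hf
    | succ j ih =>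
      rw [eq_bot_iff, pow_succ, pow_mul]
      set x := y ^ 2 ^ j
      intro v hv
      have hx : x ∈ normalizer (V : Set G) := pow_mem hy _
      have hv' := conj_mem_of_mem_normalizer hx hv.1
      have e := mem_centralizer_singleton_iff.1 hv.2
      have k : v * (x * v * x⁻¹) ∈ V ⊓ centralizer ({x} : Set G) :=
        ⟨V.mul_mem hv.1 hv', mem_centralizer_singleton_iff.2 (by
          calc v * (x * v * x⁻¹) * x = x * v * x⁻¹ * v * x := by rw [hV.comm hv' hv.1]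
            _ = x * v * x⁻¹ * (v * x ^ 2) * x⁻¹ := by rw [sq]; group
            _ = _ := by rw [e, sq]; group)⟩
      rw [ih, mem_bot, ← hV.mul_self hv.1, mul_right_inj] at k
      rw [← ih]
      exact ⟨hv.1, mem_centralizer_singleton_iff.2 (mul_inv_eq_iff_eq_mul.1 k).symm⟩
  obtain ⟨j, m, hm, e⟩ := Nat.exists_eq_two_pow_mul_odd (orderOf_pos y).ne'
  refine ⟨2 ^ j, ?_, key j⟩
  rwa [orderOf_pow_of_dvd (by positivity) ⟨m, e⟩, e, Nat.mul_div_cancel_left _ (by positivity)]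

namespace FP0
variable (h : FP0 T P 𝒱)
include h

theorem oth_le (hV : V ∈ 𝒱) : oth 𝒱 V ≤ centralizer (V : Set G) :=
  sSup_le fun W hW => h.comm V hV W hW.1

theorem S_le : sSup 𝒱 ≤ T := sSup_le h.le

theorem elemAb : IsElementaryAbelian 2 (sSup 𝒱) := by
  obtain ⟨V, hV⟩ := h.ne
  rw [← sup_oth hV]
  refine elemAb_sup (h.four V hV).elem ?_ (le_centralizer_iff.1 (h.oth_le hV))
  rcases h.two.oth_cases hV with ⟨-, e⟩ | ⟨k, -, -⟩
  · rw [e]; exact elemAb_bot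
  · exact (h.four _ k).elem

theorem norm_S : P ≤ normalizer ((sSup 𝒱 : Subgroup G) : Set G) := fun g hg =>
  mem_normalizer_of_conjS_le (by
    rw [conjS_sSup]
    exact sSup_le_sSup (by rintro _ ⟨V, hV, rfl⟩; exact h.conj g hg V hV))

theorem S_ne : sSup 𝒱 ≠ ⊥ := fun e => by
  obtain ⟨V, hV⟩ := h.ne
  exact (h.four V hV).ne_bot (eq_bot_iff.2 (e ▸ le_sSup hV))

theorem inf_oth (hV : V ∈ 𝒱) : V ⊓ oth 𝒱 V = ⊥ := by
  rcases h.two.oth_cases hV with ⟨-, e⟩ | ⟨k, ne, -⟩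
  · rw [e, inf_bot_eq]
  · exact h.disj _ hV _ k ne.symm

theorem decomp (hV : V ∈ 𝒱) {s : G} (hs : s ∈ sSup 𝒱) : ∃ v ∈ V, ∃ w ∈ oth 𝒱 V, s = v * w := by
  rw [← sup_oth hV] at hs
  exact (mem_sup_iff_of_right_le_normalizer
    ((h.oth_le hV).trans (centralizer_le_normalizer _))).1 hs

theorem dec_uniq (hV : V ∈ 𝒱) {v v' w w' : G} (hv : v ∈ V) (hv' : v' ∈ V) (hw : w ∈ oth 𝒱 V)
    (hw' : w' ∈ oth 𝒱 V) (e : v * w = v' * w') : v = v' ∧ w = w' := by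
  have k : v'⁻¹ * v ∈ V ⊓ oth 𝒱 V := ⟨V.mul_mem (V.inv_mem hv') hv, by
    rw [show v'⁻¹ * v = w' * w⁻¹ by rw [← mul_left_inj w, mul_assoc, e]; group]
    exact (oth 𝒱 V).mul_mem hw' ((oth 𝒱 V).inv_mem hw)⟩
  rw [h.inf_oth hV, mem_bot, inv_mul_eq_one] at k
  exact ⟨k.symm, by rwa [k, mul_right_inj] at e⟩

theorem image_conj {g : G} (hg : g ∈ P) : conjS g '' 𝒱 = 𝒱 := by
  refine le_antisymm (by rintro _ ⟨V, hV, rfl⟩; exact h.conj g hg V hV) fun V hV => ?_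
  exact ⟨_, h.conj g⁻¹ (inv_mem hg) V hV, conjS_conjS_inv g V⟩

theorem oth_conj {g : G} (hg : g ∈ P) (V : Subgroup G) :
    conjS g (oth 𝒱 V) = oth 𝒱 (conjS g V) := by
  rw [oth, conjS_sSup, Set.image_sdiff (conjS_injective g), h.image_conj hg, Set.image_singleton, oth]

theorem norm_oth {g : G} (hg : g ∈ P) (hn : g ∈ normalizer (V : Set G)) :
    g ∈ normalizer (oth 𝒱 V : Set G) := by
  rw [mem_normalizer_iff_conjS] at hn ⊢
  rw [h.oth_conj hg, hn]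

theorem conjugate (g : G) : FP0 (conjS g T) (conjS g P) (conjS g '' 𝒱) := by
  refine ⟨h.syl.conj g, h.ne.image _, ?_, ?_, ?_, ?_, ?_, ?_, ?_, ?_, ?_, ?_⟩
  · rintro _ ⟨V, hV, rfl⟩; exact (h.four V hV).conj g
  · rintro _ ⟨V, hV, rfl⟩; exact conjS_mono (h.le V hV)
  · rintro x hx _ ⟨V, hV, rfl⟩
    refine ⟨_, h.conj _ (mem_conjS.1 hx) V hV, ?_⟩
    rw [← conjS_mul, ← conjS_mul]; congr 1; group
  · rintro _ ⟨a, ha, rfl⟩ _ ⟨b, hb, rfl⟩ _ ⟨c, hc, rfl⟩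
    rcases h.two a ha b hb c hc with e | e | e <;> simp [e]
  · rintro _ ⟨a, ha, rfl⟩ _ ⟨b, hb, rfl⟩ ne
    rw [← conjS_inf, h.disj a ha b hb fun e => ne (by rw [e]), conjS_bot]
  · rintro _ ⟨a, ha, rfl⟩ _ ⟨b, hb, rfl⟩
    rw [← conjS_centralizer]; exact conjS_mono (h.comm a ha b hb)
  · rintro _ ⟨a, ha, rfl⟩ _ ⟨b, hb, rfl⟩
    obtain ⟨t, ht, rfl⟩ := h.trans a ha b hb
    refine ⟨_, conj_mem_conjS.2 ht, ?_⟩
    rw [← conjS_mul, ← conjS_mul]; congr 1; group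
  · rintro _ ⟨V, hV, rfl⟩
    rw [← conjS_thompson, ← conjS_normalizer]; exact conjS_mono (h.jn V hV)
  · rintro _ ⟨V, hV, rfl⟩
    rw [← conjS_thompson, ← conjS_centralizer, conjS_le_conjS_iff]; exact h.jc V hV
  · rw [← conjS_sSup, ← conjS_centralizer, ← conjS_inf, ← conjS_centralizer, conjS_le_conjS_iff]
    exact h.nc

/-- normalizing one member means normalizing all -/
theorem norm_all (hV : V ∈ 𝒱) (hW : W ∈ 𝒱) {g : G} (hg : g ∈ P) (hn : g ∈ normalizer (V : Set G)) :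
    g ∈ normalizer (W : Set G) := by
  rw [mem_normalizer_iff_conjS] at hn ⊢
  rcases h.two V hV W hW _ (h.conj g hg W hW) with e | e | e
  · rwa [← e]
  · have := conjS_injective g (hn.trans e)
    rwa [← this]
  · exact e.symm

theorem norm_of_fix (hV : V ∈ 𝒱) {g z : G} (hg : g ∈ P) (hz : z ∈ V) (h1 : z ≠ 1)
    (hz' : g * z * g⁻¹ ∈ V) : g ∈ normalizer (V : Set G) := by
  by_contra k
  have := h.disj _ (h.conj g hg V hV) V hV fun e => k (mem_normalizer_iff_conjS.2 e)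
  have k' : g * z * g⁻¹ ∈ conjS g V ⊓ V := ⟨conj_mem_conjS.2 hz, hz'⟩
  rw [this] at k'
  exact conj_ne_one h1 k' 

theorem norm_of_odd (hV : V ∈ 𝒱) {g : G} (hg : g ∈ P) (ho : Odd (orderOf g)) :
    g ∈ normalizer (V : Set G) := by
  rcases h.two V hV _ (h.conj g hg V hV) _ (h.conj g hg _ (h.conj g hg V hV)) with e | e | e
  · exact mem_normalizer_iff_conjS.2 e.symm
  · refine mem_of_pow_mem_of_coprime (n := 2) (Nat.coprime_two_right.2 ho) ?_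
    rw [mem_normalizer_iff_conjS, sq, conjS_mul]; exact e.symm
  · exact mem_normalizer_iff_conjS.2 (conjS_injective g e).symm

theorem res_le_norm (hV : V ∈ 𝒱) : pResOf 2 P ≤ normalizer (V : Set G) :=   pResOf_le_iff.2 fun _ hg ho => h.norm_of_odd hV hg (Nat.coprime_two_right.1 ho)

theorem exists_pt (hV : V ∈ 𝒱) : ∃ z ∈ V, z ∈ Pt T 𝒱 := by
  have k := (h.four V hV).card_inf_centralizer (P := T ⊓ normalizer (V : Set G))
    (h.syl.isPGroup.to_le inf_le_left) inf_le_right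
    fun e => h.jc V hV ((le_inf (thompsonSubgroupOf_le T) (h.jn V hV)).trans e)
  obtain ⟨⟨z, hz⟩, z1⟩ := ne_bot_iff_exists_ne_one.1 (fun e => by
    rw [e, card_bot] at k; omega : V ⊓ centralizer ((T ⊓ normalizer (V : Set G) : Subgroup G) : Set G) ≠ ⊥)
  exact ⟨z, hz.1, fun e => z1 (Subtype.ext e), V, hV, hz.1,
    fun x hx => mem_centralizer_singleton_iff.2 (hz.2 x hx)⟩

theorem pt_cen (hV : V ∈ 𝒱) {z : G} (hz : z ∈ V) (hp : z ∈ Pt T 𝒱) :
    T ⊓ normalizer (V : Set G) ≤ centralizer ({z} : Set G) := by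
  obtain ⟨z1, W, hW, hz', k⟩ := hp
  by_cases e : V = W
  · rwa [e]
  · have : z ∈ V ⊓ W := ⟨hz, hz'⟩
    rw [h.disj V hV W hW e] at this
    exact absurd this z1

theorem pt_uniq (hV : V ∈ 𝒱) {a b : G} (ha : a ∈ V) (hb : b ∈ V) (pa : a ∈ Pt T 𝒱) (pb : b ∈ Pt T 𝒱) :
    a = b := by
  obtain ⟨y, hy, hy'⟩ := SetLike.not_le_iff_exists.1 (h.jc V hV)
  have k : y ∈ T ⊓ normalizer (V : Set G) := ⟨thompsonSubgroupOf_le T hy, h.jn V hV hy⟩
  exact four_fix (h.four V hV) hy' ha hb pa.1 pb.1 (h.pt_cen hV ha pa k) (h.pt_cen hV hb pb k)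

theorem two_pt : Two (Pt T 𝒱) := fun a pa b pb c pc => by
  obtain ⟨-, A, hA, ha, -⟩ := id pa
  obtain ⟨-, B, hB, hb, -⟩ := id pb
  obtain ⟨-, C, hC, hc, -⟩ := id pc
  rcases h.two A hA B hB C hC with rfl | rfl | rfl
  exacts [.inl (h.pt_uniq hA ha hb pa pb), .inr (.inl (h.pt_uniq hA ha hc pa pc)),
    .inr (.inr (h.pt_uniq hB hb hc pb pc))]

theorem conj_pt {t a : G} (ht : t ∈ T) (pa : a ∈ Pt T 𝒱) : t * a * t⁻¹ ∈ Pt T 𝒱 := by
  have := (Pt_conj t).2 pa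
  rwa [conjS_eq_of_mem ht, h.image_conj (h.syl.le ht)] at this

theorem pt_trans {a b : G} (pa : a ∈ Pt T 𝒱) (pb : b ∈ Pt T 𝒱) : ∃ t ∈ T, t * a * t⁻¹ = b := by
  obtain ⟨-, A, hA, ha, -⟩ := id pa
  obtain ⟨-, B, hB, hb, -⟩ := id pb
  obtain ⟨t, ht, rfl⟩ := h.trans A hA B hB
  exact ⟨t, ht, h.pt_uniq hB (conj_mem_conjS.2 ha) hb (h.conj_pt ht pa) pb⟩

theorem pt_J {z : G} (hp : z ∈ Pt T 𝒱) : thompsonSubgroupOf 2 T ≤ centralizer ({z} : Set G) := by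
  obtain ⟨-, V, hV, -, k⟩ := hp
  exact (le_inf (thompsonSubgroupOf_le T) (h.jn V hV)).trans k

theorem pt_of_J (hV : V ∈ 𝒱) {z : G} (hz : z ∈ V) (h1 : z ≠ 1)
    (hJ : thompsonSubgroupOf 2 T ≤ centralizer ({z} : Set G)) : z ∈ Pt T 𝒱 := by
  obtain ⟨a, ha, pa⟩ := h.exists_pt hV
  obtain ⟨y, hy, hy'⟩ := SetLike.not_le_iff_exists.1 (h.jc V hV)
  rwa [four_fix (h.four V hV) hy' hz ha h1 pa.1 (hJ hy) (h.pt_J pa hy)]

theorem pt_mem_omegaZ {z : G} (hp : z ∈ Pt T 𝒱) : z ∈ omegaZ 2 (thompsonSubgroupOf 2 T) := by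
  have k : z ∈ centralizer (thompsonSubgroupOf 2 T : Set G) := fun x hx =>
    mem_centralizer_singleton_iff.1 (h.pt_J hp hx)
  obtain ⟨-, V, hV, hz, -⟩ := hp
  have k2 := (h.four V hV).elem.2 z hz
  exact mem_omegaZ.2 ⟨mem_thompsonSubgroupOf_of_centralizes (h.le V hV hz) k k2, k, k2⟩

/-- a member of `𝒜(T)` acting as a transvection on one member only -/
theorem exists_root (hV : V ∈ 𝒱) : ∃ A ∈ maxElemIn 2 T, ¬ A ≤ centralizer (V : Set G) ∧
    A ≤ centralizer (oth 𝒱 V : Set G) := by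
  obtain ⟨A, hA, nc⟩ : ∃ A ∈ maxElemIn 2 T, ¬ A ≤ centralizer (V : Set G) := by
    by_contra k
    push Not at k
    exact h.jc V hV (thompsonSubgroupOf_le_iff.2 k)
  rcases h.two.oth_cases hV with ⟨-, e⟩ | ⟨hW, ne, -⟩
  · exact ⟨A, hA, nc, by rw [e]; exact fun x _ y hy => by rw [mem_bot.1 hy]; simp⟩
  set W := oth 𝒱 V with eW
  have nA : ∀ U ∈ 𝒱, A ≤ normalizer (U : Set G) := fun U hU =>
    (le_thompsonSubgroupOf hA).trans (h.jn U hU)
  have h1 := (h.four W hW).replace_mem (h.le W hW) hA (nA W hW)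
  refine ⟨_, h1, fun k => nc fun x hx => ba_cen'.2 fun v hv => ?_,
    sup_le inf_le_right (h.four W hW).le_centralizer⟩
  have h2 := le_of_mem_maxElemIn_of_centralizes h1 (h.le V hV) (h.four V hV).elem
    (le_centralizer_iff.1 k) hv
  obtain ⟨a, ha, w, hw, e⟩ := (mem_sup_iff_of_left_le_normalizer
    (inf_le_left.trans (nA W hW))).1 h2
  have h3 : x * v * x⁻¹ * v⁻¹ ∈ V ⊓ W := by
    refine ⟨V.mul_mem (conj_mem_of_mem_normalizer (nA V hV hx) hv) (V.inv_mem hv), ?_⟩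
    have c : x * a = a * x := congrArg Subtype.val (hA.2.1.1.is_comm.comm (⟨x, hx⟩ : A) ⟨a, ha.1⟩)
    rw [show x * v * x⁻¹ * v⁻¹ = a * (x * w * x⁻¹ * w⁻¹) * a⁻¹ by
      rw [e, ← mul_assoc x, c]; group]
    exact conj_mem_of_mem_normalizer (nA W hW ha.1)
      (W.mul_mem (conj_mem_of_mem_normalizer (nA W hW hx) hw) (W.inv_mem hw))
  rwa [h.inf_oth hV, mem_bot, mul_inv_eq_one] at h3

theorem exists_max_cen : ∃ A ∈ maxElemIn 2 T, A ≤ centralizer ((sSup 𝒱 : Subgroup G) : Set G) := by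
  obtain ⟨V, hV⟩ := h.ne
  obtain ⟨A, hA, -, k⟩ := h.exists_root hV
  refine ⟨_, (h.four V hV).replace_mem (h.le V hV) hA
    ((le_thompsonSubgroupOf hA).trans (h.jn V hV)), ?_⟩
  rw [← sup_oth hV, centralizer_sup]
  exact le_inf (sup_le inf_le_right (h.four V hV).le_centralizer)
    (sup_le (inf_le_left.trans k) (le_centralizer_iff.1 (h.oth_le hV)))

theorem oth_oth (hV : V ∈ 𝒱) (hW : oth 𝒱 V ∈ 𝒱) : oth 𝒱 (oth 𝒱 V) = V := by
  rcases h.two.oth_cases hV with ⟨-, e⟩ | ⟨-, ne, e⟩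
  · exact absurd e (h.four _ hW).ne_bot
  · rcases h.two.oth_cases hW with ⟨e', -⟩ | ⟨k, ne', -⟩
    · rw [e'] at hV; exact absurd hV.symm ne
    · exact (e.le k).resolve_right ne'

theorem eq_oth (hV : V ∈ 𝒱) (hW : W ∈ 𝒱) (ne : W ≠ V) : W = oth 𝒱 V := by
  rcases h.two.oth_cases hV with ⟨e, -⟩ | ⟨-, -, e⟩
  · rw [e] at hW; exact absurd hW ne
  · rw [e] at hW; exact hW.resolve_left ne

theorem swap (hV : V ∈ 𝒱) {g : G} (hg : g ∈ P) (hn : g ∉ normalizer (V : Set G)) :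
    conjS g V = oth 𝒱 V ∧ conjS g (oth 𝒱 V) = V := by
  have k := h.conj g hg V hV
  have e := h.eq_oth hV k fun e => hn (mem_normalizer_iff_conjS.2 e)
  exact ⟨e, by rw [h.oth_conj hg, e, h.oth_oth hV (e ▸ k)]⟩

/-- the fixed points of `T` on the product have order two -/
theorem fix_eq (hV : V ∈ 𝒱) {z : G} (hz : z ∈ V) (hp : z ∈ Pt T 𝒱) : ∃ w ∈ oth 𝒱 V,
    sSup 𝒱 ⊓ centralizer (T : Set G) = zpowers (z * w) := by
  have zz := (h.four V hV).mul_self hz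
  have key : ∀ v ∈ V, ∀ w ∈ oth 𝒱 V, v * w ∈ centralizer (T : Set G) → v = 1 ∨ v = z := by
    intro v hv w hw k
    refine or_iff_not_imp_left.2 fun v1 => h.pt_uniq hV hv hz (h.pt_of_J hV hv v1 fun x hx => ?_) hp
    have hT := thompsonSubgroupOf_le T hx
    refine ba_cen.2 (h.dec_uniq hV (conj_mem_of_mem_normalizer (h.jn V hV hx) hv) hv
      (conj_mem_of_mem_normalizer (h.norm_oth (h.syl.le hT) (h.jn V hV hx)) hw) hw ?_).1
    rw [conj_mul, k x hT, mul_inv_cancel_right]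
  rcases h.two.oth_cases hV with ⟨e1, e⟩ | ⟨hW, ne, e1⟩
  · refine ⟨1, one_mem _, le_antisymm (fun s hs => ?_) (zpowers_le.2 ⟨?_, fun t ht => ?_⟩)⟩
    · obtain ⟨v, hv, w, hw, rfl⟩ := h.decomp hV hs.1
      have := key v hv w hw hs.2
      rw [e, mem_bot] at hw
      rcases this with rfl | rfl <;> simp [hw]
    · rw [mul_one]; exact le_sSup hV hz
    · rw [mul_one]
      refine mem_centralizer_singleton_iff.1 (h.pt_cen hV hz hp ⟨ht, ?_⟩)
      have := h.conj t (h.syl.le ht) V hV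
      rw [e1] at this
      exact mem_normalizer_iff_conjS.2 this
  · obtain ⟨t, ht, et⟩ := h.trans V hV _ hW
    have hw : t * z * t⁻¹ ∈ oth 𝒱 V := et ▸ conj_mem_conjS.2 hz
    have pw := h.conj_pt ht hp
    have cm : ∀ v ∈ V, ∀ w ∈ oth 𝒱 V, v * w = w * v := fun v hv w hw => h.oth_le hV hw v hv
    refine ⟨_, hw, le_antisymm (fun s hs => ?_) (zpowers_le.2 ⟨?_, fun s hs => ?_⟩)⟩
    · obtain ⟨v, hv, w, hw', rfl⟩ := h.decomp hV hs.1
      obtain ⟨s1, s2⟩ := h.swap hV (h.syl.le ht) fun k => ne (et.symm.trans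
        (mem_normalizer_iff_conjS.1 k))
      have m1 : t * v * t⁻¹ ∈ oth 𝒱 V := s1 ▸ conj_mem_conjS.2 hv
      have m2 : t * w * t⁻¹ ∈ V := s2 ▸ conj_mem_conjS.2 hw'
      have k := (h.dec_uniq hV m2 hv m1 hw' (by
        rw [cm _ m2 _ m1, conj_mul, hs.2 t ht, mul_inv_cancel_right])).2
      rcases key v hv w hw' hs.2 with rfl | rfl
      · rw [← k]; simp
      · rw [← k]; exact mem_zpowers _
    · rw [← sup_oth hV]; exact mul_mem_sup hz hw
    · rw [← mul_inv_eq_iff_eq_mul, ← conj_mul]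
      by_cases k : s ∈ normalizer (V : Set G)
      · rw [ba_cen.1 (h.pt_cen hV hz hp ⟨hs, k⟩),
          ba_cen.1 (h.pt_cen hW hw pw ⟨hs, h.norm_oth (h.syl.le hs) k⟩)]
      · obtain ⟨s1, s2⟩ := h.swap hV (h.syl.le hs) k
        rw [h.pt_uniq hW (s1 ▸ conj_mem_conjS.2 hz) hw (h.conj_pt hs hp) pw,
          h.pt_uniq hV (s2 ▸ conj_mem_conjS.2 hw) hz (h.conj_pt hs pw) hp, cm z hz _ hw]

theorem exists_move : ∃ U ∈ 𝒱, ∃ u ∈ U, u ∈ Pt T 𝒱 ∧ ∃ g ∈ P, g ∈ normalizer (U : Set G) ∧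
    g ∉ centralizer ({u} : Set G) := by
  obtain ⟨V, hV⟩ := h.ne
  obtain ⟨z, hz, pz⟩ := h.exists_pt hV
  obtain ⟨w, hw, e⟩ := h.fix_eq hV hz pz
  have zw : z * w ∈ centralizer (T : Set G) := (e.ge (mem_zpowers _)).2
  obtain ⟨g, hg, hg'⟩ := SetLike.not_le_iff_exists.1 h.nc
  rw [e, mem_centralizer_zpowers] at hg'
  obtain ⟨t, ht, et⟩ := h.trans V hV _ (h.conj g hg V hV)
  have gP : t⁻¹ * g ∈ P := mul_mem (inv_mem (h.syl.le ht)) hg
  have gn : t⁻¹ * g ∈ normalizer (V : Set G) := by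
    rw [mem_normalizer_iff_conjS, conjS_mul, ← et, conjS_inv_conjS]
  by_cases c1 : t⁻¹ * g ∈ centralizer ({z} : Set G)
  swap
  · exact ⟨V, hV, z, hz, pz, _, gP, gn, c1⟩
  have c2 : t⁻¹ * g ∉ centralizer ({w} : Set G) := fun c2 => hg' (by
    have e1 : t⁻¹ * g * (z * w) = z * w * (t⁻¹ * g) := by
      rw [← mul_inv_eq_iff_eq_mul, ← conj_mul, ba_cen.1 c1, ba_cen.1 c2]
    calc g * (z * w) = t * (t⁻¹ * g * (z * w)) := by group
      _ = t * (z * w) * (t⁻¹ * g) := by rw [e1, ← mul_assoc]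
      _ = _ := by rw [zw t ht]; group)
  have w1 : w ≠ 1 := fun e1 => c2 (by rw [e1, ba_cen]; simp)
  rcases h.two.oth_cases hV with ⟨-, e1⟩ | ⟨hW, -, -⟩
  · rw [e1] at hw; exact absurd hw w1
  refine ⟨_, hW, w, hw, h.pt_of_J hW hw w1 fun x hx => ba_cen.2 ?_, _, gP, h.norm_oth gP gn, c2⟩
  have e1 : x * (z * w) * x⁻¹ = z * w := by
    rw [zw x (thompsonSubgroupOf_le T hx), mul_inv_cancel_right]
  rwa [← conj_mul, ba_cen.1 (h.pt_J pz hx), mul_right_inj] at e1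

theorem exists_odd (hV : V ∈ 𝒱) : ∃ x ∈ P, Odd (orderOf x) ∧ V ⊓ centralizer ({x} : Set G) = ⊥ ∧
    x ∈ centralizer (oth 𝒱 V : Set G) := by
  obtain ⟨U, hU, u, hu, pu, g, hg, hn, mv⟩ := h.exists_move
  obtain ⟨A, hA, nc, hc⟩ := h.exists_root hU
  obtain ⟨t, ht, tc⟩ := SetLike.not_le_iff_exists.1 nc
  have tJ := le_thompsonSubgroupOf hA ht
  have tP : t ∈ P := h.syl.le (hA.1 ht)
  have tn := h.jn U hU tJ
  have tu := h.pt_J pu tJ
  have hu' := conj_mem_of_mem_normalizer hn hu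
  have t'n : g * t * g⁻¹ ∈ normalizer (U : Set G) := mul_mem (mul_mem hn tn) (inv_mem hn)
  have t'u : g * t * g⁻¹ ∈ centralizer ({g * u * g⁻¹} : Set G) := by
    rw [← conjS_cen1]; exact conj_mem_conjS.2 tu
  have t'c : g * t * g⁻¹ ∉ centralizer (U : Set G) := fun k => tc (by
    have := conj_inv_mem_of_mem_normalizer (normalizer_le_normalizer_centralizer U hn) k
    simpa [mul_assoc] using this)
  have fpf : U ⊓ centralizer ({t * (g * t * g⁻¹)} : Set G) = ⊥ := by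
    rw [eq_bot_iff]
    intro v hv
    by_contra v1
    have e : g * t * g⁻¹ * v * (g * t * g⁻¹)⁻¹ = t⁻¹ * v * t⁻¹⁻¹ := by
      have := mem_centralizer_singleton_iff.1 hv.2
      calc _ = t⁻¹ * (t * (g * t * g⁻¹) * v) * (g * t * g⁻¹)⁻¹ := by group
        _ = _ := by rw [← this]; group
    have fix : t⁻¹ * v * t⁻¹⁻¹ ≠ v := fun e1 => mv (ba_cen.2 (
      (four_fix (h.four U hU) t'c hu' hv.1 (conj_ne_one pu.1) v1 t'u (ba_cen.2 (e.trans e1))).trans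
      (four_fix (h.four U hU) tc hv.1 hu v1 pu.1 (inv_mem_iff.1 (ba_cen.2 e1)) tu)))
    have e1 := (four_commutator (h.four U hU) hu pu.1 (inv_mem tn) (inv_mem tu) hv.1).resolve_left fix
    have e2 := (four_commutator (h.four U hU) hu' (conj_ne_one pu.1) t'n t'u hv.1).resolve_left
      fun e2 => fix (e.symm.trans e2)
    exact mv (ba_cen.2 (mul_left_cancel (e2.symm.trans (e.trans e1))))
  obtain ⟨k, ho, fk⟩ := ba_odd_part (h.four U hU) (mul_mem tn t'n) fpf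
  obtain ⟨s, hs, rfl⟩ := h.trans U hU V hV
  have xP : t * (g * t * g⁻¹) ∈ P := mul_mem tP (mul_mem (mul_mem hg tP) (inv_mem hg))
  refine ⟨s * (t * (g * t * g⁻¹)) ^ k * s⁻¹,
    mul_mem (mul_mem (h.syl.le hs) (pow_mem xP k)) (inv_mem (h.syl.le hs)), ?_, ?_, ?_⟩
  · rwa [← MulAut.conj_apply, MulEquiv.orderOf_eq]
  · rw [← conjS_cen1, ← conjS_inf, fk, conjS_bot]
  · rw [← h.oth_conj (h.syl.le hs), ← conjS_centralizer, conj_mem_conjS]
    exact pow_mem (mul_mem (hc ht) (conj_mem_of_mem_normalizer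
      (normalizer_le_normalizer_centralizer _ (h.norm_oth hg hn)) (hc ht))) k

theorem S_inf_cen : sSup 𝒱 ⊓ centralizer (pResOf 2 P : Set G) = ⊥ := by
  obtain ⟨V, hV⟩ := h.ne
  rw [eq_bot_iff]
  intro s hs
  obtain ⟨v, hv, w, hw, rfl⟩ := h.decomp hV hs.1
  obtain ⟨x, xP, xo, fx, xc⟩ := h.exists_odd hV
  have e := hs.2 x (mem_pResOf xP (Nat.coprime_two_right.2 xo))
  have v1 : v ∈ V ⊓ centralizer ({x} : Set G) := ⟨hv, mem_centralizer_singleton_iff.2 (by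
    rw [mul_assoc, xc w hw, ← mul_assoc, ← mul_assoc, mul_left_inj] at e
    exact e.symm)⟩
  rw [fx, mem_bot] at v1
  rw [v1, one_mul] at hs ⊢
  rcases h.two.oth_cases hV with ⟨-, e1⟩ | ⟨hW, -, -⟩
  · rwa [e1] at hw
  obtain ⟨y, yP, yo, fy, -⟩ := h.exists_odd hW
  rw [← fy]
  exact ⟨hw, mem_centralizer_singleton_iff.2
    (hs.2 y (mem_pResOf yP (Nat.coprime_two_right.2 yo))).symm⟩

theorem exists_allowed (hV : V ∈ 𝒱) {z : G} (hz : z ∈ V) (h1 : z ≠ 1) :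
    ∃ g ∈ P, z ∉ Pt (conjS g T) 𝒱 := by
  by_cases k : z ∈ Pt T 𝒱
  swap
  · exact ⟨1, one_mem _, by rwa [conjS_one]⟩
  obtain ⟨x, xP, xo, fx, -⟩ := h.exists_odd hV
  refine ⟨x, xP, fun k' => h1 ?_⟩
  rw [← h.image_conj xP, show z = x * (x⁻¹ * z * x) * x⁻¹ by group, Pt_conj] at k'
  have e := h.pt_uniq hV (conj_inv_mem_of_mem_normalizer (h.norm_of_odd hV xP xo) hz) hz k' k
  rw [← mem_bot, ← fx]
  exact ⟨hz, mem_centralizer_singleton_iff.2 (by rw [← inv_mul_eq_iff_eq_mul, ← mul_assoc, e])⟩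

theorem mono (hT : T ≤ H) (hH : H ≤ P)
    (hn : ¬ H ≤ centralizer ((sSup 𝒱 ⊓ centralizer (T : Set G) : Subgroup G) : Set G)) : FP0 T H 𝒱 :=   ⟨h.syl.mono hT hH, h.ne, h.four, h.le, fun g hg => h.conj g (hH hg), h.two, h.disj, h.comm,
    h.trans, h.jn, h.jc, hn⟩

theorem exists_fp : ∃ P₀ ≤ P, FP T P₀ 𝒱 := by
  obtain ⟨H, ⟨h1, h2, h3⟩, hmin⟩ := Set.exists_min_image {H : Subgroup G | T ≤ H ∧ H ≤ P ∧
    ¬ H ≤ centralizer ((sSup 𝒱 ⊓ centralizer (T : Set G) : Subgroup G) : Set G)}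
    (fun H => Nat.card H) (Set.toFinite _) ⟨P, h.syl.le, le_rfl, h.nc⟩
  refine ⟨H, h2, h.mono h1 h2 h3, fun K k1 k2 => ?_⟩
  by_contra k3
  exact k2.ne (eq_of_le_of_card_ge k2.le (hmin K ⟨k1, k2.le.trans h2, k3⟩))

end FP0

end CfsgLib.QT5
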