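import Mathlib
import Cfsg.Agent.Lib.QT5.BA
import Cfsg.Agent.Lib.QT1.Push23

/-!
BB: cores, normal subgroups and pushing up for `FP`.
-/

set_option autoImplicit false

namespace CfsgLib.QT5

open Subgroup Cfsg CfsgLib.LAE CfsgLib.PLocal CfsgLib.ZN
open scoped commutatorElement

variable {G : Type*} [Group G] [Finite G] {T T' P P' R H M V V' W U : Subgroup G}
  {𝒱 𝒱' 𝒰 𝒲 : Set (Subgroup G)}

namespace BB

omit [Finite G] in
theorem conjS_sSup (g : G) (F : Set (Subgroup G)) : conjS g (sSup F) = sSup (conjS g '' F) := by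
  rw [sSup_image, sSup_eq_iSup, conjS_iSup]
  exact iSup_congr fun A => conjS_iSup g _

omit [Finite G] in
theorem conj_mem_cen {g a z : G} :
    g * a * g⁻¹ ∈ centralizer ({g * z * g⁻¹} : Set G) ↔ a ∈ centralizer ({z} : Set G) := by
  simp only [mem_centralizer_singleton_iff]
  constructor
  · intro e
    have : a * z = g⁻¹ * (g * a * g⁻¹ * (g * z * g⁻¹)) * g := by group
    rw [this, e]; group
  · intro e
    have : g * a * g⁻¹ * (g * z * g⁻¹) = g * (a * z) * g⁻¹ := by group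
    rw [this, e]; group

/-- members and the other member are normalized together -/
theorem norm_oth (h : FP0 T P 𝒱) (hV : V ∈ 𝒱) {g : G} (hg : g ∈ P) (hn : g ∈ normalizer (V : Set G)) :
    g ∈ normalizer (oth 𝒱 V : Set G) := by
  rcases h.two.oth_cases hV with ⟨-, e⟩ | ⟨e, -, -⟩
  · rw [e]; exact mem_normalizer_iff_conjS.2 (conjS_bot g)
  · exact h.norm_all hV e hg hn

/-- a subgroup normalized by `P` that centralizes `Z₀` centralizes `S` -/
theorem cen_S (h : FP0 T P 𝒱) {K : Subgroup G} (hK : P ≤ normalizer (K : Set G))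
    (hc : K ≤ centralizer ((sSup 𝒱 ⊓ centralizer (T : Set G) : Subgroup G) : Set G)) :
    K ≤ centralizer ((sSup 𝒱 : Subgroup G) : Set G) := by
  refine le_centralizer_iff.1 (sSup_le fun V hV => ?_)
  obtain ⟨z, hz, hp⟩ := h.exists_pt hV
  obtain ⟨w, hw, e⟩ := h.fix_eq hV hz hp
  obtain ⟨x, hx, ho, hf, hxo⟩ := h.exists_odd hV
  have hxV := h.norm_of_odd hV hx ho
  have hxC : x ∈ normalizer ((centralizer (K : Set G) : Subgroup G) : Set G) :=
    le_normalizer_centralizer hK hx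
  have h1 : z * w ∈ centralizer (K : Set G) := le_centralizer_iff.1 hc (e ▸ mem_zpowers _)
  have h2 := conj_mem_of_mem_normalizer hxC h1
  have h3 : x * w * x⁻¹ = w := by rw [← hxo w hw]; group
  have h4 : x * z * x⁻¹ * z⁻¹ ∈ V ⊓ centralizer (K : Set G) := by
    refine mem_inf.2 ⟨mul_mem (conj_mem_of_mem_normalizer hxV hz) (inv_mem hz), ?_⟩
    have : x * z * x⁻¹ * z⁻¹ = x * (z * w) * x⁻¹ * (z * w)⁻¹ := by
      rw [show x * (z * w) * x⁻¹ = x * z * x⁻¹ * (x * w * x⁻¹) by group, h3]; group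
    rw [this]; exact mul_mem h2 (inv_mem h1)
  have h5 : x ∈ normalizer ((V ⊓ centralizer (K : Set G) : Subgroup G) : Set G) :=
    le_normalizer_inf (L := zpowers x) (zpowers_le.2 hxV) (zpowers_le.2 hxC) (mem_zpowers x)
  rcases (h.four V hV).eq_bot_or_eq hf inf_le_left h5 with e1 | e1
  · rw [e1, mem_bot] at h4
    have : z ∈ V ⊓ centralizer ({x} : Set G) := ⟨hz, mem_centralizer_singleton_iff.2 (by
      rw [show z * x = (x * z * x⁻¹ * z⁻¹)⁻¹ * (x * z) by group, h4]; group)⟩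
    rw [hf, mem_bot] at this
    exact absurd this hp.1
  · exact e1.ge.trans inf_le_right

/-- a `2`-subgroup of a group `X = O²(X)` acting on a four-group centralizes it -/
theorem two_le_cen (hV : IsFour V) {X D : Subgroup G} (hX : pResOf 2 X = X)
    (hn : X ≤ normalizer (V : Set G)) (hD : IsPGroup 2 D) (hDX : D ≤ X) :
    D ≤ centralizer (V : Set G) := by
  by_cases hc : X ≤ centralizer (V : Set G)
  · exact hDX.trans hc
  obtain ⟨d, hd, ho, hf⟩ := hV.exists_fpf hX hn hc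
  have hdC : d ∉ centralizer (V : Set G) := fun k => hV.ne_bot (by
    rw [← hf]; exact (inf_eq_left.2 fun v hv => mem_centralizer_singleton_iff.2 (k v hv)).symm)
  set C := centralizer (V : Set G) with hC
  set N := normalizer (V : Set G) with hN
  have hCN : C ≤ N := le_normalizer_of_le_centralizer le_rfl
  have hNC : N ≤ normalizer (C : Set G) := normalizer_le_normalizer_centralizer V
  have hEN : zpowers d ⊔ C ≤ N := sup_le (zpowers_le.2 (hn hd)) hCN
  have h6 := hV.relIndex_dvd_six (X := N) le_rfl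
  have h1 : C.relIndex (zpowers d ⊔ C) = C.relIndex (zpowers d) :=
    relIndex_sup_of_le_normalizer ((le_sup_left.trans hEN).trans hNC)
  have h2 : C.relIndex (zpowers d) ∣ orderOf d := by
    rw [← Nat.card_zpowers]; exact relIndex_dvd_card_self _ _
  have h3 : C.relIndex (zpowers d) ≠ 1 := fun e => hdC (relIndex_eq_one.1 e (mem_zpowers d))
  have h4 := relIndex_mul_relIndex C (zpowers d ⊔ C) N le_sup_right hEN
  have h5 : Odd (C.relIndex (zpowers d)) := ho.of_dvd_nat h2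
  rw [← hC, ← h4, h1] at h6
  have h7 : C.relIndex (zpowers d) = 3 := by
    have := Nat.le_of_dvd (by norm_num) (Dvd.dvd.trans (Dvd.intro _ rfl) h6)
    have h8 := Dvd.dvd.trans (Dvd.intro _ rfl) h6
    generalize C.relIndex (zpowers d) = m at *
    interval_cases m <;> simp_all (config := {decide := true})
  rw [h7] at h6
  have h8 : (zpowers d ⊔ C).relIndex N ≤ 2 := by
    have := Nat.le_of_dvd (by norm_num) h6; omega
  have h9 : (zpowers d ⊔ C).relIndex N ≠ 0 := by
    intro e; rw [e] at h6; norm_num at h6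
  have hXE : X ≤ zpowers d ⊔ C := by
    rw [← hX]
    refine (pResOf_mono hn).trans (pResOf_le_of_forall_pow_mem fun y hy => ⟨1, ?_⟩)
    exact (pow_mem_of_relIndex_ne_zero_of_dvd h9 hy fun m m0 m2 => by
      have : m ≤ 2 := m2.trans h8
      interval_cases m <;> norm_num).1
  have h10 : C.relIndex D ∣ 3 := by
    rw [← h7, ← h1]; exact relIndex_dvd_relIndex_of_le_normalizer (hDX.trans hXE) (hEN.trans hNC)
  obtain ⟨k, hk⟩ := IsPGroup.iff_card.1 hD
  have h11 : C.relIndex D ∣ 2 ^ k := hk ▸ relIndex_dvd_card_self _ _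
  exact relIndex_eq_one.1 (Nat.eq_one_of_dvd_coprimes
    (Nat.Coprime.pow_right k (by norm_num : Nat.Coprime 3 2)) h10 h11)

omit [Finite G] in
theorem T_le_cen : T ≤ centralizer ((sSup 𝒱 ⊓ centralizer (T : Set G) : Subgroup G) : Set G) :=
  le_centralizer_iff.1 inf_le_right

end BB

open BB

theorem FP0.mul (h : FP0 T P 𝒱) {g : G} (hg : g ∈ P) : ∃ x ∈ pResOf 2 P, ∃ t ∈ T, g = x * t := by
  exact h.syl.exists_mul hg

theorem FP0.core_le (h : FP0 T P 𝒱) :
    pCoreOf 2 P ≤ T ⊓ centralizer ((sSup 𝒱 : Subgroup G) : Set G) := by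
  exact le_inf h.syl.pCoreOf_le (cen_S h (le_normalizer_pCoreOf P) (h.syl.pCoreOf_le.trans T_le_cen))

theorem FP0.S_le_core (h : FP0 T P 𝒱) : sSup 𝒱 ≤ pCoreOf 2 P := by
  exact le_pCoreOf (elemAb_isPGroup h.elemAb) (h.S_le.trans h.syl.le) h.norm_S

theorem FP0.inf_res_le_cen (h : FP0 T P 𝒱) :
    T ⊓ pResOf 2 P ≤ centralizer ((sSup 𝒱 : Subgroup G) : Set G) := by
  refine le_centralizer_iff.1 (sSup_le fun V hV => le_centralizer_iff.1 ?_)
  exact two_le_cen (h.four V hV) (pResOf_pResOf P) (h.res_le_norm hV)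
    (h.syl.isPGroup.to_le inf_le_left) inf_le_right

namespace FP
variable (h : FP T P 𝒱)
include h

theorem conjugate (g : G) : FP (conjS g T) (conjS g P) (conjS g '' 𝒱) := by
  refine ⟨h.toFP0.conjugate g, fun H h1 h2 => ?_⟩
  have h3 := h.max (conjS g⁻¹ H) (conjS_le_iff.1 h1) (lt_of_le_of_ne (le_conjS_iff.1 h2.le) fun e =>
    h2.ne (by rw [← e, conjS_conjS_inv]))
  rw [← conjS_sSup, ← conjS_centralizer, ← conjS_inf, ← conjS_centralizer]
  exact le_conjS_iff.2 h3

theorem conj_mem {g : G} (hg : g ∈ P) : FP (conjS g T) P 𝒱 := by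
  have := h.conjugate g
  rwa [conjS_eq_of_mem hg, h.image_conj hg] at this

theorem core : pCoreOf 2 P = T ⊓ centralizer ((sSup 𝒱 : Subgroup G) : Set G) := by
  refine le_antisymm h.core_le ?_
  have hK : P ≤ normalizer ((P ⊓ centralizer ((sSup 𝒱 : Subgroup G) : Set G) : Subgroup G) : Set G) :=
    le_normalizer_inf le_normalizer (le_normalizer_centralizer h.norm_S)
  have hR := h.syl.inf_of_normal inf_le_left hK
  have e : T ⊓ (P ⊓ centralizer ((sSup 𝒱 : Subgroup G) : Set G)) =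
      T ⊓ centralizer ((sSup 𝒱 : Subgroup G) : Set G) := by
    rw [← inf_assoc, inf_eq_left.2 h.syl.le]
  rw [e] at hR
  have hF := hR.frattini_sup inf_le_left hK
  by_cases hn : P ≤ normalizer ((T ⊓ centralizer ((sSup 𝒱 : Subgroup G) : Set G) : Subgroup G) : Set G)
  · exact le_pCoreOf hR.isPGroup (inf_le_left.trans h.syl.le) hn
  · refine absurd (hF.ge.trans (sup_le (inf_le_right.trans (centralizer_anti inf_le_left))
      (h.max _ (le_inf h.syl.le (le_normalizer_inf le_normalizer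
        (le_normalizer_centralizer (h.syl.le.trans h.norm_S)))) ?_))) h.nc
    exact lt_of_le_of_ne inf_le_left fun k => hn (k.ge.trans inf_le_right)

theorem le_core {D : Subgroup G} (hD : IsPGroup 2 D) (h1 : D ≤ P)
    (h2 : D ≤ centralizer ((sSup 𝒱 : Subgroup G) : Set G)) : D ≤ pCoreOf 2 P := by
  have hK : P ≤ normalizer ((P ⊓ centralizer ((sSup 𝒱 : Subgroup G) : Set G) : Subgroup G) : Set G) :=
    le_normalizer_inf le_normalizer (le_normalizer_centralizer h.norm_S)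
  have hR := h.syl.inf_of_normal inf_le_left hK
  rw [← inf_assoc, inf_eq_left.2 h.syl.le, ← h.core] at hR
  exact hR.le_of_normalizes hD (le_inf h1 h2) (h1.trans (le_normalizer_pCoreOf P))

/-- a normal subgroup acting nontrivially contains `O²(P)` -/
theorem res_le {K : Subgroup G} (h1 : K ≤ P) (h2 : P ≤ normalizer (K : Set G))
    (h3 : ¬ K ≤ centralizer ((sSup 𝒱 : Subgroup G) : Set G)) : pResOf 2 P ≤ K := by
  have e : T ⊔ K = P := by
    by_contra hne
    exact h3 (cen_S h.toFP0 h2 (le_sup_right.trans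
      (h.max _ le_sup_left (lt_of_le_of_ne (sup_le h.syl.le h1) hne))))
  rw [← e, pResOf_sup_of_isPGroup h.syl.isPGroup (h.syl.le.trans h2)]
  exact pResOf_le K

theorem res_le_nclIn : pResOf 2 P ≤ nclIn (thompsonSubgroupOf 2 T) P := by
  obtain ⟨V, hV⟩ := h.ne
  exact h.res_le (nclIn_le_of_le ((thompsonSubgroupOf_le T).trans h.syl.le)) (le_normalizer_nclIn _ _)
    fun k => h.jc V hV (((le_nclIn _ _).trans k).trans (centralizer_anti (le_sSup hV)))

/-- generation by `T` and an element moving a point inside its four-group -/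
theorem le_of_move (hT : T ≤ H) (hV : V ∈ 𝒱) {g z : G} (hg : g ∈ P) (hgH : g ∈ H)
    (hn : g ∈ normalizer (V : Set G)) (hz : z ∈ V) (hp : z ∈ Pt T 𝒱) (hm : g ∉ centralizer ({z} : Set G)) :
    P ≤ H := by
  by_contra hPH
  have h1 := h.max (P ⊓ H) (le_inf h.syl.le hT)
    (lt_of_le_of_ne inf_le_left fun k => hPH (k.ge.trans inf_le_right)) ⟨hg, hgH⟩
  obtain ⟨w, hw, e⟩ := h.fix_eq hV hz hp
  have h2 : z * w * g = g * (z * w) := h1 _ (e ▸ mem_zpowers _)
  have h3 : z⁻¹ * (g * z * g⁻¹) ∈ V ⊓ oth 𝒱 V := by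
    refine mem_inf.2 ⟨mul_mem (inv_mem hz) (conj_mem_of_mem_normalizer hn hz), ?_⟩
    have : z⁻¹ * (g * z * g⁻¹) = w * (g * w * g⁻¹)⁻¹ := by
      rw [show z⁻¹ * (g * z * g⁻¹) = z⁻¹ * (g * (z * w)) * g⁻¹ * (g * w * g⁻¹)⁻¹ by group, ← h2]; group
    rw [this]
    exact mul_mem hw (inv_mem (conj_mem_of_mem_normalizer (norm_oth h.toFP0 hV hg hn) hw))
  rw [h.inf_oth hV, mem_bot] at h3
  refine hm (mem_centralizer_singleton_iff.2 ?_)
  rw [show g * z = z * (z⁻¹ * (g * z * g⁻¹)) * g by group, h3]; group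

theorem inf_res_le : T ⊓ pResOf 2 P ≤ pCoreOf 2 P := by
  rw [h.core]
  exact le_inf inf_le_left h.inf_res_le_cen

theorem inf_res_le_commutator : T ⊓ pResOf 2 P ≤ ⁅pCoreOf 2 P, pResOf 2 P⁆ := by
  exact BHS.le_of_central (pResOf_pResOf P) ((pResOf_le P).trans
    (le_normalizer_commutator (le_normalizer_pCoreOf P) (le_normalizer_pResOf P)))
    (h.syl.inf_of_normal (pResOf_le P) (le_normalizer_pResOf P))
    (commutator_mono h.inf_res_le inf_le_right) le_rfl (commutator_mono h.inf_res_le le_rfl)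

/-- pushing up (`QT1.pushing'`) -/
theorem push (ec : QT1.EC T) {D : Subgroup G} (h0 : D ≠ ⊥) (h1 : D ≤ T) (h2 : T ⊓ pResOf 2 P ≤ D)
    (hT : T ≤ M) (hM : M ≤ normalizer (D : Set G)) :
    ∃ N : Subgroup G, N ≠ ⊥ ∧ N ≤ D ∧ M ≤ normalizer (N : Set G) ∧ P ≤ normalizer (N : Set G) := by
  have hX := h.syl.inf_of_normal (pResOf_le (p := 2) P) (le_normalizer_pResOf P)
  have hDX : D ≤ normalizer (pResOf 2 P : Set G) := (h1.trans h.syl.le).trans (le_normalizer_pResOf P)
  have hs : IsSylowIn 2 D (pResOf 2 P ⊔ D) := by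
    refine ⟨le_sup_right, h.syl.isPGroup.to_le h1, fun Q q1 q2 q3 => le_antisymm ?_ q2⟩
    have e := inf_sup_of_le_of_le_normalizer' (N := pResOf 2 P) hDX q2
    rw [inf_eq_left.2 q3] at e
    rw [e, hX.eq_of_le (Q ⊓ pResOf 2 P) (q1.to_le inf_le_left) (le_inf (h2.trans q2) inf_le_right)
      inf_le_right]
    exact sup_le h2 le_rfl
  obtain ⟨N, n0, n1, n2⟩ := QT1.pushing' (H := P)
    (MH := P ⊓ centralizer ((sSup 𝒱 ⊓ centralizer (T : Set G) : Subgroup G) : Set G)) ec hT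
    (fun e => h.S_ne (le_bot_iff.1 (h.S_le_core.trans e.le))) (le_inf h.syl.le T_le_cen)
    (lt_of_le_of_ne inf_le_left fun k => h.nc (k.ge.trans inf_le_right))
    (fun X x1 x2 => le_inf x2.le (h.max X x1 x2)) h0 h1 hs hM
  exact ⟨N, n0, n1, le_sup_left.trans n2, le_sup_right.trans n2⟩

end FP

theorem Am.conjugate (h : Am T P R 𝒱 𝒰) (g : G) :
    Am (conjS g T) (conjS g P) (conjS g R) (conjS g '' 𝒱) (conjS g '' 𝒰) := by
  refine ⟨h.fp.conjugate g, h.fr.conjugate g, fun N n1 n2 n3 => ?_, ?_, ?_⟩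
  · refine conjS_eq_bot_iff.1 (h.noN (conjS g⁻¹ N) (le_conjS_iff.1 n1) ?_ ?_)
    · rw [← conjS_normalizer]; exact conjS_le_iff.1 n2
    · rw [← conjS_normalizer]; exact conjS_le_iff.1 n3
  · rw [← conjS_pResOf, ← conjS_inf, ← conjS_pCoreOf, conjS_le_conjS_iff]; exact h.sp
  · rw [← conjS_pResOf, ← conjS_inf, ← conjS_pCoreOf, conjS_le_conjS_iff]; exact h.sr

theorem Am.conj_mem (h : Am T P R 𝒱 𝒰) {g : G} (hg : g ∈ P) :
    Am (conjS g T) P (conjS g R) 𝒱 (conjS g '' 𝒰) := by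
  have := h.conjugate g
  rwa [conjS_eq_of_mem hg, h.fp.image_conj hg] at this

theorem gd_conj (g : G) : Gd (conjS g T) (conjS g P) (conjS g '' 𝒰) ↔ Gd T P 𝒰 := by
  constructor
  · intro k u hu x hx
    refine (conj_mem_cen (g := g)).1 (k _ ((Pt_conj g).2 hu) ?_)
    rw [← conjS_pResOf]; exact conj_mem_conjS.2 hx
  · intro k u hu x hx
    rw [← conjS_pResOf] at hx
    obtain ⟨y, hy, rfl⟩ := exists_of_mem_conjS hx
    have e : u = g * (g⁻¹ * u * g) * g⁻¹ := by group
    rw [e] at hu ⊢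
    exact conj_mem_cen.2 (k _ ((Pt_conj g).1 hu) hy)

theorem Am.pt_inv (h : Am T P R 𝒱 𝒰) (k : Gd T P 𝒰) {g : G} (hg : g ∈ P) :
    Pt (conjS g T) (conjS g '' 𝒰) = Pt T 𝒰 := by
  obtain ⟨x, hx, t, ht, rfl⟩ := h.fp.mul hg
  have e1 : conjS (x * t) T = conjS x T := by rw [conjS_mul, conjS_eq_of_mem ht]
  have e2 : conjS (x * t) '' 𝒰 = conjS x '' 𝒰 := by
    conv_rhs => rw [← h.fr.image_conj (h.fr.syl.le ht), Set.image_image]
    exact Set.image_congr fun A _ => conjS_mul x t A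
  rw [e1, e2]
  have key : ∀ u ∈ Pt T 𝒰, x * u * x⁻¹ = u := fun u hu => by
    rw [mem_centralizer_singleton_iff.1 (k u hu hx)]; group
  ext u
  constructor
  · intro hu
    have e : u = x * (x⁻¹ * u * x) * x⁻¹ := by group
    rw [e] at hu
    have := (Pt_conj x).1 hu
    rw [e, key _ this]; exact this
  · intro hu
    rw [← key u hu]; exact (Pt_conj x).2 hu

end CfsgLib.QT5
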