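import Mathlib
import Cfsg.Agent.Lib.QT5.Defs
import Cfsg.Agent.Lib.QT1.CC

/-!
RK: at most two components.
-/

set_option autoImplicit false

namespace CfsgLib.QT5

open Subgroup Cfsg CfsgLib.LAE CfsgLib.PLocal CfsgLib.ZN
open scoped commutatorElement

variable {G : Type*} [Group G] [Finite G] {T T' P P' R H M V V' W U : Subgroup G}
  {𝒱 𝒱' 𝒰 𝒲 : Set (Subgroup G)}

theorem gl23_cyc {B : Subgroup (GL (Fin 2) (ZMod 3))} (hB : IsPGroup 2 B) :
    ∃ c, (zpowers c).relIndex B ≤ 2 := by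
  obtain ⟨S, hS⟩ := hB.exists_le_sylow
  let c₀ : GL (Fin 2) (ZMod 3) := ⟨!![1, 1; 1, 0], !![0, 1; 1, 2], by decide, by decide⟩
  have h8 : orderOf c₀ = 2 ^ 3 := orderOf_eq_prime_pow (by decide) (by decide)
  obtain ⟨g, hg⟩ := SylTools.exists_conj_mem_sylow h8 S
  have h48 : Nat.card (GL (Fin 2) (ZMod 3)) = 48 := by
    rw [Matrix.card_GL_field]; simp [Fin.prod_univ_two]
  have h16 : Nat.card (S : Subgroup (GL (Fin 2) (ZMod 3))) = 16 := by
    rw [S.card_eq_multiplicity, h48, show (48 : ℕ) = 2 ^ 4 * 3 by norm_num,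
      Nat.factorization_mul (by norm_num) (by norm_num), Nat.Prime.factorization_pow Nat.prime_two,
      Nat.Prime.factorization Nat.prime_three]
    simp
  have h := Core.card_mul_relIndex_of_le (zpowers_le.2 hg)
  rw [Nat.card_zpowers, show orderOf (g * c₀ * g⁻¹) = orderOf c₀ from (MulAut.conj g).orderOf_eq c₀,
    h8, h16] at h
  exact ⟨g * c₀ * g⁻¹, (relIndex_le_of_le_right hS (by omega)).trans (by omega)⟩

/-- the preimage of `A₃` -/
theorem exists_even {N P Y : Subgroup G} (hW : IsFour W) (hN : N ≤ normalizer (W : Set G))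
    (hP : IsSylowIn 3 P N) (hY : Y ≤ N) (h6 : (centralizer (W : Set G)).relIndex Y = 6) :
    ∃ E : Subgroup G, (∀ g ∈ N, g ^ 2 ∈ E) ∧ ¬ Y ≤ E ∧ N ⊓ centralizer (W : Set G) ≤ E ∧
      ∀ R : Subgroup G, IsPGroup 2 R → R ≤ N → R ≤ centralizer (P : Set G) → R ≤ E := by
  have hNC := le_normalizer_centralizer hN
  have hEN : P ⊔ N ⊓ centralizer (W : Set G) ≤ N := sup_le hP.le inf_le_left
  refine ⟨P ⊔ N ⊓ centralizer (W : Set G), ?_, fun h => ?_, le_sup_right, fun R h1 h2 h3 => ?_⟩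
  · have h1 : (P ⊔ N ⊓ centralizer (W : Set G)).relIndex N ∣ 3 * 2 := by
      refine (relIndex_dvd_of_le_left _ le_sup_right).trans ?_
      rw [inf_relIndex_left]; exact hW.relIndex_dvd_six hN
    have h2 : ¬ 3 ∣ (P ⊔ N ⊓ centralizer (W : Set G)).relIndex N := fun h =>
      hP.not_dvd_relIndex (h.trans (relIndex_dvd_of_le_left _ le_sup_left))
    obtain ⟨a, -, ha⟩ := relIndex_dvd_two_iff.1
      (((Nat.Prime.coprime_iff_not_dvd Nat.prime_three).2 h2).symm.dvd_of_dvd_mul_left h1)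
    intro g hg
    rcases ha g hg with h3 | h3
    · rcases ha g⁻¹ (inv_mem hg) with h4 | h4
      · have := mul_mem h3 (inv_mem h4)
        rwa [show g * a * (g⁻¹ * a)⁻¹ = g ^ 2 by rw [sq]; group] at this
      · exact pow_mem (inv_mem_iff.1 h4) _
    · exact pow_mem h3 _
  · have h1 := relIndex_dvd_relIndex_of_le_normalizer h (hEN.trans hNC)
    have h2 := Core.card_sup_dvd_of_le_normalizer (H := P) (N := N ⊓ centralizer (W : Set G))
      (hP.le.trans (le_normalizer_inf le_normalizer hNC))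
    rw [← Core.card_mul_relIndex_of_le le_sup_right, mul_comm] at h2
    have h3 := (h1.trans (relIndex_dvd_of_le_left _ inf_le_right)).trans
      (Nat.dvd_of_mul_dvd_mul_right Nat.card_pos h2)
    obtain ⟨k, hk⟩ := hP.isPGroup.exists_card_eq
    rw [h6, hk] at h3
    exact absurd (Nat.prime_two.dvd_of_dvd_pow ((by norm_num : 2 ∣ 6).trans h3)) (by norm_num)
  · obtain ⟨d, hd, hc⟩ : ∃ d ∈ P, d ∉ centralizer (W : Set G) := by
      by_contra hc
      push Not at hc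
      refine hP.not_dvd_relIndex (dvd_trans ?_ (relIndex_dvd_of_le_left _ hc))
      exact (by rw [h6]; norm_num : 3 ∣ _).trans (relIndex_dvd_relIndex_of_le_normalizer hY hNC)
    obtain ⟨k, hk⟩ := SylTools.exists_orderOf_eq_pow_of_mem hP.isPGroup hd
    have h4 := hW.le_centralizer_of_fpf (hN (hP.le hd))
      (hW.fpf_of_odd (hN (hP.le hd)) (by rw [hk]; exact Odd.pow (by decide)) hc) h1 (h2.trans hN)
      (centralizer_le_normalizer _ (le_centralizer_iff.1 h3 hd))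
    exact (le_inf h2 h4).trans le_sup_right

/-- a `2`-group acting on a `3`-group of rank at most two -/
theorem card_le_four {M : Type*} [Group M] [Finite M] (Q : Subgroup M) [Q.Normal]
    (hQ : IsPGroup 3 Q) (hr : PRankLE 3 2 Q) {A E : Subgroup M} (hA : IsPGroup 2 A)
    (h2 : ∀ a ∈ A, a ^ 2 ∈ E) (hE : A ⊓ centralizer (Q : Set M) ≤ E) :
    Nat.card A ≤ 4 * Nat.card (A ⊓ E : Subgroup M) := by
  obtain ⟨f, hf, -⟩ := QT1.exists_gl2 (p := 3) (by norm_num) Q hQ hr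
  obtain ⟨c, hc⟩ := gl23_cyc (hA.map f)
  rw [← relIndex_comap] at hc
  set D := (zpowers c).comap f ⊓ A with hD
  obtain ⟨n, hn⟩ := (le_zpowers_iff c (D.map f)).1 (map_le_iff_le_comap.2 inf_le_left)
  obtain ⟨d, hd, hdn⟩ : c ^ n ∈ D.map f := hn ▸ mem_zpowers _
  have h3 : E.relIndex D ∣ 2 := by
    refine relIndex_dvd_two_iff.2 ⟨d, hd, fun b hb => ?_⟩
    obtain ⟨k, hk⟩ : f b ∈ Submonoid.powers (c ^ n) :=
      mem_powers_iff_mem_zpowers.2 (hn ▸ mem_map_of_mem f hb)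
    have h4 : b * (d ^ k)⁻¹ ∈ A := mul_mem hb.2 (inv_mem (pow_mem hd.2 _))
    have h5 : b * (d ^ k)⁻¹ ∈ E := by
      refine hE ⟨h4, hf (mem_pResOf ?_ ?_)⟩
      · rw [MonoidHom.mem_ker, map_mul, map_inv, map_pow, hdn, ← hk, mul_inv_cancel]
      · obtain ⟨j, hj⟩ := SylTools.exists_orderOf_eq_pow_of_mem hA h4
        rw [hj]; exact Nat.Coprime.pow_left _ (by norm_num)
    obtain ⟨j, rfl | rfl⟩ := Nat.even_or_odd' k
    · right
      have := mul_mem h5 (pow_mem (h2 d hd.2) j)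
      rwa [← pow_mul, inv_mul_cancel_right] at this
    · left
      have := mul_mem h5 (pow_mem (h2 d hd.2) (j + 1))
      rwa [← pow_mul, show 2 * (j + 1) = 2 * j + 1 + 1 by ring, pow_succ d (2 * j + 1), ← mul_assoc,
        inv_mul_cancel_right] at this
  have h6 := Core.card_inf_mul_relIndex ((zpowers c).comap f) A
  have h7 := Core.card_inf_mul_relIndex E D
  have h8 : Nat.card (E ⊓ D : Subgroup M) ≤ Nat.card (A ⊓ E : Subgroup M) :=
    card_le_of_le (le_inf (inf_le_right.trans inf_le_right) inf_le_left)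
  have h9 := Nat.le_of_dvd two_pos h3
  rw [← hD] at h6
  calc Nat.card A ≤ Nat.card D * 2 := h6 ▸ Nat.mul_le_mul_left _ hc
    _ ≤ Nat.card (A ⊓ E : Subgroup M) * 2 * 2 :=
      Nat.mul_le_mul_right _ (h7 ▸ Nat.mul_le_mul h8 h9)
    _ = _ := by ring

theorem Fm.two (h : Fm T H 𝒲) (hT : IsSylowIn 2 T H) (hq : IsStronglyQuasithin H) : Two 𝒲 := by
  intro W₁ m₁ W₂ m₂ W₃ m₃
  by_contra hc
  push Not at hc
  obtain ⟨n12, n13, n23⟩ := hc
  set N := nclIn (thompsonSubgroupOf 2 T) H with hN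
  have hNH : N ≤ H := nclIn_le_of_le ((thompsonSubgroupOf_le _).trans hT.le)
  obtain ⟨P, hP⟩ := exists_isSylowIn 3 N
  obtain ⟨Y₁, l₁, -, i₁, -⟩ := h.big W₁ m₁
  obtain ⟨Y₂, l₂, -, i₂, c₂⟩ := h.big W₂ m₂
  obtain ⟨Y₃, l₃, -, i₃, c₃⟩ := h.big W₃ m₃
  obtain ⟨E₁, s₁, y₁, k₁, r₁⟩ := exists_even (h.four _ m₁) (h.jn _ m₁) hP l₁ i₁
  obtain ⟨E₂, s₂, y₂, k₂, r₂⟩ := exists_even (h.four _ m₂) (h.jn _ m₂) hP l₂ i₂
  obtain ⟨E₃, s₃, y₃, -, r₃⟩ := exists_even (h.four _ m₃) (h.jn _ m₃) hP l₃ i₃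
  have sq : ∀ g ∈ N, g ^ 2 ∈ E₁ ⊓ E₂ ⊓ E₃ := fun g hg => ⟨⟨s₁ g hg, s₂ g hg⟩, s₃ g hg⟩
  have hres : pResOf 2 N ≤ E₁ ⊓ E₂ ⊓ E₃ :=
    pResOf_le_of_forall_pow_mem fun g hg => ⟨1, by simpa using sq g hg⟩
  set M := N ⊓ normalizer (P : Set G) with hM
  obtain ⟨A, hA⟩ := exists_isSylowIn 2 M
  have hAN : A ≤ N := hA.le.trans inf_le_left
  have dec : ∀ y ∈ N, ∃ e ∈ E₁ ⊓ E₂ ⊓ E₃, ∃ a ∈ A, y = e * a := by
    intro y hy
    have h1 : IsSylowIn 3 P (pResOf 2 N) := hP.mono (fun d hd => mem_pResOf (hP.le hd) (by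
      obtain ⟨j, hj⟩ := SylTools.exists_orderOf_eq_pow_of_mem hP.isPGroup hd
      rw [hj]; exact Nat.Coprime.pow_left _ (by norm_num))) (pResOf_le N)
    obtain ⟨n, hn, m, hm, rfl⟩ := h1.frattini (le_normalizer_pResOf N hy)
    obtain ⟨r, hr, a, ha, rfl⟩ := hA.exists_mul (x := m)
      ⟨(mul_mem_cancel_left (pResOf_le N hn)).1 hy, hm⟩
    exact ⟨n * r, mul_mem (hres hn) (hres (pResOf_mono inf_le_left hr)), a, ha, (mul_assoc _ _ _).symm⟩
  have step : ∀ {Y B E : Subgroup G}, Y ≤ N → Y ≤ B → ¬ Y ≤ E → E₁ ⊓ E₂ ⊓ E₃ ≤ B →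
      E₁ ⊓ E₂ ⊓ E₃ ≤ E → 2 * Nat.card (A ⊓ (B ⊓ E) : Subgroup G) ≤ Nat.card (A ⊓ B : Subgroup G) := by
    intro Y B E h1 h2 h3 h4 h5
    refine two_mul_card_le_of_lt (lt_of_le_of_ne (inf_le_inf_left _ inf_le_left) fun e => h3 ?_)
    intro y hy
    obtain ⟨e', he, a, ha, rfl⟩ := dec y (h1 hy)
    have h6 : a ∈ A ⊓ B := ⟨ha, (mul_mem_cancel_left (h4 he)).1 (h2 hy)⟩
    rw [← e] at h6
    exact mul_mem (h5 he) h6.2.2
  have t₁ := step l₁ le_top y₁ le_top (inf_le_left.trans inf_le_left)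
  have t₂ := step l₂ ((le_inf l₂ (c₂ W₁ m₁ n12)).trans k₁) y₂ (inf_le_left.trans inf_le_left)
    (inf_le_left.trans inf_le_right)
  have t₃ := step l₃ (le_inf ((le_inf l₃ (c₃ W₁ m₁ n13)).trans k₁)
    ((le_inf l₃ (c₃ W₂ m₂ n23)).trans k₂)) y₃ inf_le_left inf_le_right
  rw [top_inf_eq, inf_top_eq] at t₁
  have hPM : P ≤ M := le_inf hP.le le_normalizer
  haveI : (P.subgroupOf M).Normal := normal_subgroupOf_of_le inf_le_right
  have key := card_le_four (P.subgroupOf M) ((isPGroup_subgroupOf_iff hPM).2 hP.isPGroup)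
    ((SylTools.pRankLE_congr (subgroupOfEquivOfLe hPM)).2
      (SylTools.pRankLE_mono (hP.le.trans hNH) (hq 3 Nat.prime_three (by norm_num))))
    (A := A.subgroupOf M) (E := (E₁ ⊓ E₂ ⊓ E₃).subgroupOf M)
    ((isPGroup_subgroupOf_iff hA.le).2 hA.isPGroup) (fun a ha => sq a (hAN ha)) (by
      rw [centralizer_subgroupOf hPM]
      have h1 : IsPGroup 2 (A ⊓ centralizer (P : Set G) : Subgroup G) := hA.isPGroup.to_inf_left
      have h2 := (inf_le_left : A ⊓ centralizer (P : Set G) ≤ A).trans hAN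
      exact fun a ha => le_inf (le_inf (r₁ _ h1 h2 inf_le_right) (r₂ _ h1 h2 inf_le_right))
        (r₃ _ h1 h2 inf_le_right) (show (a : G) ∈ A ⊓ centralizer (P : Set G) from ha))
  rw [show A.subgroupOf M ⊓ (E₁ ⊓ E₂ ⊓ E₃).subgroupOf M = (A ⊓ (E₁ ⊓ E₂ ⊓ E₃)).subgroupOf M from rfl,
    Core.card_subgroupOf_of_le hA.le, Core.card_subgroupOf_of_le (inf_le_left.trans hA.le)] at key
  have := Nat.card_pos (α := (A ⊓ (E₁ ⊓ E₂ ⊓ E₃) : Subgroup G))
  omega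

end CfsgLib.QT5
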