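import Mathlib
import Cfsg.Agent.Lib.QT5.BB
import Cfsg.Agent.Lib.QT5.RK
import Cfsg.Agent.Lib.QT5.Ax
import Cfsg.Agent.Lib.ZN.Struct

/-!
FAM: components of solvable overgroups of `T`; existence and uniqueness.
-/

set_option autoImplicit false

namespace CfsgLib.QT5

open Subgroup Cfsg CfsgLib.LAE CfsgLib.PLocal CfsgLib.ZN
open scoped commutatorElement

variable {G : Type*} [Group G] [Finite G] {T T' P P' R H M V V' W U : Subgroup G}
  {𝒱 𝒱' 𝒰 𝒲 : Set (Subgroup G)}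

theorem Hy.fam_syl (h : Hy T) (hT : T ≤ H) : IsSylowIn 2 T H := h.ec.syl.mono hT le_top

theorem Hy.fam_pred (h : Hy T) (hT : T ≤ H) (hO : pCoreOf 2 H ≠ ⊥) : PRedIn 2 (nclIn (omegaZ 2 T) H) H :=
  have := Fact.mk Nat.prime_two
  (pRedIn_omegaZ T).nclIn (h.ec.chr H hT hO) (h.fam_syl hT) le_rfl hT

theorem Hy.elemAb_V (h : Hy T) (hT : T ≤ H) (hO : pCoreOf 2 H ≠ ⊥) :
    IsElementaryAbelian 2 (nclIn (omegaZ 2 T) H) ∧ nclIn (omegaZ 2 T) H ≤ pCoreOf 2 H :=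
  ⟨(h.fam_pred hT hO).elemAb, (h.fam_pred hT hO).le_pCoreOf⟩

theorem fam_top (hs : Group.IsSolvable G) (hT : IsSylowIn 2 T ⊤) (hV : PRedIn 2 (nclIn (omegaZ 2 T) ⊤) ⊤) :
    ∃ 𝒲, Fm T ⊤ 𝒲 := by
  have := Fact.mk Nat.prime_two
  have hn : (thompsonSubgroup 2 G).Normal := thompsonSubgroup_normal
  have eJ : nclIn (thompsonSubgroupOf 2 T) ⊤ = thompsonSubgroup 2 G := le_antisymm
    (nclIn_le (thompson_le_top hT) le_normalizer_of_normal)
    (thompson_top_le hT (le_nclIn _ _) (le_top.trans (le_normalizer_nclIn _ _)))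
  obtain ⟨nV, he, _, hO⟩ := pRedIn_top_iff.1 hV
  obtain ⟨F, hF⟩ := exists_fam hs he hO
  generalize hE : nclIn (omegaZ 2 T) ⊤ = E at *
  have nm : ∀ Y ∈ F, thompsonSubgroup 2 G ≤ normalizer ((⁅E, Y⁆ : Subgroup G) : Set G) := fun Y hY =>
    le_normalizer_commutator le_normalizer_of_normal (le_sup_left.trans (hF.norm Y hY))
  refine ⟨{W | ∃ Y ∈ F, W = ⁅E, Y⁆}, ?_, ?_, ?_, ?_, ?_, ?_, ?_⟩
  · rintro _ ⟨Y, hY, rfl⟩; exact hF.four Y hY
  · rintro _ ⟨Y, hY, rfl⟩; rw [hE]; exact commutator_le_left _ _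
  · rintro g - _ ⟨Y, hY, rfl⟩
    exact ⟨_, hF.conj Y hY g, by rw [conjS_commutator, conjS_eq_of_normal]⟩
  · rintro _ ⟨Y, hY, rfl⟩ _ ⟨Y', hY', rfl⟩ e
    obtain ⟨d, hd, k⟩ := ax_fpf (hF.four Y hY) ((hF.le Y hY).trans (nm Y hY)) (hF.idx Y hY)
    refine eq_bot_iff.2 (le_trans (inf_le_inf_left _ fun w hw => ?_) k.le)
    exact mem_centralizer_singleton_iff.2 (hF.cent Y' hY' Y hY (fun f => e (by rw [f])) hd w hw)
  · rintro _ ⟨Y, hY, rfl⟩; rw [eJ]; exact nm Y hY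
  · rw [eJ, hE]
    exact hF.genV _ le_sup_left fun Y hY => le_sup_of_le_right (le_sSup ⟨Y, hY, rfl⟩)
  · rintro _ ⟨Y, hY, rfl⟩
    rw [eJ]
    refine ⟨Y, hF.le Y hY, le_sup_left.trans (hF.norm Y hY), hF.idx Y hY, ?_⟩
    rintro _ ⟨Y', hY', rfl⟩ e
    exact hF.cent Y' hY' Y hY fun f => e (by rw [f])

theorem Fm.map_subtype {T : Subgroup H} {𝒲 : Set (Subgroup H)} (h : Fm T ⊤ 𝒲) :
    Fm (T.map H.subtype) H (Subgroup.map H.subtype '' 𝒲) := by
  have hf := H.subtype_injective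
  have eT : (⊤ : Subgroup H).map H.subtype = H := by rw [← MonoidHom.range_eq_map, range_subtype]
  have eZ : nclIn (omegaZ 2 (T.map H.subtype)) H = (nclIn (omegaZ 2 T) ⊤).map H.subtype := by
    rw [map_nclIn, map_omegaZ hf, eT]
  have eJ : nclIn (thompsonSubgroupOf 2 (T.map H.subtype)) H =
      (nclIn (thompsonSubgroupOf 2 T) ⊤).map H.subtype := by
    rw [map_nclIn, map_thompsonSubgroupOf hf, eT]
  refine ⟨?_, ?_, ?_, ?_, ?_, ?_, ?_⟩
  · rintro _ ⟨W, hW, rfl⟩; exact (h.four W hW).map hf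
  · rintro _ ⟨W, hW, rfl⟩; rw [eZ]; exact map_mono (h.le W hW)
  · rintro g hg _ ⟨W, hW, rfl⟩
    exact ⟨_, h.conj ⟨g, hg⟩ (mem_top _) W hW, map_conjS _ _ _⟩
  · rintro _ ⟨W, hW, rfl⟩ _ ⟨W', hW', rfl⟩ e
    rw [← map_inf _ _ _ hf, h.disj W hW W' hW' (fun f => e (by rw [f])), Subgroup.map_bot]
  · rintro _ ⟨W, hW, rfl⟩; rw [eJ]; exact map_le_normalizer_map _ (h.jn W hW)
  · rw [eZ, eJ]
    refine (map_mono h.gen).trans ?_
    rw [Subgroup.map_sup]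
    refine sup_le_sup (le_inf (map_mono inf_le_left) (map_le_centralizer_map _ inf_le_right)) ?_
    exact map_le_iff_le_comap.2 (sSup_le fun W hW => map_le_iff_le_comap.1 (le_sSup ⟨W, hW, rfl⟩))
  · rintro _ ⟨W, hW, rfl⟩
    obtain ⟨Y, h1, h2, h3, h4⟩ := h.big W hW
    rw [eJ]
    refine ⟨Y.map H.subtype, map_mono h1, map_le_normalizer_map _ h2, ?_, ?_⟩
    · rw [← relIndex_comap, ← h3]
      congr 1
      ext x
      rw [← zpowers_le, ← map_le_iff_le_comap, map_le_centralizer_map_iff hf, zpowers_le]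
    · rintro _ ⟨U, hU, rfl⟩ e
      exact map_le_centralizer_map _ (h4 U hU fun f => e (by rw [f]))

theorem Hy.exists_fm (h : Hy T) (hT : T ≤ H) (hO : pCoreOf 2 H ≠ ⊥) : ∃ 𝒲, Fm T H 𝒲 := by
  have := Fact.mk Nat.prime_two
  have hf := H.subtype_injective
  have eT : (⊤ : Subgroup H).map H.subtype = H := by rw [← MonoidHom.range_eq_map, range_subtype]
  have e := map_subgroupOf_eq_of_le hT
  obtain ⟨𝒲, k⟩ := fam_top (T := T.subgroupOf H) (h.solv H hT hO)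
    (subgroupOf_self H ▸ (h.fam_syl hT).subgroupOf le_rfl)
    ((pRedIn_map_iff hf).1 (by rw [map_nclIn, map_omegaZ hf, eT, e]; exact h.fam_pred hT hO))
  exact ⟨_, e ▸ k.map_subtype⟩

theorem Hy.exists_fp0 (h : Hy T) (hT : T ≤ H) (hO : pCoreOf 2 H ≠ ⊥)
    (hJ : ¬ thompsonSubgroupOf 2 T ≤ centralizer (nclIn (omegaZ 2 T) H : Set G)) : ∃ 𝒱, FP0 T H 𝒱 := by
  have := Fact.mk Nat.prime_two
  obtain ⟨𝒲, k⟩ := h.exists_fm hT hO
  have hS := h.fam_syl hT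
  have k2 := k.two hS (h.sqt H hT hO)
  obtain ⟨he, hle⟩ := h.elemAb_V hT hO
  obtain ⟨W, hW, hc⟩ : ∃ W ∈ 𝒲, ¬ thompsonSubgroupOf 2 T ≤ centralizer (W : Set G) := by
    by_contra! c
    exact hJ (le_centralizer_iff.1 (k.gen.trans (sup_le (inf_le_right.trans (centralizer_anti (le_nclIn _ _)))
      (sSup_le fun W hW => le_centralizer_iff.1 (c W hW)))))
  have sub : {U | ∃ t ∈ T, conjS t W = U} ⊆ 𝒲 := by rintro _ ⟨t, ht, rfl⟩; exact k.conj t (hT ht) W hW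
  have m0 : W ∈ {U | ∃ t ∈ T, conjS t W = U} := ⟨1, one_mem _, conjS_one W⟩
  have tw : Two {U | ∃ t ∈ T, conjS t W = U} := fun a ha b hb c hc => k2 a (sub ha) b (sub hb) c (sub hc)
  have lT : ∀ U ∈ 𝒲, U ≤ T := fun U hU => (k.le U hU).trans (hle.trans hS.pCoreOf_le)
  have cm : ∀ U ∈ 𝒲, ∀ U' ∈ 𝒲, U' ≤ centralizer (U : Set G) := fun U hU U' hU' =>
    (k.le U' hU').trans ((elemAb_le_centralizer he).trans (centralizer_anti (k.le U hU)))
  have cj : ∀ g ∈ H, ∀ U ∈ {U | ∃ t ∈ T, conjS t W = U}, conjS g U ∈ {U | ∃ t ∈ T, conjS t W = U} := by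
    rintro g hg _ ⟨t, ht, rfl⟩
    obtain ⟨s, hs, e⟩ := k2.exists_conj k.conj hS hW (mul_mem hg (hT ht))
    exact ⟨s, hs, by rw [← e, conjS_mul]⟩
  have fx : ∀ U ∈ 𝒲, ∃ d ∈ H, U ⊓ centralizer ({d} : Set G) = ⊥ ∧ ∀ U' ∈ 𝒲, U' ≠ U → d ∈ centralizer (U' : Set G) :=
      fun U hU => by
    obtain ⟨Y, h1, -, h3, h4⟩ := k.big U hU
    obtain ⟨d, hd, e⟩ := ax_fpf (k.four U hU) (h1.trans (k.jn U hU)) h3
    exact ⟨d, nclIn_le_of_le ((thompsonSubgroupOf_le T).trans hT) (h1 hd), e, fun U' hU' f => h4 U' hU' f hd⟩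
  refine ⟨{U | ∃ t ∈ T, conjS t W = U}, hS, ⟨W, m0⟩, fun U hU => k.four U (sub hU), fun U hU => lT U (sub hU),
    cj, tw, fun U hU U' hU' => k.disj U (sub hU) U' (sub hU'), fun U hU U' hU' => cm U (sub hU) U' (sub hU'),
    ?_, fun U hU => (le_nclIn _ _).trans (k.jn U (sub hU)), ?_, fun c => ?_⟩
  · rintro _ ⟨t, ht, rfl⟩ _ ⟨s, hs, rfl⟩
    exact ⟨s * t⁻¹, mul_mem hs (inv_mem ht), by rw [conjS_mul, conjS_inv_conjS]⟩
  · rintro _ ⟨t, ht, rfl⟩ c
    rw [← conjS_centralizer, ← mem_normalizer_iff_conjS.1 (le_normalizer_thompson T ht), conjS_le_conjS_iff] at c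
    exact hc c
  generalize {U | ∃ t ∈ T, conjS t W = U} = 𝒱 at *
  have nS : T ≤ normalizer ((sSup 𝒱 : Subgroup G) : Set G) := fun t ht => mem_normalizer_of_conjS_le
    (conjS_le_iff.2 (sSup_le fun U hU => conjS_le_iff.1 (le_sSup (cj t (hT ht) U hU))))
  refine Core.inf_centralizer_ne_bot_of_isPGroup (hS.isPGroup.to_le (sSup_le fun U hU => lT U (sub hU)))
    hS.isPGroup nS (fun e => (k.four W hW).ne_bot (eq_bot_iff.2 ((le_sSup m0).trans e.le)))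
    (eq_bot_iff.2 fun s hs => ?_)
  have c' : ∀ d ∈ H, Commute s d := fun d hd => c hd s hs
  have fin : ∀ U ∈ 𝒲, s ∈ U → s ∈ (⊥ : Subgroup G) := fun U hU hsU => by
    obtain ⟨d, hd, e, -⟩ := fx U hU
    exact e.le ⟨hsU, mem_centralizer_singleton_iff.2 (c' d hd)⟩
  have hs1 := hs.1
  rw [← sup_oth m0] at hs1
  rcases tw.oth_cases m0 with ⟨-, e⟩ | ⟨e1, e2, -⟩
  · rw [e, sup_bot_eq] at hs1
    exact fin W hW hs1
  obtain ⟨a, ha, b, hb, rfl⟩ := (mem_sup_iff_of_left_le_normalizer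
    (le_normalizer_of_le_centralizer (cm _ (sub e1) W hW))).1 hs1
  obtain ⟨d, hd, e, f⟩ := fx W hW
  have : a = 1 := e.le (show a ∈ W ⊓ centralizer {d} from ⟨ha, mem_centralizer_singleton_iff.2 (by
    simpa using ((c' d hd).mul_left (Commute.inv_left (f _ (sub e1) e2 b hb))).eq)⟩)
  exact fin _ (sub e1) (by rwa [this, one_mul])

omit [Finite G] in
theorem fam_comm_le {C S X : Subgroup G} (h1 : C ≤ centralizer (S : Set G)) (h2 : C ≤ centralizer (X : Set G))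
    (h3 : X ≤ normalizer (S : Set G)) : ⁅C ⊔ S, X⁆ ≤ S := by
  refine commutator_le.2 fun v hv y hy => ?_
  obtain ⟨c, hc, s, hs, rfl⟩ := (mem_sup_iff_of_left_le_normalizer (le_normalizer_of_le_centralizer h1)).1 hv
  have e1 : Commute s c := h1 hc s hs
  have e2 : Commute y c := h2 hc y hy
  convert mul_mem hs (conj_mem_of_mem_normalizer (h3 hy) (inv_mem hs)) using 1
  calc ⁅c * s, y⁆ = c * (s * y * s⁻¹) * c⁻¹ * y⁻¹ := by rw [commutatorElement_def]; group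
    _ = _ := by rw [← ((e1.mul_left e2).mul_left e1.inv_left).eq]; group

theorem fam_diag {W₁ W₂ : Subgroup G} (hV : IsFour V) (h1 : IsFour W₁) (h2 : IsFour W₂) (hd : W₁ ⊓ W₂ = ⊥)
    (hc : W₁ ≤ centralizer (W₂ : Set G)) (hc' : V ≤ centralizer ((W₁ ⊔ W₂ : Subgroup G) : Set G))
    (hle : V ≤ W₁ ⊔ W₂) (e1 : V ⊓ W₁ = ⊥) (e2 : V ⊓ W₂ = ⊥) (hR : IsPGroup 2 R)
    (r1 : R ≤ normalizer (W₁ : Set G)) (r2 : ¬ R ≤ centralizer (W₁ : Set G)) (r3 : R ≤ centralizer (W₂ : Set G))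
    (r4 : V ⊓ centralizer (R : Set G) ≠ ⊥ → R ≤ normalizer (V : Set G)) : False := by
  have nV : ∀ D ≤ W₁ ⊔ W₂, V ≤ normalizer (D : Set G) := fun D hD =>
    le_normalizer_of_le_centralizer (hc'.trans (centralizer_anti hD))
  have c1 := card_sup_mul_card_inf (le_normalizer_of_le_centralizer hc)
  rw [hd, card_bot, h1.card, h2.card] at c1
  have c2 := card_sup_mul_card_inf (A := W₁ ⊓ centralizer (R : Set G))
    (le_normalizer_of_le_centralizer (inf_le_left.trans hc))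
  rw [eq_bot_iff.2 ((inf_le_inf_right _ inf_le_left).trans hd.le), card_bot, h2.card,
    h1.card_inf_centralizer hR r1 r2] at c2
  have hD : W₁ ⊓ centralizer (R : Set G) ⊔ W₂ ≤ W₁ ⊔ W₂ := sup_le_sup_right inf_le_left _
  have c3 := card_sup_mul_card_inf (nV _ hD)
  have c4 := card_le_card_of_le (sup_le hle hD)
  have r5 := r4 fun e => by
    rw [eq_bot_iff.2 ((inf_le_inf_left _ (sup_le inf_le_right (le_centralizer_iff.1 r3))).trans e.le), card_bot,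
      hV.card] at c3
    omega
  have r6 : R ≤ centralizer (V : Set G) := by
    rw [← le_centralizer_iff, ← commutator_eq_bot_iff_le_centralizer, eq_bot_iff, ← e1]
    refine le_inf (commutator_le_left_of_le_normalizer r5) ((commutator_mono (hle.trans (sup_comm _ _).le) le_rfl).trans
      (fam_comm_le (le_centralizer_iff.1 hc) (le_centralizer_iff.1 r3) r1))
  have c5 := card_sup_mul_card_inf (nV _ le_sup_right)
  rw [e2, card_bot, hV.card, h2.card] at c5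
  have e3 : V ⊔ W₂ = W₁ ⊔ W₂ := eq_of_le_of_card_ge (sup_le hle le_sup_right) (by omega)
  exact r2 (le_centralizer_iff.1 (le_sup_left.trans (e3.ge.trans
    (sup_le (le_centralizer_iff.1 r6) (le_centralizer_iff.1 r3)))))

theorem Hy.fam_mem (h : Hy T) (f : FP T P 𝒱) (hP : P ≤ H) (hO : pCoreOf 2 H ≠ ⊥) (k : Fm T H 𝒲) (hV : V ∈ 𝒱) :
    V ∈ 𝒲 := by
  have := Fact.mk Nat.prime_two
  have hT := f.syl.le.trans hP
  have hS := h.fam_syl hT
  have k2 := k.two hS (h.sqt H hT hO)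
  obtain ⟨he, hle⟩ := h.elemAb_V hT hO
  have f0 := f.toFP0
  have h4 := f.four V hV
  obtain ⟨x, hx, ho, fx, hc⟩ := f0.exists_odd hV
  have xJ : x ∈ nclIn (thompsonSubgroupOf 2 T) H :=
    nclIn_mono le_rfl hP (f.res_le_nclIn (mem_pResOf hx (Nat.coprime_two_right.2 ho)))
  have xV := f0.norm_of_odd hV hx ho
  have xE := le_normalizer_nclIn (omegaZ 2 T) H (hP hx)
  have hVE : V ≤ nclIn (omegaZ 2 T) H := by
    obtain ⟨z, hz, hp⟩ := f0.exists_pt hV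
    obtain ⟨w, hw, e⟩ := f0.fix_eq hV hz hp
    have m := e.ge (mem_zpowers _)
    have m2 : z * w ∈ nclIn (omegaZ 2 T) H :=
      le_nclIn _ _ (mem_omegaZ.2 ⟨f0.S_le m.1, m.2, f0.elemAb.2 _ m.1⟩)
    refine (h4.eq_bot_or_eq fx inf_le_left (le_normalizer_inf (zpowers_le.2 xV) (zpowers_le.2 xE)
      (mem_zpowers x))).elim (fun e0 => ?_) fun e0 => e0.ge.trans inf_le_right
    have m3 : x * z * x⁻¹ * z⁻¹ ∈ V ⊓ nclIn (omegaZ 2 T) H := by
      refine mem_inf.2 ⟨mul_mem (conj_mem_of_mem_normalizer xV hz) (inv_mem hz), ?_⟩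
      convert mul_mem (conj_mem_of_mem_normalizer xE m2) (inv_mem m2) using 1
      calc _ = x * z * (x⁻¹ * w) * w⁻¹ * z⁻¹ := by group
        _ = _ := by rw [← (show Commute w x from hc w hw).inv_right.eq]; group
    rw [e0, mem_bot, mul_inv_eq_one, mul_inv_eq_iff_eq_mul] at m3
    exact absurd (fx.le (show z ∈ V ⊓ centralizer {x} from ⟨hz, mem_centralizer_singleton_iff.2 m3.symm⟩)) hp.1
  have hSE : sSup 𝒲 ≤ nclIn (omegaZ 2 T) H := sSup_le k.le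
  have hVS : V ≤ sSup 𝒲 := by
    rw [← h4.commutator_zpowers_eq xV fx]
    refine (commutator_mono (hVE.trans k.gen) le_rfl).trans (fam_comm_le
      (inf_le_left.trans ((elemAb_le_centralizer he).trans (centralizer_anti hSE)))
      (inf_le_right.trans (centralizer_anti (zpowers_le.2 xJ))) (zpowers_le.2 (mem_normalizer_of_conjS_le ?_)))
    exact conjS_le_iff.2 (sSup_le fun U hU => conjS_le_iff.1 (le_sSup (k.conj x (hP hx) U hU)))
  by_contra hn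
  have dj : ∀ U ∈ 𝒲, V ⊓ U = ⊥ := fun U hU =>
    (h4.eq_bot_or_eq fx inf_le_left (le_normalizer_inf (zpowers_le.2 xV) (zpowers_le.2 (k.jn U hU xJ))
      (mem_zpowers x))).resolve_right fun e => hn ((k.four U hU).eq_of_le h4 (e.ge.trans inf_le_right) ▸ hU)
  rcases 𝒲.eq_empty_or_nonempty with rfl | ⟨W, hW⟩
  · exact h4.ne_bot (eq_bot_iff.2 (hVS.trans sSup_empty.le))
  rw [← sup_oth hW] at hVS hSE
  rcases k2.oth_cases hW with ⟨-, e⟩ | ⟨e1, e2, -⟩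
  · rw [e, sup_bot_eq] at hVS
    exact h4.ne_bot (eq_bot_iff.2 ((le_inf le_rfl hVS).trans (dj W hW).le))
  obtain ⟨Y, y1, y2, y3, y4⟩ := k.big W hW
  have hY := (hS.inf_of_normal (nclIn_le_of_le ((thompsonSubgroupOf_le T).trans hT))
    (le_normalizer_nclIn _ _)).inf_of_normal y1 y2
  refine fam_diag h4 (k.four W hW) (k.four _ e1) (k.disj _ hW _ e1 e2.symm)
    ((k.le W hW).trans ((elemAb_le_centralizer he).trans (centralizer_anti (k.le _ e1))))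
    (hVE.trans ((elemAb_le_centralizer he).trans (centralizer_anti hSE))) hVS (dj W hW) (dj _ e1) hY.isPGroup
    (hY.le.trans (y1.trans (k.jn W hW))) (ax_syl hY y3) (hY.le.trans (y4 _ e1 e2)) fun e s hs => ?_
  obtain ⟨⟨v, hv⟩, v1⟩ := ne_bot_iff_exists_ne_one.1 e
  refine f0.norm_of_fix hV (f.syl.le hs.1.1) hv.1 (fun e => v1 (Subtype.ext e)) ?_
  rw [hv.2 s hs, mul_inv_cancel_right]
  exact hv.1

/-- every overgroup with nontrivial `O₂` permutes the family -/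
theorem Hy.up (h : Hy T) (f : FP T P 𝒱) (hP : P ≤ H) (hO : pCoreOf 2 H ≠ ⊥) : FP0 T H 𝒱 := by
  have hT := f.syl.le.trans hP
  obtain ⟨𝒲, k⟩ := h.exists_fm hT hO
  refine ⟨h.fam_syl hT, f.ne, f.four, f.le, fun g hg V hV => ?_, f.two, f.disj, f.comm, f.trans, f.jn, f.jc,
    fun c => f.nc (hP.trans c)⟩
  obtain ⟨t, ht, e⟩ := (k.two (h.fam_syl hT) (h.sqt H hT hO)).exists_conj k.conj (h.fam_syl hT)
    (h.fam_mem f hP hO k hV) hg
  exact e ▸ f.conj t (f.syl.le ht) V hV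

theorem Hy.le_norm (h : Hy T) (f : FP T P 𝒱) {N : Subgroup G} (h0 : N ≠ ⊥) (h1 : N ≤ T)
    (h2 : P ≤ normalizer (N : Set G)) :
    normalizer (N : Set G) ≤ normalizer ((sSup 𝒱 : Subgroup G) : Set G) :=
  (h.up f h2 fun e => h0 (eq_bot_iff.2
    ((le_pCoreOf (f.syl.isPGroup.to_le h1) le_normalizer le_rfl).trans e.le))).norm_S

end CfsgLib.QT5
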