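import Mathlib
import Cfsg.Agent.Lib.QT5.BB

/-!
BC: the Baumann argument.
-/

set_option autoImplicit false

namespace CfsgLib.QT5

open Subgroup Cfsg CfsgLib.LAE CfsgLib.PLocal CfsgLib.ZN
open scoped commutatorElement

variable {G : Type*} [Group G] [Finite G] {T T' P P' R H M V V' W U : Subgroup G}
  {𝒱 𝒱' 𝒰 𝒲 : Set (Subgroup G)}

/-- a root subgroup `A` for `V` with a transvection `t` and an element `x` of order three on `V` -/
structure BRt (T P : Subgroup G) (𝒱 : Set (Subgroup G)) (V A : Subgroup G) (t x : G) : Prop where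
  mem : V ∈ 𝒱
  max : A ∈ maxElemIn 2 T
  tA : t ∈ A
  tV : t ∉ centralizer (V : Set G)
  xP : x ∈ P
  xN : x ∈ normalizer (V : Set G)
  xV : V ⊓ centralizer ({x} : Set G) = ⊥
  oth : ∀ W ∈ 𝒱, W ≠ V → A ≤ centralizer (W : Set G) ∧ x ∈ centralizer (W : Set G)

theorem FP0.exists_brt (h : FP0 T P 𝒱) (hV : V ∈ 𝒱) : ∃ A t x, BRt T P 𝒱 V A t x := by
  obtain ⟨A, hA, h1, h2⟩ := h.exists_root hV
  obtain ⟨t, ht, h3⟩ := SetLike.not_le_iff_exists.1 h1
  obtain ⟨x, hx, ho, h4, h5⟩ := h.exists_odd hV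
  refine ⟨A, t, x, hV, hA, ht, h3, hx, h.norm_of_odd hV hx ho, h4, fun W hW hne => ?_⟩
  have : W ≤ oth 𝒱 V := le_sSup ⟨hW, hne⟩
  exact ⟨h2.trans (centralizer_anti this), centralizer_anti this h5⟩

theorem BRt.conj {A : Subgroup G} {t x s : G} (r : BRt T P 𝒱 V A t x) (h : FP0 T P 𝒱) (hs : s ∈ T) :
    BRt T P 𝒱 (conjS s V) (conjS s A) (s * t * s⁻¹) (s * x * s⁻¹) := by
  have hsP := h.syl.le hs
  refine ⟨h.conj s hsP V r.mem, ?_, conj_mem_conjS.2 r.tA, ?_,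
    mul_mem (mul_mem hsP r.xP) (inv_mem hsP), ?_, ?_, fun W hW hne => ?_⟩
  · have := conjS_mem_maxElemIn r.max s
    rwa [conjS_eq_of_mem hs] at this
  · rw [← conjS_centralizer, conj_mem_conjS]; exact r.tV
  · rw [← conjS_normalizer, conj_mem_conjS]; exact r.xN
  · rw [eq_bot_iff]
    rintro _ ⟨hv, hc⟩
    obtain ⟨v, hv', rfl⟩ := exists_of_mem_conjS hv
    have h1 : v ∈ V ⊓ centralizer ({x} : Set G) := ⟨hv', mem_centralizer_singleton_iff.2 (by
      have := mem_centralizer_singleton_iff.1 hc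
      calc v * x = s⁻¹ * (s * v * s⁻¹ * (s * x * s⁻¹)) * s := by group
        _ = x * v := by rw [this]; group)⟩
    rw [r.xV, mem_bot] at h1
    rw [h1]; simp
  · obtain ⟨h1, h2⟩ := r.oth _ (h.conj s⁻¹ (inv_mem hsP) W hW) fun e => hne (by
      rw [← e, conjS_conjS_inv])
    rw [← conjS_conjS_inv s W, ← conjS_centralizer, conj_mem_conjS]
    exact ⟨conjS_mono h1, h2⟩

theorem four_mul_mem (hV : IsFour V) (hR : IsPGroup 2 R) (hn : R ≤ normalizer (V : Set G)) {a b : G}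
    (ha : a ∈ R) (hb : b ∈ R) (h1 : a ∉ centralizer (V : Set G)) (h2 : b ∉ centralizer (V : Set G)) :
    a * b ∈ centralizer (V : Set G) :=
  (mul_mem_iff_of_index_two (hV.relIndex_eq_two hR hn fun h => h1 (h ha))
    (a := ⟨a, ha⟩) (b := ⟨b, hb⟩)).2 (iff_of_false h1 h2)

theorem FP.Y_facts (h : FP T P 𝒱) :
    (∀ B ∈ maxElemIn 2 T, B ≤ pCoreOf 2 P → omegaZ 2 (thompsonSubgroupOf 2 (pCoreOf 2 P)) ≤ B) ∧
    omegaZ 2 (thompsonSubgroupOf 2 T) ≤ omegaZ 2 (thompsonSubgroupOf 2 (pCoreOf 2 P)) ∧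
    sSup 𝒱 ≤ omegaZ 2 (thompsonSubgroupOf 2 (pCoreOf 2 P)) := by
  obtain ⟨A, hA, hc⟩ := h.exists_max_cen
  have hQT : pCoreOf 2 P ≤ T := h.core_le.trans inf_le_left
  have hAQ : A ≤ pCoreOf 2 P := h.core ▸ le_inf hA.1 hc
  have hm : ∀ B ∈ maxElemIn 2 T, B ≤ pCoreOf 2 P → B ≤ thompsonSubgroupOf 2 (pCoreOf 2 P) :=
    fun B hB hBQ => le_thompsonSubgroupOf ((mem_maxElemIn_iff_of_le hQT hA hAQ).2 ⟨hB, hBQ⟩)
  refine ⟨fun B hB hBQ => le_of_mem_maxElemIn_of_centralizes hB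
    (((omegaZ_le _).trans (thompsonSubgroupOf_le _)).trans hQT) (elemAb_omegaZ _)
    ((omegaZ_le_centralizer _).trans (centralizer_anti (hm B hB hBQ))), ?_, ?_⟩
  · refine le_omegaZ (elemAb_omegaZ _) ((le_of_mem_maxElemIn_of_centralizes hA
      ((omegaZ_le _).trans (thompsonSubgroupOf_le _)) (elemAb_omegaZ _)
      ((omegaZ_le_centralizer _).trans (centralizer_anti (le_thompsonSubgroupOf hA)))).trans
      (hm A hA hAQ)) ((omegaZ_le_centralizer _).trans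
      (centralizer_anti (thompsonSubgroupOf_le_of_le hQT hA hAQ)))
  · exact le_omegaZ h.elemAb ((le_of_mem_maxElemIn_of_centralizes hA h.S_le h.elemAb
      (le_centralizer_iff.1 hc)).trans (hm A hA hAQ))
      (le_centralizer_iff.1 (((thompsonSubgroupOf_le _).trans h.core_le).trans inf_le_right))

namespace BRt
variable {A : Subgroup G} {t x : G} (r : BRt T P 𝒱 V A t x) (h : FP T P 𝒱)
include r h

theorem AN : A ≤ normalizer (V : Set G) := (le_thompsonSubgroupOf r.max).trans (h.jn V r.mem)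

/-- the action of the two transvections -/
theorem act : ∃ z ∈ V, z ∈ Pt T 𝒱 ∧ z ∈ centralizer (A : Set G) ∧
    t * (x * z * x⁻¹) * t⁻¹ = x * z * x⁻¹ * z ∧
    (x * t * x⁻¹) * z * (x * t * x⁻¹)⁻¹ = z * (x * z * x⁻¹) ∧
    ∀ v ∈ V, (x * t * x⁻¹) * v * (x * t * x⁻¹)⁻¹ = v ∨
      (x * t * x⁻¹) * v * (x * t * x⁻¹)⁻¹ = v * (x * z * x⁻¹) := by
  obtain ⟨z, hz, hp⟩ := h.exists_pt r.mem
  have h4 := h.four V r.mem
  have hAz := (le_thompsonSubgroupOf r.max).trans (h.pt_J hp)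
  have hz' : x * z * x⁻¹ ∈ V := conj_mem_of_mem_normalizer r.xN hz
  have h1' : x * z * x⁻¹ ≠ 1 := fun e => hp.1 (by simpa using e)
  have hne : x * z * x⁻¹ ≠ z := fun e => hp.1 (by
    rw [← mem_bot, ← r.xV]
    exact ⟨hz, mem_centralizer_singleton_iff.2 (mul_inv_eq_iff_eq_mul.1 e).symm⟩)
  have htN : x * t * x⁻¹ ∈ normalizer (V : Set G) :=
    mul_mem (mul_mem r.xN (r.AN h r.tA)) (inv_mem r.xN)
  have htV : x * t * x⁻¹ ∉ centralizer (V : Set G) := fun e => r.tV (by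
    have := conj_inv_mem_of_mem_normalizer (normalizer_le_normalizer_centralizer V r.xN) e
    simpa [mul_assoc] using this)
  have htz : x * t * x⁻¹ ∈ centralizer ({x * z * x⁻¹} : Set G) :=
    mem_centralizer_singleton_iff.2 (by
      have := mem_centralizer_singleton_iff.1 (hAz r.tA)
      calc x * t * x⁻¹ * (x * z * x⁻¹) = x * (t * z) * x⁻¹ := by group
        _ = _ := by rw [this]; group)
  refine ⟨z, hz, hp, fun a ha => mem_centralizer_singleton_iff.1 (hAz ha), ?_, ?_,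
    fun v hv => four_commutator h4 hz' h1' htN htz hv⟩
  · refine (four_commutator h4 hz hp.1 (r.AN h r.tA) (hAz r.tA) hz').resolve_left fun e => hne ?_
    exact four_fix h4 r.tV hz' hz h1' hp.1
      (mem_centralizer_singleton_iff.2 (mul_inv_eq_iff_eq_mul.1 e)) (hAz r.tA)
  · refine (four_commutator h4 hz' h1' htN htz hz).resolve_left fun e => hne ?_
    exact four_fix h4 htV hz' hz h1' hp.1 htz
      (mem_centralizer_singleton_iff.2 (mul_inv_eq_iff_eq_mul.1 e))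

theorem split {y : G} (hy : y ∈ omegaZ 2 (thompsonSubgroupOf 2 (pCoreOf 2 P))) :
    ∃ e ∈ centralizer (A : Set G), Commute (x * t * x⁻¹) e ∧ ∃ v ∈ V, y = e * v := by
  obtain ⟨hY, -, hS⟩ := h.Y_facts
  have h4 := h.four V r.mem
  have hVS : V ≤ sSup 𝒱 := le_sSup r.mem
  have key : ∀ y ∈ omegaZ 2 (thompsonSubgroupOf 2 (pCoreOf 2 P)), ∃ a ∈ A, ∃ v ∈ V, y = a * v := by
    intro y hy
    have h1 := hY _ (h4.replace_mem (h.le V r.mem) r.max (r.AN h)) (by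
      rw [h.core]
      refine sup_le (le_inf (inf_le_left.trans r.max.1) (le_centralizer_iff.1 (sSup_le fun W hW => ?_)))
        (le_inf (h.le V r.mem) (hVS.trans (elemAb_le_centralizer h.elemAb)))
      by_cases e : W = V
      · exact e ▸ le_centralizer_iff.1 inf_le_right
      · exact le_centralizer_iff.1 (inf_le_left.trans (r.oth W hW e).1)) hy
    obtain ⟨a, ha, v, hv, e⟩ := (mem_sup_iff_of_left_le_normalizer (inf_le_left.trans (r.AN h))).1 h1
    exact ⟨a, ha.1, v, hv, e⟩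
  obtain ⟨z, hz, -, hzA, -, h5, h6⟩ := r.act h
  obtain ⟨a, ha, v, hv, rfl⟩ := key y hy
  have haY := (mul_mem_cancel_right (hS (hVS hv))).1 hy
  obtain ⟨b, hb, w, hw, e⟩ := key _ (conj_inv_mem_of_mem_normalizer
    (le_normalizer_omegaZ_of_le ((le_normalizer_pCoreOf P).trans
      (normalizer_le_normalizer_thompsonSubgroupOf _)) r.xP) haY)
  have e' : a = (x * b * x⁻¹) * (x * w * x⁻¹) := by
    calc a = x * (x⁻¹ * a * x) * x⁻¹ := by group
      _ = _ := by rw [e]; group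
  have hw' : x * w * x⁻¹ ∈ V := conj_mem_of_mem_normalizer r.xN hw
  have hc : Commute (x * t * x⁻¹) (x * b * x⁻¹) :=
    (show Commute t b from elemAb_comm r.max.2.1 r.tA hb).conj x
  have haA := elemAb_le_centralizer r.max.2.1 ha
  rcases h6 _ hw' with h7 | h7
  · exact ⟨a, haA, e' ▸ hc.mul_right (mul_inv_eq_iff_eq_mul.1 h7), v, hv, rfl⟩
  · refine ⟨a * z, mul_mem haA hzA, ?_, z⁻¹ * v, mul_mem (inv_mem hz) hv, by group⟩
    rw [e', mul_assoc (x * b * x⁻¹)]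
    refine hc.mul_right (mul_inv_eq_iff_eq_mul.1 ?_)
    have hz' : x * z * x⁻¹ ∈ V := conj_mem_of_mem_normalizer r.xN hz
    calc x * t * x⁻¹ * (x * w * x⁻¹ * z) * (x * t * x⁻¹)⁻¹
        = (x * t * x⁻¹ * (x * w * x⁻¹) * (x * t * x⁻¹)⁻¹) *
          (x * t * x⁻¹ * z * (x * t * x⁻¹)⁻¹) := by group
      _ = x * w * x⁻¹ * ((x * z * x⁻¹) * (x * z * x⁻¹) * z) := by
        rw [h5, h7, h4.comm hz hz']; simp only [mul_assoc]
      _ = _ := by rw [h4.mul_self hz', one_mul]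

theorem move : ∃ z ∈ V, z ∈ Pt T 𝒱 ∧ (t * (x * t * x⁻¹)) ^ 2 ∉ centralizer ({z} : Set G) := by
  obtain ⟨z, hz, hp, hzA, h1, h2, -⟩ := r.act h
  have h4 := h.four V r.mem
  have hz' : x * z * x⁻¹ ∈ V := conj_mem_of_mem_normalizer r.xN hz
  have h3 : t * z * t⁻¹ = z := mul_inv_eq_iff_eq_mul.2 (hzA t r.tA)
  refine ⟨z, hz, hp, fun e => hp.1 ?_⟩
  have h5 : t * (x * t * x⁻¹) * z * (t * (x * t * x⁻¹))⁻¹ = x * z * x⁻¹ := by
    calc _ = t * ((x * t * x⁻¹) * z * (x * t * x⁻¹)⁻¹) * t⁻¹ := by group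
      _ = (t * z * t⁻¹) * (t * (x * z * x⁻¹) * t⁻¹) := by rw [h2]; group
      _ = _ := by rw [h1, h3, h4.comm hz' hz, ← mul_assoc, h4.mul_self hz, one_mul]
  have h6 : t * (x * t * x⁻¹) * (x * z * x⁻¹) * (t * (x * t * x⁻¹))⁻¹ = x * z * x⁻¹ * z := by
    calc _ = t * (x * (t * z * t⁻¹) * x⁻¹) * t⁻¹ := by group
      _ = _ := by rw [h3, h1]
  have h7 := mul_inv_eq_iff_eq_mul.2 (mem_centralizer_singleton_iff.1 e)
  rw [show (t * (x * t * x⁻¹)) ^ 2 * z * ((t * (x * t * x⁻¹)) ^ 2)⁻¹ = t * (x * t * x⁻¹) *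
    (t * (x * t * x⁻¹) * z * (t * (x * t * x⁻¹))⁻¹) * (t * (x * t * x⁻¹))⁻¹ by rw [sq]; group,
    h5, h6] at h7
  simpa using h7

theorem le_cen {p e : G} (hu : p * e ∈ omegaZ 2 (thompsonSubgroupOf 2 T)) (hp : p ∈ sSup 𝒱)
    (he : e ∈ centralizer (A : Set G)) (hc : Commute (x * t * x⁻¹) e) :
    A ⊔ zpowers ((t * (x * t * x⁻¹)) ^ 2) ≤
      centralizer ((nclIn (zpowers e) (pCoreOf 2 P) : Subgroup G) : Set G) := by
  have hAu : omegaZ 2 (thompsonSubgroupOf 2 T) ≤ centralizer (A : Set G) :=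
    (omegaZ_le_centralizer _).trans (centralizer_anti (le_thompsonSubgroupOf r.max))
  have h1 : A ≤ centralizer ((nclIn (zpowers e) (pCoreOf 2 P) : Subgroup G) : Set G) := by
    refine le_centralizer_iff.1 (nclIn_le_iff.2 fun q hq => conjS_le_iff_forall.2 fun y hy => ?_)
    have h2 : q * e * q⁻¹ ∈ centralizer (A : Set G) := by
      have h3 := hAu (conj_mem_of_mem_normalizer (le_normalizer_omegaZ_of_le
        (le_normalizer_thompson T) (h.core_le hq).1) hu)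
      have h4 : p * q = q * p := (h.core_le hq).2 p hp
      rw [show q * (p * e) * q⁻¹ = p * (q * e * q⁻¹) by rw [← mul_assoc, ← h4]; group] at h3
      exact (mul_mem_cancel_left ((mul_mem_cancel_right he).1 (hAu hu))).1 h3
    obtain ⟨k, rfl⟩ := hy
    rw [← conj_zpow]; exact zpow_mem h2 _
  have tP : t ∈ P := h.syl.le (r.max.1 r.tA)
  have hd : t * (x * t * x⁻¹) ∈ normalizer
      ((nclIn (zpowers e) (pCoreOf 2 P) : Subgroup G) : Set G) := by
    refine le_normalizer_nclIn_of_le (M := zpowers (t * (x * t * x⁻¹))) (zpowers_le.2 ?_)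
      (zpowers_le.2 (le_normalizer_pCoreOf P ?_)) (mem_zpowers _)
    · exact centralizer_le_normalizer _ (mem_centralizer_zpowers.2
        (Commute.mul_left (he t r.tA) hc))
    · exact mul_mem tP (mul_mem (mul_mem r.xP tP) (inv_mem r.xP))
  refine sup_le h1 (zpowers_le.2 ?_)
  have h5 := mul_mem (conj_mem_of_mem_normalizer (normalizer_le_normalizer_centralizer _ hd)
    (h1 r.tA)) (h1 r.tA)
  have h6 : t⁻¹ = t := inv_eq_of_mul_eq_one_right (by rw [← sq]; exact (elemAb_iff.1 r.max.2.1).2 t r.tA)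
  rwa [show t * (x * t * x⁻¹) * t * (t * (x * t * x⁻¹))⁻¹ * t = t * (x * t * x⁻¹) * (t * (x * t⁻¹ * x⁻¹))
    by group, h6, ← sq] at h5

theorem adjust {τ : G} (h1 : τ ∈ T) (h2 : τ ∈ normalizer (V : Set G)) :
    ∃ a ∈ A, τ * a ∈ centralizer (V : Set G) := by
  by_cases h3 : τ ∈ centralizer (V : Set G)
  · exact ⟨1, one_mem _, by rwa [mul_one]⟩
  exact ⟨t, r.tA, four_mul_mem (R := T ⊓ normalizer (V : Set G)) (h.four V r.mem)
    h.syl.isPGroup.to_inf_left inf_le_right ⟨h1, h2⟩ ⟨r.max.1 r.tA, r.AN h r.tA⟩ h3 r.tV⟩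

end BRt

theorem FP.baum (h : FP T P 𝒱) {u : G} (hu : u ∈ omegaZ 2 (thompsonSubgroupOf 2 T)) :
    ∃ p ∈ sSup 𝒱, ∃ a ∈ centralizer (pResOf 2 P : Set G), u = p * a := by
  obtain ⟨V, hV⟩ := h.ne
  obtain ⟨A, t, x, r⟩ := h.exists_brt hV
  obtain ⟨-, hZ, hS⟩ := h.Y_facts
  obtain ⟨s, hs, hall⟩ : ∃ s ∈ T, ∀ W ∈ 𝒱, W = V ∨ W = conjS s V ∧ W ≠ V := by
    rcases h.two.oth_cases hV with ⟨e, -⟩ | ⟨h1, h2, e⟩
    · exact ⟨1, one_mem _, fun W hW => Or.inl (by rw [e] at hW; exact hW)⟩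
    · obtain ⟨s, hs, e'⟩ := h.trans V hV _ h1
      refine ⟨s, hs, fun W hW => ?_⟩
      rw [e] at hW
      rcases hW with rfl | rfl
      exacts [Or.inl rfl, Or.inr ⟨e'.symm, h2⟩]
  obtain ⟨s, hs, hall, h0⟩ : ∃ s ∈ T, (∀ W ∈ 𝒱, W = V ∨ W = conjS s V ∧ W ≠ V) ∧
      (s = 1 ∨ conjS s V ≠ V) := by
    by_cases e : conjS s V = V
    · exact ⟨1, one_mem _, fun W hW => Or.inl ((hall W hW).elim id fun k => k.1.trans e), Or.inl rfl⟩
    · exact ⟨s, hs, hall, Or.inr e⟩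
  have r' := r.conj h.toFP0 hs
  have hY := elemAb_omegaZ (p := 2) (thompsonSubgroupOf 2 (pCoreOf 2 P))
  obtain ⟨e, p, hp, rfl, c₁, c₂, c₃, c₄⟩ : ∃ e, ∃ p ∈ sSup 𝒱, u = p * e ∧
      e ∈ centralizer (A : Set G) ∧ Commute (x * t * x⁻¹) e ∧
      e ∈ centralizer (conjS s A : Set G) ∧
      Commute (s * x * s⁻¹ * (s * t * s⁻¹) * (s * x * s⁻¹)⁻¹) e := by
    obtain ⟨e, c₁, c₂, v, hv, rfl⟩ := r.split h (hZ hu)
    have hvS : v ∈ sSup 𝒱 := le_sSup hV hv
    have heY := (mul_mem_cancel_right (hS hvS)).1 (hZ hu)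
    rcases h0 with rfl | h0
    · exact ⟨e, v, hvS, elemAb_comm hY heY (hS hvS), c₁, c₂, by rwa [conjS_one], by simpa using c₂⟩
    obtain ⟨f, c₃, c₄, w, hw, rfl⟩ := r'.split h heY
    have hwS : w ∈ sSup 𝒱 := le_sSup r'.mem hw
    obtain ⟨o₁, o₂⟩ := r.oth _ r'.mem h0
    refine ⟨f, w * v, mul_mem hwS hvS, ?_, (mul_mem_cancel_right (le_centralizer_iff.1 o₁ hw)).1 c₁,
      ?_, c₃, c₄⟩
    · rw [mul_assoc]
      exact elemAb_comm hY ((mul_mem_cancel_right (hS hwS)).1 heY) (hS (mul_mem hwS hvS))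
    · have h1 : Commute (x * t * x⁻¹) w :=
        (mul_mem (mul_mem o₂ (o₁ r.tA)) (inv_mem o₂) w hw).symm
      simpa using c₂.mul_right h1.inv_right
  refine ⟨p, hp, e, ?_, rfl⟩
  set g := (t * (x * t * x⁻¹)) ^ 2 with hg
  set D := centralizer ((nclIn (zpowers e) (pCoreOf 2 P) : Subgroup G) : Set G) with hD
  set L := A ⊔ zpowers g with hL
  have l₁ : L ≤ D := r.le_cen h hu hp c₁ c₂
  have l₂ : conjS s L ≤ D := by
    have := r'.le_cen h hu hp c₃ c₄
    refine conjS_le_iff.2 (sup_le (conjS_le_iff.1 (le_sup_left.trans this)) (zpowers_le.2 ?_))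
    rw [mem_conjS, inv_inv, show s * g * s⁻¹ = (s * t * s⁻¹ *
      (s * x * s⁻¹ * (s * t * s⁻¹) * (s * x * s⁻¹)⁻¹)) ^ 2 by rw [hg, sq, sq]; group]
    exact this (mem_sup_right (mem_zpowers _))
  set N := pCoreOf 2 P ⊔ (L ⊔ conjS s L) with hN
  have n₀ : ∀ τ ∈ T, τ ∈ normalizer (V : Set G) → τ ∈ N := by
    intro τ h1 h2
    obtain ⟨a, ha, h3⟩ := r.adjust h h1 h2
    have h4 : τ * a ∈ T := mul_mem h1 (r.max.1 ha)
    have aN : a ∈ N := mem_sup_right (mem_sup_left (mem_sup_left ha))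
    refine (mul_mem_cancel_right aN).1 ?_
    by_cases e : conjS s V = V
    · refine mem_sup_left (h.core ▸ ⟨h4, (le_centralizer_iff (H := sSup 𝒱) (K := zpowers (τ * a))).1
        (sSup_le fun W hW => ?_) (mem_zpowers _)⟩)
      rw [show W = V from (hall W hW).elim id fun k => k.1.trans e]
      exact le_centralizer_iff.1 (zpowers_le.2 h3)
    obtain ⟨b, hb, h5⟩ := r'.adjust h h4
      (h.norm_all hV r'.mem (h.syl.le h4) (centralizer_le_normalizer _ h3))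
    have bN : b ∈ N := mem_sup_right (mem_sup_right (conjS_mono le_sup_left hb))
    refine (mul_mem_cancel_right bN).1 (mem_sup_left (h.core ▸ ⟨mul_mem h4 (r'.max.1 hb),
      (le_centralizer_iff (H := sSup 𝒱) (K := zpowers (τ * a * b))).1
        (sSup_le fun W hW => le_centralizer_iff.1 (zpowers_le.2 ?_)) (mem_zpowers _)⟩))
    rcases hall W hW with rfl | ⟨rfl, -⟩
    · exact mul_mem h3 ((r'.oth W hV (Ne.symm e)).1 hb)
    · exact h5
  have n₁ : s ∈ normalizer (N : Set G) := by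
    have hsP := h.syl.le hs
    have h1 : s * s ∈ normalizer (V : Set G) := by
      rcases h0 with rfl | h0
      · simpa using one_mem _
      rw [mem_normalizer_iff_conjS, conjS_mul]
      exact (hall _ (h.conj s hsP _ r'.mem)).resolve_right fun k => h0 (conjS_injective s k.1)
    refine mem_normalizer_of_conjS_le ?_
    rw [hN, conjS_sup, conjS_sup, ← conjS_mul,
      mem_normalizer_iff_conjS.1 (le_normalizer_pCoreOf P hsP)]
    exact sup_le le_sup_left (sup_le (le_sup_right.trans le_sup_right)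
      (conjS_le_of_le_of_mem (le_sup_left.trans le_sup_right) (n₀ _ (mul_mem hs hs) h1)))
  have n₂ : T ≤ normalizer (N : Set G) := by
    intro τ hτ
    rcases hall _ (h.conj τ (h.syl.le hτ) V hV) with e | ⟨e, -⟩
    · exact le_normalizer (n₀ τ hτ (mem_normalizer_iff_conjS.2 e))
    · refine (mul_mem_cancel_left (inv_mem n₁)).1 (le_normalizer (n₀ _ (mul_mem (inv_mem hs) hτ) ?_))
      rw [mem_normalizer_iff_conjS, conjS_mul, e, conjS_inv_conjS]
  obtain ⟨z, hz, hpt, hm⟩ := r.move h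
  have tP : t ∈ P := h.syl.le (r.max.1 r.tA)
  have tN := r.AN h r.tA
  have h1 : P ≤ T ⊔ N := h.le_of_move le_sup_left hV
    (pow_mem (mul_mem tP (mul_mem (mul_mem r.xP tP) (inv_mem r.xP))) _)
    (mem_sup_right (mem_sup_right (mem_sup_left (mem_sup_right (mem_zpowers _)))))
    (pow_mem (mul_mem tN (mul_mem (mul_mem r.xN tN) (inv_mem r.xN))) _) hz hpt hm
  have h2 : pResOf 2 P ≤ D := by
    refine (pResOf_mono h1).trans ?_
    rw [pResOf_sup_of_isPGroup h.syl.isPGroup n₂]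
    refine (pResOf_mono (sup_le_sup_left (sup_le l₁ l₂) _)).trans ?_
    rw [pResOf_sup_of_isPGroup (isPGroup_pCoreOf P)
      (le_normalizer_centralizer (le_normalizer_nclIn _ _))]
    exact pResOf_le _
  exact le_centralizer_iff.1 h2 (le_nclIn _ _ (mem_zpowers e))

theorem FP0.dec_inj (h : FP0 T P 𝒱) {p a p' a' : G} (hp : p ∈ sSup 𝒱)
    (ha : a ∈ centralizer (pResOf 2 P : Set G)) (hp' : p' ∈ sSup 𝒱)
    (ha' : a' ∈ centralizer (pResOf 2 P : Set G)) (e : p * a = p' * a') : p = p' := by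
  have h1 : p'⁻¹ * p ∈ sSup 𝒱 ⊓ centralizer (pResOf 2 P : Set G) := by
    refine mem_inf.2 ⟨mul_mem (inv_mem hp') hp, ?_⟩
    rw [show p'⁻¹ * p = a' * a⁻¹ by rw [inv_mul_eq_iff_eq_mul, ← mul_assoc, ← e]; group]
    exact mul_mem ha' (inv_mem ha)
  rw [h.S_inf_cen, mem_bot, inv_mul_eq_one] at h1
  exact h1.symm

/-- uniqueness of the decomposition -/
theorem FP0.dec (h : FP0 T P 𝒱) {p a g : G} (hp : p ∈ sSup 𝒱) (ha : a ∈ centralizer (pResOf 2 P : Set G))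
    (hg : g ∈ P) (hc : g ∈ centralizer ({p * a} : Set G)) : g ∈ centralizer ({p} : Set G) := by
  have h1 := h.dec_inj (conj_mem_of_mem_normalizer (h.norm_S hg) hp)
    (conj_mem_of_mem_normalizer (le_normalizer_centralizer (le_normalizer_pResOf P) hg) ha) hp ha (by
      calc g * p * g⁻¹ * (g * a * g⁻¹) = g * (p * a) * g⁻¹ := by group
        _ = p * a := by rw [mem_centralizer_singleton_iff.1 hc]; group)
  exact mem_centralizer_singleton_iff.2 (mul_inv_eq_iff_eq_mul.1 h1)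

theorem FP.inf_res_le_baum (h : FP T P 𝒱) :
    T ⊓ pResOf 2 P ≤ T ⊓ centralizer (omegaZ 2 (thompsonSubgroupOf 2 T) : Set G) := by
  refine fun τ hτ => ⟨hτ.1, fun u hu => ?_⟩
  obtain ⟨p, hp, a, ha, rfl⟩ := h.baum hu
  exact Commute.mul_left (h.inf_res_le_cen hτ p hp) (ha τ hτ.2).symm

end CfsgLib.QT5
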