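import Mathlib
import Cfsg.Agent.Lib.QT5.BC

/-!
LOC: the local steps of the amalgam argument.
-/

set_option autoImplicit false
set_option linter.unusedSectionVars false

namespace CfsgLib.QT5

open Subgroup Cfsg CfsgLib.LAE CfsgLib.PLocal CfsgLib.ZN
open scoped commutatorElement

variable {G : Type*} [Group G] [Finite G] {T T' P P' R H M V V' W U : Subgroup G}
  {𝒱 𝒱' 𝒰 𝒲 : Set (Subgroup G)}

theorem loc_exists (hV : IsFour V) (x : G) : ∃ a ∈ V, a ≠ 1 ∧ a ≠ x := by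
  classical
  by_contra k
  push Not at k
  have h1 : (V : Set G) ⊆ {1, x} := fun a ha => by
    by_cases e : a = 1
    exacts [.inl e, .inr (k a ha e)]
  have h2 := (Set.ncard_le_ncard h1).trans (Set.ncard_insert_le _ _)
  rw [Set.ncard_singleton, ← Nat.card_coe_set_eq, SetLike.coe_sort_coe, hV.card] at h2
  omega

theorem norm_of_mutual (h : FP0 T P 𝒱) (h' : FP0 T' P' 𝒱') (h1 : sSup 𝒱' ≤ P) (h2 : sSup 𝒱 ≤ P')
    (hV : V ∈ 𝒱) : sSup 𝒱' ≤ normalizer (V : Set G) := by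
  refine sSup_le fun V' hV' v' hv' => by_contra fun k => ?_
  have vP : v' ∈ P := h1 (le_sSup hV' hv')
  obtain ⟨s1, -⟩ := h.swap hV vP k
  have v1 : v' ≠ 1 := fun e => k (e ▸ one_mem _)
  have mo : ∀ w ∈ V, v' * w⁻¹ * v'⁻¹ ∈ oth 𝒱 V := fun w hw => s1 ▸ conj_mem_conjS.2 (inv_mem hw)
  have wP : ∀ w ∈ V, w ∈ P' := fun w hw => h2 (le_sSup hV hw)
  by_cases c : V ≤ normalizer (V' : Set G)
  · have m : ∀ w ∈ V, w * (v' * w⁻¹ * v'⁻¹) ∈ V' := fun w hw => by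
      rw [show w * (v' * w⁻¹ * v'⁻¹) = w * v' * w⁻¹ * v'⁻¹ by group]
      exact mul_mem (conj_mem_of_mem_normalizer (c hw) hv') (inv_mem hv')
    have n1 : ∀ w ∈ V, w ≠ 1 → w * (v' * w⁻¹ * v'⁻¹) ≠ 1 := fun w hw w1 e =>
      w1 (h.dec_uniq hV hw (one_mem _) (mo w hw) (one_mem _) (by rw [e, one_mul])).1
    have n2 : ∀ w, w * (v' * w⁻¹ * v'⁻¹) ≠ v' := fun w e => conj_ne_one (g := w) v1 (by
      calc w * v' * w⁻¹ = w * (v' * w⁻¹ * v'⁻¹) * v' := by group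
        _ = 1 := by rw [e, (h'.four V' hV').mul_self hv'])
    obtain ⟨a, ha, a1, -⟩ := loc_exists (h.four V hV) 1
    obtain ⟨b, hb, b1, ba⟩ := loc_exists (h.four V hV) a
    have key : ∀ w ∈ V, w ≠ 1 → w ≠ a → w * (v' * w⁻¹ * v'⁻¹) = v' * (a * (v' * a⁻¹ * v'⁻¹)) := by
      intro w hw w1 wa
      rcases four_cases (h'.four V' hV') hv' (m a ha) v1 (n1 a ha a1) (n2 a).symm (m w hw)
        with e | e | e | e
      exacts [absurd e (n1 w hw w1), absurd e (n2 w),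
        absurd (h.dec_uniq hV hw ha (mo w hw) (mo a ha) e).1 wa, e]
    have hab := mul_mem ha hb
    have e := (key b hb b1 ba).trans (key (a * b) hab (fun e => ba (by
      rw [← (h.four V hV).mul_self ha, mul_right_inj] at e; exact e)) (by simpa using b1)).symm
    exact a1 (by simpa using (h.dec_uniq hV hb hab (mo b hb) (mo _ hab) e).1)
  · obtain ⟨w, hw, wn⟩ := SetLike.not_le_iff_exists.1 c
    obtain ⟨t1, -⟩ := h'.swap hV' (wP w hw) wn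
    obtain ⟨w₀, hw₀, w1, n₀⟩ : ∃ w₀ ∈ V, w₀ ≠ 1 ∧ w₀ ∈ normalizer (V' : Set G) := by
      obtain ⟨a, ha, a1, aw⟩ := loc_exists (h.four V hV) w
      by_cases an : a ∈ normalizer (V' : Set G)
      · exact ⟨a, ha, a1, an⟩
      · refine ⟨a * w, mul_mem ha hw, fun e => aw (by
          rw [← (h.four V hV).mul_self hw, mul_left_inj] at e; exact e), ?_⟩
        rw [mem_normalizer_iff_conjS, conjS_mul, t1, (h'.swap hV' (wP a ha) an).2]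
    have m1 : w * v'⁻¹ * w⁻¹ ∈ oth 𝒱' V' := t1 ▸ conj_mem_conjS.2 (inv_mem hv')
    have m2 : v' * (w * v'⁻¹ * w⁻¹) ∈ sSup 𝒱 := by
      rw [← sup_oth hV, show v' * (w * v'⁻¹ * w⁻¹) = v' * w⁻¹⁻¹ * v'⁻¹ * w⁻¹ by group]
      exact mul_mem (mem_sup_right (mo _ (inv_mem hw))) (mem_sup_left (inv_mem hw))
    have cm : w₀ * (v' * (w * v'⁻¹ * w⁻¹)) = v' * (w * v'⁻¹ * w⁻¹) * w₀ :=
      congrArg Subtype.val (h.elemAb.1.is_comm.comm (⟨w₀, le_sSup hV hw₀⟩ : ↥(sSup 𝒱)) ⟨_, m2⟩)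
    have e := (h'.dec_uniq hV' (conj_mem_of_mem_normalizer n₀ hv') hv'
      (conj_mem_of_mem_normalizer (h'.norm_oth (wP _ hw₀) n₀) m1) m1
      (by rw [conj_mul, cm, mul_inv_cancel_right])).1
    have k2 : w₀⁻¹ ∈ V ⊓ oth 𝒱 V := ⟨V.inv_mem hw₀, by
      have := mo w₀ hw₀
      rwa [show v' * w₀⁻¹ * v'⁻¹ = w₀⁻¹ * (w₀ * v' * w₀⁻¹) * v'⁻¹ by group, e,
        mul_inv_cancel_right] at this⟩
    rw [h.inf_oth hV, mem_bot, inv_eq_one] at k2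
    exact w1 k2

theorem loc_pt1 (h : FP0 T P 𝒱) (hV : V ∈ 𝒱) {y z : G} (hy : y ∈ T) (hn : y ∉ centralizer (V : Set G))
    (hz : z ∈ V) (z1 : z ≠ 1) (c : y ∈ centralizer ({z} : Set G)) : z ∈ Pt T 𝒱 := by
  obtain ⟨a, ha, pa⟩ := h.exists_pt hV
  rwa [four_fix (h.four V hV) hn hz ha z1 pa.1 c (h.pt_cen hV ha pa
    ⟨hy, h.norm_of_fix hV (h.syl.le hy) hz z1 (by rwa [ba_cen.1 c])⟩)]

theorem loc_pt (h : FP0 T P 𝒱) (h' : FP0 T' P' 𝒱') (h1 : sSup 𝒱' ≤ T) (h2 : sSup 𝒱 ≤ T')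
    (hV : V ∈ 𝒱) (hV' : V' ∈ 𝒱') (hn : ¬ V' ≤ centralizer (V : Set G)) :
    ∃ z ∈ V, z ∈ V' ∧ z ∈ Pt T 𝒱 ∧ z ∈ Pt T' 𝒱' := by
  obtain ⟨v', hv', k⟩ := SetLike.not_le_iff_exists.1 hn
  obtain ⟨v, hv, ne⟩ : ∃ v ∈ V, v' * v * v'⁻¹ ≠ v := by
    by_contra c
    push Not at c
    exact k (ba_cen'.2 c)
  have n1 := norm_of_mutual h h' (h1.trans h.syl.le) (h2.trans h'.syl.le) hV (le_sSup hV' hv')
  have n2 := norm_of_mutual h' h (h2.trans h'.syl.le) (h1.trans h.syl.le) hV' (le_sSup hV hv)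
  have zV : v' * v * v'⁻¹ * v⁻¹ ∈ V := mul_mem (conj_mem_of_mem_normalizer n1 hv) (inv_mem hv)
  have zV' : v' * v * v'⁻¹ * v⁻¹ ∈ V' := by
    rw [show v' * v * v'⁻¹ * v⁻¹ = v' * (v * v'⁻¹ * v⁻¹) by group]
    exact mul_mem hv' (conj_mem_of_mem_normalizer n2 (inv_mem hv'))
  have z1 : v' * v * v'⁻¹ * v⁻¹ ≠ 1 := fun e => ne (mul_inv_eq_one.1 e)
  exact ⟨_, zV, zV', loc_pt1 h hV (h1 (le_sSup hV' hv')) k zV z1
    (mem_centralizer_singleton_iff.2 ((h'.four V' hV').comm hv' zV')),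
    loc_pt1 h' hV' (h2 (le_sSup hV hv)) (fun c => ne (by rw [c v' hv', mul_inv_cancel_right])) zV' z1
    (mem_centralizer_singleton_iff.2 ((h.four V hV).comm hv zV))⟩

theorem pr_of (h : FP0 T P 𝒱) (h' : FP0 T' P' 𝒱') (h1 : sSup 𝒱' ≤ T) (h2 : sSup 𝒱 ≤ T')
    (hV : V ∈ 𝒱) (hV' : V' ∈ 𝒱') (hn : ¬ V' ≤ centralizer (V : Set G)) : ∃ z, Pr T T' 𝒱 𝒱' V V' z := by
  obtain ⟨z, zV, zV', p, p'⟩ := loc_pt h h' h1 h2 hV hV' hn
  refine ⟨z, hV, hV', zV, zV', p, p', hn, fun W hW ne => by_contra fun k => ?_,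
    fun W hW ne => by_contra fun k => ?_⟩
  · obtain ⟨y, yW, yV', -, q'⟩ := loc_pt h h' h1 h2 hW hV' k
    have : z ∈ W ⊓ V := ⟨h'.pt_uniq hV' yV' zV' q' p' ▸ yW, zV⟩
    rw [h.disj W hW V hV ne] at this
    exact p.1 this
  · obtain ⟨y, yW, yV, -, q⟩ := loc_pt h' h h2 h1 hW hV k
    have : z ∈ W ⊓ V' := ⟨h.pt_uniq hV yV zV q p ▸ yW, zV'⟩
    rw [h'.disj W hW V' hV' ne] at this
    exact p.1 this

/-- critical pairs -/
theorem exists_pr (h : FP0 T P 𝒱) (h' : FP0 T' P' 𝒱') (h1 : sSup 𝒱' ≤ T) (h2 : sSup 𝒱 ≤ T')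
    (hn : ¬ sSup 𝒱 ≤ centralizer ((sSup 𝒱' : Subgroup G) : Set G)) : ∃ V V' z, Pr T T' 𝒱 𝒱' V V' z := by
  by_contra k
  refine hn (sSup_le fun V hV => le_centralizer_iff.1 (sSup_le fun V' hV' => by_contra fun c => ?_))
  obtain ⟨z, hz⟩ := pr_of h h' h1 h2 hV hV' c
  exact k ⟨V, V', z, hz⟩

/-- the shift -/
theorem Am.shift (h : Am T P R 𝒱 𝒰) (h' : FP0 T' P' 𝒱') (hV : V ∈ 𝒱) (hV' : V' ∈ 𝒱') {z : G}
    (z1 : z ≠ 1) (zV : z ∈ V) (zV' : z ∈ V') (hP : V' ≤ P) (nc : ¬ V' ≤ centralizer (V : Set G))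
    (al : z ∉ Pt T 𝒱) (hQ : sSup 𝒰 ≤ pCoreOf 2 P) : ¬ sSup 𝒰 ≤ P' := fun hU => by
  have f := h.fp.toFP0
  have zz := (f.four V hV).mul_self zV
  have TP := f.syl.le
  have TR := h.fr.syl.le
  obtain ⟨v', hv', k⟩ := SetLike.not_le_iff_exists.1 nc
  have vz : v' ∈ centralizer ({z} : Set G) :=
    mem_centralizer_singleton_iff.2 ((h'.four V' hV').comm hv' zV')
  have nN : v' ∈ normalizer ((sSup 𝒰 ⊔ sSup 𝒱 : Subgroup G) : Set G) := by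
    refine mem_normalizer_of_conjS_le ?_
    rw [conjS_sup, mem_normalizer_iff_conjS.1 (f.norm_S (hP hv'))]
    refine sup_le (conjS_le_iff_forall.2 fun y hy => ?_) le_sup_right
    have yz : y⁻¹ ∈ centralizer ({z} : Set G) := inv_mem (mem_centralizer_singleton_iff.2
      ((f.core_le (hQ hy)).2 z (le_sSup hV zV)).symm)
    have yn := h'.norm_of_fix hV' (inv_mem (hU hy)) zV' z1 (by rwa [ba_cen.1 yz])
    rw [show v' * y * v'⁻¹ = y * (y⁻¹ * v' * y⁻¹⁻¹ * v'⁻¹) by group]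
    refine mul_mem_sup hy ?_
    rcases four_commutator (h'.four V' hV') zV' z1 yn yz hv' with e | e
    · rw [e, mul_inv_cancel]; exact one_mem _
    · rw [e, ba_cen.1 vz]; exact le_sSup hV zV
  obtain ⟨p, hp, pp⟩ := f.exists_pt hV
  have PN : P ≤ normalizer ((sSup 𝒰 ⊔ sSup 𝒱 : Subgroup G) : Set G) :=
    h.fp.le_of_move (le_normalizer_sup (TR.trans h.fr.norm_S) (TP.trans f.norm_S)) hV (hP hv') nN
      (f.norm_of_fix hV (hP hv') zV z1 (by rwa [ba_cen.1 vz])) hp pp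
      fun c => al (by rwa [four_fix (f.four V hV) k zV hp z1 pp.1 vz c])
  set Q := pCoreOf 2 P ⊓ centralizer ((sSup 𝒰 ⊔ sSup 𝒱 : Subgroup G) : Set G) with hQ'
  have nQ : P ≤ normalizer (Q : Set G) :=
    le_normalizer_inf (le_normalizer_pCoreOf P) (le_normalizer_centralizer PN)
  have QR : Q ≤ pCoreOf 2 R := by
    rw [h.fr.core]
    exact le_inf (inf_le_left.trans f.syl.pCoreOf_le)
      (inf_le_right.trans (centralizer_anti le_sup_left))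
  have RT := h.fr.syl.pCoreOf_le
  have PT := f.syl.pCoreOf_le
  have K1 : pCoreOf 2 R ≤ P ⊓ BHS.kl (pCoreOf 2 P) Q := by
    refine le_inf (RT.trans TP) ((BHS.le_kl_iff ((RT.trans TP).trans (le_normalizer_pCoreOf P))).2 ?_)
    have c1 := commutator_le_left_of_le_normalizer ((RT.trans TP).trans (le_normalizer_pCoreOf (p := 2) P))
    have c2 := commutator_le_right_of_le_normalizer ((PT.trans TR).trans (le_normalizer_pCoreOf (p := 2) R))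
    refine le_inf c1 ?_
    rw [centralizer_sup]
    exact le_inf (c2.trans (h.fr.toFP0.core_le.trans inf_le_right))
      (c1.trans (f.core_le.trans inf_le_right))
  have K2 := h.fp.res_le (K := P ⊓ BHS.kl (pCoreOf 2 P) Q) inf_le_left
    (le_normalizer_inf le_normalizer fun g hg => mem_normalizer_iff_conjS.2 (by
      rw [BHS.conjS_kl, mem_normalizer_iff_conjS.1 (le_normalizer_pCoreOf P hg),
        mem_normalizer_iff_conjS.1 (nQ hg)]))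
    fun c => h.sr (h.fr.inf_res_le.trans (by rw [h.fp.core]; exact le_inf RT (K1.trans c)))
  exact h.sp (h.fp.inf_res_le_commutator.trans (((BHS.le_kl_iff ((pResOf_le P).trans
    (le_normalizer_pCoreOf P))).1 (K2.trans inf_le_right)).trans QR))

/-- three conjugate edges -/
theorem FP.tri (h : FP T P 𝒱) (hV : V ∈ 𝒱) {z : G} (z1 : z ≠ 1) (zV : z ∈ V) (hP : V' ≤ P)
    (hz : V' ≤ centralizer ({z} : Set G)) (nc : ¬ V' ≤ centralizer (V : Set G)) {F : Set G} (hF : Two F)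
    (H : ∀ g ∈ P, z ∉ Pt (conjS g T) 𝒱 → ∃ p ∈ sSup 𝒱, ∃ a ∈ centralizer (pResOf 2 P : Set G),
      p * a ∈ F ∧ p ≠ 1 ∧ thompsonSubgroupOf 2 (conjS g T) ≤ centralizer ({p} : Set G) ∧
        V' ≤ centralizer ({p} : Set G)) : False := by
  have f := h.toFP0
  obtain ⟨v', hv', k⟩ := SetLike.not_le_iff_exists.1 nc
  have vn := f.norm_of_fix hV (hP hv') zV z1 (by rwa [ba_cen.1 (hz hv')])
  have key : ∀ g ∈ P, z ∉ Pt (conjS g T) 𝒱 → oth 𝒱 V ∈ 𝒱 ∧ ∃ p ∈ oth 𝒱 V, p ∈ Pt (conjS g T) 𝒱 ∧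
      ∃ a ∈ centralizer (pResOf 2 P : Set G), p * a ∈ F := by
    intro g hg al
    obtain ⟨p, hp, a, ha, pF, p1, pJ, pV⟩ := H g hg al
    have f' := (h.conj_mem hg).toFP0
    obtain ⟨v, hv, w, hw, rfl⟩ := f.decomp hV hp
    have fx : ∀ x ∈ P, x ∈ normalizer (V : Set G) → x ∈ centralizer ({v * w} : Set G) →
        x ∈ centralizer ({v} : Set G) := fun x xP xn xc =>
      ba_cen.2 (f.dec_uniq hV (conj_mem_of_mem_normalizer xn hv) hv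
        (conj_mem_of_mem_normalizer (f.norm_oth xP xn) hw) hw (by rw [conj_mul, ba_cen.1 xc])).1
    have v1 : v = 1 := by_contra fun v1 => al (by
      rw [four_fix (f.four V hV) k zV hv z1 v1 (hz hv') (fx v' (hP hv') vn (pV hv'))]
      exact f'.pt_of_J hV hv v1 fun x hx =>
        fx x (f'.syl.le (thompsonSubgroupOf_le _ hx)) (f'.jn V hV hx) (pJ hx))
    rw [v1, one_mul] at pF p1 pJ
    rcases f.two.oth_cases hV with ⟨-, e⟩ | ⟨hW, -, -⟩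
    · rw [e] at hw; exact absurd hw p1
    exact ⟨hW, w, hw, f'.pt_of_J hW hw p1 pJ, a, ha, pF⟩
  obtain ⟨g₀, hg₀, al⟩ := f.exists_allowed hV zV z1
  obtain ⟨hW, p₀, hp₀, pp₀, a₀, ha₀, F₀⟩ := key g₀ hg₀ al
  obtain ⟨y, yP, yo, fy, yc⟩ := f.exists_odd hW
  rw [f.oth_oth hV hW] at yc
  have WS : oth 𝒱 V ≤ sSup 𝒱 := le_sSup hW
  have key2 : ∀ m : ℕ, y ^ m * p₀ * (y ^ m)⁻¹ ∈ sSup 𝒱 ∧ ∃ a ∈ centralizer (pResOf 2 P : Set G),
      y ^ m * p₀ * (y ^ m)⁻¹ * a ∈ F := by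
    intro m
    have mP := pow_mem yP m
    have tr : ∀ x, y ^ m * x * (y ^ m)⁻¹ ∈ Pt (conjS (y ^ m * g₀) T) 𝒱 ↔ x ∈ Pt (conjS g₀ T) 𝒱 :=
      fun x => by
        conv_lhs => rw [← f.image_conj mP, conjS_mul]
        exact Pt_conj _
    obtain ⟨-, p, hp, pp, a, ha, Fa⟩ := key (y ^ m * g₀) (mul_mem mP hg₀) fun c => al (by
      rwa [← ba_cen'.1 (pow_mem yc m) z zV, tr] at c)
    have hm := conj_mem_of_mem_normalizer (pow_mem (f.norm_of_odd hW yP yo) m) hp₀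
    have e := (h.conj_mem (mul_mem mP hg₀)).toFP0.pt_uniq hW hp hm pp ((tr p₀).2 pp₀)
    exact ⟨WS hm, a, ha, e ▸ Fa⟩
  have ny : y ∉ centralizer ({p₀} : Set G) := fun c => pp₀.1 (by
    rw [← mem_bot, ← fy]
    exact ⟨hp₀, mem_centralizer_singleton_iff.2 (mem_centralizer_singleton_iff.1 c).symm⟩)
  obtain ⟨s1, a₁, ha₁, F₁⟩ := key2 1
  obtain ⟨s2, a₂, ha₂, F₂⟩ := key2 2
  rcases hF _ F₀ _ F₁ _ F₂ with e | e | e
  · exact ny (ba_cen.2 (by simpa using (f.dec_inj (WS hp₀) ha₀ s1 ha₁ e).symm))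
  · exact ny (mem_of_pow_mem_of_coprime (n := 2) (Nat.coprime_two_right.2 yo)
      (ba_cen.2 (f.dec_inj (WS hp₀) ha₀ s2 ha₂ e).symm))
  · have e' := f.dec_inj s1 ha₁ s2 ha₂ e
    refine ny (ba_cen.2 ?_)
    calc y * p₀ * y⁻¹ = y⁻¹ * (y ^ 2 * p₀ * (y ^ 2)⁻¹) * y := by group
      _ = _ := by rw [← e']; group

theorem Am.gd_step (h : Am T P R 𝒱 𝒰) (k : ¬ Gd T P 𝒰) {u : G} (hu : u ∈ Pt T 𝒰) (hP : V' ≤ P)
    (hc : V' ≤ centralizer ({u} : Set G)) : ∃ p ∈ sSup 𝒱, ∃ a ∈ centralizer (pResOf 2 P : Set G),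
      p * a = u ∧ p ≠ 1 ∧ thompsonSubgroupOf 2 T ≤ centralizer ({p} : Set G) ∧
        V' ≤ centralizer ({p} : Set G) := by
  have f := h.fp.toFP0
  obtain ⟨p, hp, a, ha, rfl⟩ := h.fp.baum (h.fr.toFP0.pt_mem_omegaZ hu)
  refine ⟨p, hp, a, ha, rfl, fun p1 => k fun u' hu' => ?_, fun g hg => f.dec hp ha
    (f.syl.le (thompsonSubgroupOf_le T hg)) (h.fr.toFP0.pt_J hu hg),
    fun g hg => f.dec hp ha (hP hg) (hc hg)⟩
  obtain ⟨t, ht, rfl⟩ := h.fr.toFP0.pt_trans hu hu'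
  rw [← conjS_cen1, ← mem_normalizer_iff_conjS.1 (le_normalizer_pResOf P (f.syl.le ht)), p1, one_mul]
  exact conjS_mono fun x hx => mem_centralizer_singleton_iff.2 (ha x hx)

end CfsgLib.QT5
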