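import Mathlib
import Cfsg.Agent.Lib.QT5.LOC

/-!
ONE: structure for critical distance one.
-/

set_option autoImplicit false

namespace CfsgLib.QT5

open Subgroup Cfsg CfsgLib.LAE CfsgLib.PLocal CfsgLib.ZN
open scoped commutatorElement

variable {G : Type*} [Group G] [Finite G] {T T' P P' R H M V V' W U : Subgroup G}
  {𝒱 𝒱' 𝒰 𝒲 : Set (Subgroup G)}

namespace ONE

/-- the subgroup generated by the squares -/
def sq (D : Subgroup G) : Subgroup G := closure ((fun x => x * x) '' (D : Set G))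

theorem norm_sq (D : Subgroup G) : normalizer (D : Set G) ≤ normalizer (sq D : Set G) := by
  intro g hg
  refine mem_normalizer_of_conjS_le (conjS_le_iff.2 ((closure_le _).2 ?_))
  rintro _ ⟨x, hx, rfl⟩
  refine mem_conjS.2 (subset_closure ⟨g * x * g⁻¹, conj_mem_of_mem_normalizer hg hx, ?_⟩)
  simp only [inv_inv]; group

omit [Finite G] in
theorem elemAb_of_sq {D : Subgroup G} (h : sq D = ⊥) : IsElementaryAbelian 2 D := by
  have k : ∀ a ∈ D, a * a = 1 := fun a ha => mem_bot.1 (h ▸ subset_closure ⟨a, ha, rfl⟩)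
  refine elemAb_iff.2 ⟨fun a ha b hb => ?_, fun a ha => by rw [pow_two, k a ha]⟩
  have e := k _ (mul_mem ha hb)
  have e2 : b * a = (a * a)⁻¹ * a * (a * b * (a * b)) * b * (b * b)⁻¹ := by group
  rw [e2, e, k a ha, k b hb]; group

end ONE

namespace B1
variable (h : B1 T P R 𝒱 𝒰)
include h

theorem partner (hV : V ∈ 𝒱) : ∃ U z, Pr T T 𝒱 𝒰 V U z := by
  obtain ⟨V₀, U₀, z, hp⟩ := exists_pr h.fp.toFP0 h.fr.toFP0 h.fr.S_le h.fp.S_le h.nc
  obtain ⟨t, ht, rfl⟩ := h.fp.trans V₀ hp.mem V hV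
  have hU := h.fr.conj t (h.fr.syl.le ht) U₀ hp.mem'
  obtain ⟨z', hp'⟩ := pr_of h.fp.toFP0 h.fr.toFP0 h.fr.S_le h.fp.S_le hV hU (by
    rw [← conjS_centralizer, conjS_le_conjS_iff]; exact hp.nc)
  exact ⟨_, z', hp'⟩

theorem ONE.step (hV : V ∈ 𝒱) {y : G} (hy : y ∈ T) (hn : y ∈ normalizer (V : Set G)) :
    ∃ s ∈ sSup 𝒰, y * s ∈ centralizer (V : Set G) ∧ ∀ W ∈ 𝒱, W ≠ V → s ∈ centralizer (W : Set G) := by
  by_cases hc : y ∈ centralizer (V : Set G)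
  · exact ⟨1, one_mem _, by rwa [mul_one], fun _ _ _ => one_mem _⟩
  obtain ⟨U, z, hp⟩ := h.partner hV
  obtain ⟨u, hu, hu'⟩ := SetLike.not_le_iff_exists.1 hp.nc
  have huS : u ∈ sSup 𝒰 := le_sSup hp.mem' hu
  have huN : u ∈ T ⊓ normalizer (V : Set G) := ⟨h.fr.S_le huS, norm_of_mutual h.fp.toFP0 h.fr.toFP0
    (h.fr.S_le.trans h.fp.syl.le) (h.fp.S_le.trans h.fr.syl.le) hV huS⟩
  have h2 := (h.fp.four V hV).relIndex_eq_two (P := T ⊓ normalizer (V : Set G))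
    (h.fp.syl.isPGroup.to_le inf_le_left) inf_le_right fun k => hu' (k huN)
  refine ⟨u, huS, ?_, fun W hW hne => hp.oth W hW hne hu⟩
  have := (mul_mem_iff_of_index_two h2 (a := ⟨y, hy, hn⟩) (b := ⟨u, huN⟩)).2
    (iff_of_false hc hu')
  exact this

theorem ONE.adj (hV : V ∈ 𝒱) {y : G} (hy : y ∈ T) (hn : y ∈ normalizer (V : Set G)) :
    ∃ s ∈ sSup 𝒰, y * s ∈ pCoreOf 2 P := by
  obtain ⟨s, hs, h1, -⟩ := ONE.step h hV hy hn
  rw [h.fp.core, ← sup_oth hV, centralizer_sup]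
  rcases h.fp.two.oth_cases hV with ⟨-, e⟩ | ⟨e, ne, -⟩
  · exact ⟨s, hs, mul_mem hy (h.fr.S_le hs), h1, fun w hw => by
      rw [e] at hw; rw [mem_bot.1 hw, one_mul, mul_one]⟩
  · have hys := mul_mem hy (h.fr.S_le hs)
    obtain ⟨r, hr, h2, h3⟩ := ONE.step h e hys (h.fp.norm_all hV e (h.fp.syl.le hys)
      (le_normalizer_of_le_centralizer le_rfl h1))
    refine ⟨s * r, mul_mem hs hr, ?_⟩
    rw [← mul_assoc]
    exact ⟨mul_mem hys (h.fr.S_le hr), mul_mem h1 (h3 V hV ne.symm), h2⟩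

theorem ONE.norm_le (hV : V ∈ 𝒱) : T ⊓ normalizer (V : Set G) ≤ pCoreOf 2 P ⊔ sSup 𝒰 := by
  rintro y ⟨hy, hn⟩
  obtain ⟨s, hs, k⟩ := ONE.adj h hV hy hn
  have := mul_mem (mem_sup_left (T := sSup 𝒰) k) (inv_mem (mem_sup_right (S := pCoreOf 2 P) hs))
  rwa [mul_inv_cancel_right] at this

/-- `O₂(R)` normalizes the members of `𝒱` -/
theorem ONE.core_norm (hV : V ∈ 𝒱) : pCoreOf 2 R ≤ normalizer (V : Set G) := by
  intro y hy
  obtain ⟨U, z, hp⟩ := h.partner hV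
  have k := h.fr.core_le hy
  refine h.fp.norm_of_fix hV (h.fp.syl.le k.1) hp.zV hp.pt.1 ?_
  rw [← k.2 z (le_sSup hp.mem' hp.zV'), mul_inv_cancel_right]; exact hp.zV

theorem ONE.split {y : G} (hy : y ∈ pCoreOf 2 R) :
    ∃ d ∈ pCoreOf 2 P ⊓ pCoreOf 2 R, ∃ s ∈ sSup 𝒰, y = d * s := by
  obtain ⟨V, hV⟩ := h.fp.ne
  obtain ⟨s, hs, k⟩ := ONE.adj h hV (h.fr.core_le hy).1 (ONE.core_norm h hV hy)
  exact ⟨y * s, ⟨k, mul_mem hy (h.fr.S_le_core hs)⟩, s⁻¹, inv_mem hs, by group⟩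

theorem ONE.sq_le : ONE.sq (pCoreOf 2 R) ≤ ONE.sq (pCoreOf 2 P) := by
  refine (closure_le _).2 ?_
  rintro _ ⟨y, hy, rfl⟩
  obtain ⟨d, hd, s, hs, rfl⟩ := ONE.split h hy
  refine subset_closure ⟨d, hd.1, ?_⟩
  have e1 : s * d = d * s := (h.fr.core_le hd.2).2 s hs
  have e2 : s * s = 1 := by rw [← pow_two]; exact h.fr.elemAb.2 s hs
  show d * d = d * s * (d * s)
  rw [show d * s * (d * s) = d * (s * d) * s by group, e1, mul_assoc, mul_assoc, e2, mul_one]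

theorem elemAb_core : IsElementaryAbelian 2 (pCoreOf 2 P) := by
  have e := le_antisymm (ONE.sq_le h.symm) (ONE.sq_le h)
  refine ONE.elemAb_of_sq (h.noN _ ((closure_le _).2 ?_)
    ((le_normalizer_pCoreOf P).trans (ONE.norm_sq _))
    (e ▸ (le_normalizer_pCoreOf R).trans (ONE.norm_sq _)))
  rintro _ ⟨y, hy, rfl⟩
  exact mul_mem (h.fp.core_le hy).1 (h.fp.core_le hy).1

theorem ONE.core_mem : pCoreOf 2 P ∈ maxElemIn 2 T := by
  obtain ⟨A, hA, hc⟩ := h.fp.exists_max_cen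
  refine mem_maxElemIn_of_card_le hA h.fp.syl.pCoreOf_le h.elemAb_core (card_le_card_of_le ?_)
  rw [h.fp.core]; exact le_inf (mem_maxElemIn.1 hA).1 hc

theorem ONE.sup_le_J : pCoreOf 2 P ⊔ pCoreOf 2 R ≤ thompsonSubgroupOf 2 T :=
  sup_le (le_thompsonSubgroupOf (ONE.core_mem h)) (le_thompsonSubgroupOf (ONE.core_mem h.symm))

omit [Finite G] in
theorem ONE.J_le (hV : V ∈ 𝒱) : thompsonSubgroupOf 2 T ≤ T ⊓ normalizer (V : Set G) :=
  le_inf (thompsonSubgroupOf_le T) (h.fp.jn V hV)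

theorem J_eq : thompsonSubgroupOf 2 T = pCoreOf 2 P ⊔ pCoreOf 2 R := by
  obtain ⟨V, hV⟩ := h.fp.ne
  exact le_antisymm (((ONE.J_le h hV).trans (ONE.norm_le h hV)).trans
    (sup_le_sup_left h.fr.S_le_core _)) (ONE.sup_le_J h)

theorem J_eq_norm (hV : V ∈ 𝒱) : thompsonSubgroupOf 2 T = T ⊓ normalizer (V : Set G) := by
  exact le_antisymm (ONE.J_le h hV) (((ONE.norm_le h hV).trans
    (sup_le_sup_left h.fr.S_le_core _)).trans (ONE.sup_le_J h))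

theorem J_eq_sup : thompsonSubgroupOf 2 T = pCoreOf 2 P ⊔ sSup 𝒰 := by
  obtain ⟨V, hV⟩ := h.fp.ne
  exact le_antisymm ((ONE.J_le h hV).trans (ONE.norm_le h hV))
    ((sup_le_sup_left h.fr.S_le_core _).trans (ONE.sup_le_J h))

theorem ONE.inf_dec {d : G} (hd : d ∈ pCoreOf 2 P ⊓ pCoreOf 2 R) :
    ∃ p ∈ sSup 𝒱, ∃ a ∈ pCoreOf 2 P ⊓ centralizer (pResOf 2 P : Set G), d = p * a := by
  obtain ⟨p, hp, a, ha, e⟩ := h.fp.baum (u := d) (mem_omegaZ.2 ⟨ONE.sup_le_J h (mem_sup_left hd.1), by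
    rw [h.J_eq, centralizer_sup]
    exact ⟨elemAb_le_centralizer h.elemAb_core hd.1, elemAb_le_centralizer h.symm.elemAb_core hd.2⟩,
    h.elemAb_core.2 d hd.1⟩)
  refine ⟨p, hp, a, ⟨?_, ha⟩, e⟩
  have := mul_mem (inv_mem (h.fp.S_le_core hp)) (mem_inf.1 hd).1
  rwa [e, inv_mul_cancel_left] at this

theorem core_eq : pCoreOf 2 P = sSup 𝒱 ⊔ (pCoreOf 2 P ⊓ centralizer (pResOf 2 P : Set G)) := by
  refine le_antisymm (fun y hy => ?_) (sup_le h.fp.S_le_core inf_le_left)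
  obtain ⟨d, hd, s, hs, rfl⟩ := ONE.split h.symm hy
  obtain ⟨p, hp, a, ha, rfl⟩ := ONE.inf_dec h ⟨hd.2, hd.1⟩
  exact mul_mem (mul_mem (mem_sup_left hp) (mem_sup_right ha)) (mem_sup_left hs)

theorem cen_le : pCoreOf 2 P ⊓ centralizer (pResOf 2 P : Set G) ≤ pCoreOf 2 R := by
  intro a ha
  rw [h.fr.core]
  have hT := h.fp.core_le (mem_inf.1 ha).1
  refine ⟨hT.1, (le_centralizer_iff.1 (sSup_le fun U hU u hu => ?_) :
    zpowers a ≤ centralizer ((sSup 𝒰 : Subgroup G) : Set G)) (mem_zpowers a)⟩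
  obtain ⟨V, z, hp⟩ := h.symm.partner hU
  have hzS : z ∈ sSup 𝒱 := le_sSup hp.mem' hp.zV'
  rw [mem_centralizer_zpowers]
  rcases four_commutator (h.fr.four U hU) hp.zV hp.pt.1 (ONE.core_norm h.symm hU (mem_inf.1 ha).1)
    (mem_centralizer_singleton_iff.2 (hT.2 z hzS).symm) hu with e | e
  · rw [← e, inv_mul_cancel_right, e]
  · exfalso
    have hn : u⁻¹ ∈ normalizer ((pCoreOf 2 P ⊓ centralizer (pResOf 2 P : Set G) : Subgroup G) : Set G) :=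
      le_normalizer_inf (le_normalizer_pCoreOf P) (le_normalizer_centralizer (le_normalizer_pResOf P))
        (inv_mem (h.fp.syl.le (h.fr.le U hU hu)))
    have h1 := mul_mem (conj_mem_of_mem_normalizer hn ha) (inv_mem ha)
    rw [show u⁻¹ * a * u⁻¹⁻¹ * a⁻¹ = u⁻¹ * (a * u * a⁻¹) by group, e, inv_mul_cancel_left] at h1
    have : z ∈ sSup 𝒱 ⊓ centralizer (pResOf 2 P : Set G) := ⟨hzS, h1.2⟩
    rw [h.fp.S_inf_cen, mem_bot] at this
    exact hp.pt.1 this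

theorem ONE.mem_of_cen (hU : U ∈ 𝒰) {u w : G} (hu : u ∈ U) (hw : w = 1 ∨ ∃ W ∈ 𝒰, W ≠ U ∧ w ∈ W)
    (hc : u * w ∈ centralizer ((sSup 𝒱 : Subgroup G) : Set G)) : u ∈ sSup 𝒱 := by
  obtain ⟨V, z, hp⟩ := h.symm.partner hU
  obtain ⟨y, hy, hy'⟩ := SetLike.not_le_iff_exists.1 hp.nc
  by_cases u1 : u = 1
  · rw [u1]; exact one_mem _
  have e1 : y * (u * w) = u * w * y := hc y (le_sSup hp.mem' hy)
  have e2 : w * y = y * w := by
    rcases hw with rfl | ⟨W, hW, ne, hw⟩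
    · group
    · exact hp.oth W hW ne hy w hw
  have := four_fix (h.fr.four U hU) hy' hu hp.zV u1 hp.pt.1 (mem_centralizer_singleton_iff.2 (by
    rw [show y * u = y * (u * w) * w⁻¹ by group, e1, mul_assoc u, e2]; group))
    (mem_centralizer_singleton_iff.2 ((h.fp.four V hp.mem').comm hy hp.zV'))
  rw [this]; exact le_sSup hp.mem' hp.zV'

theorem ONE.S_inf : sSup 𝒰 ⊓ pCoreOf 2 P ≤ sSup 𝒱 := by
  rintro s ⟨hs, hq⟩
  have hc := (h.fp.core_le hq).2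
  obtain ⟨U, hU⟩ := h.fr.ne
  obtain ⟨u, hu, w, hw, rfl⟩ := h.fr.decomp hU hs
  rcases h.fr.two.oth_cases hU with ⟨-, e⟩ | ⟨e, ne, -⟩
  · rw [e, mem_bot] at hw
    have := ONE.mem_of_cen h hU hu (Or.inl hw) hc
    rwa [hw, mul_one]
  · refine mul_mem (ONE.mem_of_cen h hU hu (Or.inr ⟨_, e, ne, hw⟩) hc)
      (ONE.mem_of_cen h e hw (Or.inr ⟨_, hU, ne.symm, hu⟩) ?_)
    rwa [← h.fr.comm U hU _ e hw u hu]

theorem inf_core : pCoreOf 2 P ⊓ pCoreOf 2 R =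
    (sSup 𝒱 ⊓ sSup 𝒰) ⊔ (pCoreOf 2 P ⊓ centralizer (pResOf 2 P : Set G)) := by
  refine le_antisymm (fun d hd => ?_) (sup_le (inf_le_inf h.fp.S_le_core h.fr.S_le_core)
    (le_inf inf_le_left h.cen_le))
  obtain ⟨p, hp, a, ha, e⟩ := ONE.inf_dec h hd
  have h1 := mul_mem (mem_inf.1 hd).2 (inv_mem (h.cen_le ha))
  rw [e, mul_inv_cancel_right] at h1
  rw [e]
  exact mul_mem (mem_sup_left ⟨hp, ONE.S_inf h.symm ⟨hp, h1⟩⟩) (mem_sup_right ha)

theorem S_inf_core : sSup 𝒰 ⊓ pCoreOf 2 P = sSup 𝒱 ⊓ sSup 𝒰 := by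
  exact le_antisymm (le_inf (ONE.S_inf h) inf_le_left)
    (le_inf inf_le_right (inf_le_left.trans h.fp.S_le_core))

theorem cen_inf : (pCoreOf 2 P ⊓ centralizer (pResOf 2 P : Set G)) ⊓
    (pCoreOf 2 R ⊓ centralizer (pResOf 2 R : Set G)) = ⊥ := by
  have hT := le_normalizer_inf (h.fp.syl.le.trans (le_normalizer_inf (le_normalizer_pCoreOf (p := 2) P)
    (le_normalizer_centralizer (le_normalizer_pResOf (p := 2) P))))
    (h.fr.syl.le.trans (le_normalizer_inf (le_normalizer_pCoreOf (p := 2) R)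
    (le_normalizer_centralizer (le_normalizer_pResOf (p := 2) R))))
  exact h.noN _ ((inf_le_left.trans inf_le_left).trans h.fp.syl.pCoreOf_le)
    (h.fp.syl.le_of_pResOf_le (le_normalizer_of_le_centralizer
      (le_centralizer_iff.1 (inf_le_left.trans inf_le_right))) hT)
    (h.fr.syl.le_of_pResOf_le (le_normalizer_of_le_centralizer
      (le_centralizer_iff.1 (inf_le_right.trans inf_le_right))) hT)

theorem single (e : 𝒱 = {V}) : ∃ U, 𝒰 = {U} := by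
  obtain ⟨U, z, hp⟩ := h.partner (V := V) (e ▸ rfl)
  refine ⟨U, Set.eq_singleton_iff_unique_mem.2 ⟨hp.mem', fun W hW => ?_⟩⟩
  by_contra ne
  obtain ⟨V', z', hp'⟩ := h.symm.partner hW
  have : V' = V := by have := hp'.mem'; rwa [e] at this
  exact hp'.nc (this ▸ hp.oth' W hW ne)

end B1

end CfsgLib.QT5
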