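import Mathlib
import Cfsg.Agent.Lib.QT5.ONE
import Cfsg.Agent.S3035
import Cfsg.Agent.Lib.TwoGrp.Pres
import Cfsg.Agent.Lib.Core.Cores

/-!
DIH: the dihedral case.
-/

set_option autoImplicit false

namespace CfsgLib.QT5

open Subgroup Cfsg CfsgLib.LAE CfsgLib.PLocal CfsgLib.ZN
open scoped commutatorElement

variable {G : Type*} [Group G] [Finite G] {T T' P P' R H M V V' W U : Subgroup G}
  {𝒱 𝒱' 𝒰 𝒲 : Set (Subgroup G)}

theorem dih_iso {x y a : G} (xx : x * x = 1) (yy : y * y = 1) (e : x * y * (x * y) = a) (aa : a * a = 1)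
    (a1 : a ≠ 1) : Nonempty (↥(zpowers (x * y) ⊔ zpowers x) ≃* DihedralGroup 4) ∧
      ∀ w ∈ zpowers (x * y) ⊔ zpowers x, Commute x w → Commute y w → w = 1 ∨ w = a := by
  have := Fact.mk Nat.prime_two
  have o : orderOf (x * y) = 2 ^ (1 + 1) := orderOf_eq_prime_pow (by rwa [pow_one, sq, e])
    (by rw [pow_succ, pow_mul, pow_one, sq, sq, e, aa])
  have i : x * (x * y) * x⁻¹ = (x * y)⁻¹ := by
    rw [← mul_assoc, xx, one_mul, mul_inv_rev, inv_eq_of_mul_eq_one_right yy]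
  have n : ¬ Commute x (x * y) := fun c => a1 (by rw [← e, ← mul_inv_cancel (x * y), ← i, c.mul_inv_cancel])
  refine ⟨TwoGrp.nonempty_sup_mulEquiv_dihedral o xx i fun ⟨k, h⟩ => n (by
    simpa only [h] using Commute.zpow_self (x * y) k), fun w hw c c' => ?_⟩
  obtain ⟨k, rfl | rfl⟩ := (TwoGrp.mem_zpowers_sup_zpowers_iff (TwoGrp.mem_normalizer_zpowers_of_inv i)
    (xx ▸ one_mem _)).1 hw
  · have h1 := c.mul_inv_cancel
    rw [← conj_zpow, i, inv_zpow, inv_eq_iff_mul_eq_one, ← zpow_add, ← orderOf_dvd_iff_zpow_eq_one, o] at h1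
    obtain ⟨l, rfl⟩ : ∃ l, k = 2 * l := ⟨k / 2, by push_cast at h1; omega⟩
    rw [zpow_mul, zpow_two, e]
    rcases Int.even_or_odd' l with ⟨m, rfl | rfl⟩ <;> simp [zpow_add, zpow_mul, sq, aa]
  · exact (n (by simpa using ((Commute.self_zpow _ k).inv_right.mul_right (c.mul_left c')).symm)).elim

theorem dih_four (hV : IsFour V) {a b : G} (ha : a ∈ V) (hb : b ∈ V) (a1 : a ≠ 1) (b1 : b ≠ 1) (ab : a ≠ b)
    (h1 : a ∈ H) (h2 : b ∈ H) : V ≤ H := by
  rcases hV.cases_le (U := V ⊓ H) inf_le_left with e | e | e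
  · exact absurd (mem_bot.1 (e.le ⟨ha, h1⟩)) a1
  · obtain ⟨y, -, hy⟩ := (Nat.card_eq_two_iff' (1 : ↥(V ⊓ H))).1 e
    exact absurd (congrArg Subtype.val ((hy ⟨a, ha, h1⟩ fun k => a1 (congrArg Subtype.val k)).trans
      (hy ⟨b, hb, h2⟩ fun k => b1 (congrArg Subtype.val k)).symm)) ab
  · exact e ▸ inf_le_right

omit [Finite G] in
theorem dih_perm [IsSimpleGroup G] {n : ℕ} (hn : 3 ≤ n) (e : G ≃* Equiv.Perm (Fin n)) : False := by
  have := e.symm.isSimpleGroup
  have : Nontrivial (Fin n) := Fin.nontrivial_iff_two_le.2 (by omega)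
  rcases (alternatingGroup.normal (α := Fin n)).eq_bot_or_eq_top with k | k
  · have := alternatingGroup.nontrivial_of_three_le_card (α := Fin n) (by simpa using hn)
    exact (nontrivial_iff_ne_bot _).1 this k
  · have := alternatingGroup.index_eq_two (α := Fin n)
    rw [k, index_top] at this
    omega

theorem B1.dih [IsSimpleGroup G] (hG : ¬ IsMulCommutative G) (h : B1 T P R 𝒱 𝒰) (e : 𝒱 = {V})
    (q1 : pCoreOf 2 P = sSup 𝒱) (hC : centralizer (omegaZ 2 T : Set G) = T) :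
    (∃ (F : Type) (_ : Field F) (_ : Fintype F), Fintype.card F = 2 ∧
        Nonempty (G ≃* Matrix.ProjectiveSpecialLinearGroup (Fin 3) F)) ∨
      Nonempty (G ≃* ↥(alternatingGroup (Fin 6))) := by
  have hV : V ∈ 𝒱 := e ▸ Set.mem_singleton V
  have sV : sSup 𝒱 = V := by rw [e, sSup_singleton]
  obtain ⟨U, eU⟩ := h.single e
  have sU : sSup 𝒰 = U := by rw [eU, sSup_singleton]
  obtain ⟨U', z, pr⟩ := h.partner hV
  obtain rfl : U' = U := by simpa [eU] using pr.mem'
  have nV : T ≤ normalizer (V : Set G) := sV ▸ h.fp.syl.le.trans h.fp.norm_S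
  have eT : T = V ⊔ U' := by
    rw [← inf_eq_left.2 nV, ← h.J_eq_norm hV, h.J_eq_sup, q1, sV, sU]
  have fV := h.fp.four V hV
  have fU := h.fr.four U' pr.mem'
  have cz : T ≤ centralizer ({z} : Set G) := (le_inf le_rfl nV).trans (h.fp.pt_cen hV pr.zV pr.pt)
  have z1 : z ≠ 1 := pr.pt.1
  obtain ⟨u, hu, nu⟩ := SetLike.not_le_iff_exists.1 pr.nc
  have uT : u ∈ T := h.fr.le _ pr.mem' hu
  obtain ⟨v, hv, ne⟩ : ∃ v ∈ V, v * u ≠ u * v := by
    by_contra k
    push Not at k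
    exact nu k
  have e1 : u * v * u⁻¹ = v * z := (four_commutator fV pr.zV z1 (nV uT) (cz uT) hv).resolve_left
    fun k => ne (mul_inv_eq_iff_eq_mul.1 k).symm
  have uu := fU.mul_self hu
  have vv := fV.mul_self hv
  obtain ⟨i, k⟩ := dih_iso (a := z) vv uu (by
    rw [inv_eq_of_mul_eq_one_right uu] at e1
    calc v * u * (v * u) = v * (u * v * u) := by simp only [mul_assoc]
      _ = _ := by rw [e1, ← mul_assoc, vv, one_mul]) (fV.mul_self pr.zV) z1
  have vT : v ∈ T := h.fp.le _ hV hv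
  have m1 : v ∈ zpowers (v * u) ⊔ zpowers v := mem_sup_right (mem_zpowers v)
  have m2 : u ∈ zpowers (v * u) ⊔ zpowers v := by
    simpa using mul_mem (inv_mem m1) (mem_sup_left (T := zpowers v) (mem_zpowers (v * u)))
  have m3 : z ∈ zpowers (v * u) ⊔ zpowers v := by
    have := mul_mem (inv_mem m1) (mul_mem (mul_mem m2 m1) (inv_mem m2))
    rwa [e1, inv_mul_cancel_left] at this
  have eD : zpowers (v * u) ⊔ zpowers v = T := le_antisymm
    (sup_le (zpowers_le.2 (mul_mem vT uT)) (zpowers_le.2 vT)) (eT.le.trans (sup_le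
      (dih_four fV hv pr.zV (fun k => ne (by simp [k])) z1
        (fun k => ne (k ▸ (mem_centralizer_singleton_iff.1 (cz uT)).symm)) m1 m3)
      (dih_four fU hu pr.zV' (fun k => ne (by simp [k])) z1
        (fun k => ne (k ▸ mem_centralizer_singleton_iff.1 (cz vT))) m2 m3)))
  rw [eD] at i k
  have eC : centralizer ({z} : Set G) = T := le_antisymm (fun g hg => hC.le fun w hw => by
    obtain ⟨w1, w2, -⟩ := mem_omegaZ.1 hw
    rcases k w w1 (w2 v vT) (w2 u uT) with rfl | rfl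
    · simp
    · exact (mem_centralizer_singleton_iff.1 hg).symm) cz
  have o : orderOf z = 2 := orderOf_eq_prime (by rw [sq, fV.mul_self pr.zV]) z1
  rcases Cfsg.Agent.S3035.result z o (eC ▸ i) with r | ⟨⟨r⟩⟩ | ⟨⟨r⟩⟩ | ⟨⟨r⟩⟩ | r
  · exfalso
    rcases (inferInstance : (oddCore G).Normal).eq_bot_or_eq_top with b | b
    · rw [b, sup_bot_eq] at r
      rcases (inferInstance : (center G).Normal).eq_bot_or_eq_top with c | c
      · exact z1 (mem_bot.1 (c.le (mem_center_iff.2 fun g => mem_centralizer_singleton_iff.1 (r.ge (mem_top g)))))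
      · exact hG ⟨⟨fun a b => mem_center_iff.1 (c.ge (mem_top b)) a⟩⟩
    · have := Core.odd_card_oddCore G
      rw [show pPrimeCore 2 G = ⊤ from b, card_top] at this
      exact Nat.not_even_iff_odd.2 this (even_iff_two_dvd.2 (o ▸ orderOf_dvd_natCard z))
  · exact (dih_perm (by norm_num) r).elim
  · exact (dih_perm (by norm_num) r).elim
  · obtain ⟨r'⟩ := D8Cent.nonempty_psl_three_two_equiv
    exact .inl ⟨ZMod 2, inferInstance, inferInstance, ZMod.card 2, ⟨r.trans r'.symm⟩⟩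
  · exact .inr r


end CfsgLib.QT5
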