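import Mathlib
import Cfsg.Agent.Lib.QT5.BB
import Cfsg.Agent.Lib.QT5.Ax

/-!
TWO: critical distance two is impossible.
-/

set_option autoImplicit false

namespace CfsgLib.QT5

open Subgroup Cfsg CfsgLib.LAE CfsgLib.PLocal CfsgLib.ZN
open scoped commutatorElement

variable {G : Type*} [Group G] [Finite G] {T T' P P' R H M V V' W U : Subgroup G}
  {𝒱 𝒱' 𝒰 𝒲 : Set (Subgroup G)}

/-- one half of the hypotheses -/
structure Hf (T P R : Subgroup G) (𝒱 𝒰 : Set (Subgroup G)) : Prop extends Am T P R 𝒱 𝒰 where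
  c : sSup 𝒰 ≤ pCoreOf 2 P
  g : Gd T P 𝒰
  n : ∃ g ∈ P, ¬ sSup 𝒰 ≤ centralizer ((conjS g (sSup 𝒰) : Subgroup G) : Set G)

namespace Hf

variable (h : Hf T P R 𝒱 𝒰) {u : G}
include h

omit [Finite G] in
theorem QT : pCoreOf 2 P ≤ T := h.fp.syl.pCoreOf_le

omit [Finite G] in
theorem nD (hp : u ∈ Pt T 𝒰) :
    pResOf 2 P ≤ normalizer ((pCoreOf 2 P ⊓ centralizer ({u} : Set G) : Subgroup G) : Set G) :=
  le_normalizer_inf ((pResOf_le P).trans (le_normalizer_pCoreOf P)) ((h.g u hp).trans le_normalizer)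

omit [Finite G] in
theorem w_le (hU : U ∈ 𝒰) (hp : u ∈ Pt T 𝒰) :
    nclIn U (pResOf 2 P) ≤ pCoreOf 2 P ⊓ centralizer ({u} : Set G) := by
  refine nclIn_le (le_inf ((le_sSup hU).trans h.c) fun x hx => ?_) (h.nD hp)
  obtain ⟨-, U', hU', hu, -⟩ := hp
  exact mem_centralizer_singleton_iff.2 (h.fr.comm U' hU' U hU hx u hu).symm

theorem d_norm (hU : U ∈ 𝒰) (hu : u ∈ U) (hp : u ∈ Pt T 𝒰) :
    pCoreOf 2 P ⊓ centralizer ({u} : Set G) ≤ normalizer (U : Set G) := fun _ hy =>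
  h.fr.toFP0.norm_of_fix hU (h.fr.syl.le (h.QT hy.1)) hu hp.1 (by rw [ba_cen.1 hy.2]; exact hu)

theorem w_comm (hU : U ∈ 𝒰) (hu : u ∈ U) (hp : u ∈ Pt T 𝒰) :
    ⁅nclIn U (pResOf 2 P), pCoreOf 2 P ⊓ centralizer ({u} : Set G)⁆ ≤ zpowers u := by
  have h4 := h.fr.four U hU
  refine commutator_nclIn_le (le_normalizer_of_le_centralizer fun x hx => mem_centralizer_zpowers.2 (h4.comm hx hu))
    (h.nD hp) (le_normalizer_of_le_centralizer fun x hx => mem_centralizer_zpowers.2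
      (mem_centralizer_singleton_iff.1 (h.g u hp hx))) (commutator_le.2 fun v hv y hy => ?_)
  rw [commutatorElement_def, mul_assoc, mul_assoc, ← mul_assoc y]
  rcases four_commutator h4 hu hp.1 (h.d_norm hU hu hp hy) hy.2 (inv_mem hv) with e | e <;> rw [e]
  · rw [mul_inv_cancel]; exact one_mem _
  · rw [mul_inv_cancel_left]; exact mem_zpowers u

theorem w_sq (hU : U ∈ 𝒰) (hu : u ∈ U) (hp : u ∈ Pt T 𝒰) {a : G} (ha : a ∈ nclIn U (pResOf 2 P)) :
    a * a ∈ zpowers u := by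
  refine (iSup_induction (C := fun a => a ∈ nclIn U (pResOf 2 P) ∧ a * a ∈ zpowers u) _ ha
    (fun g x hx => ⟨conjS_le_nclIn g.2 hx, ?_⟩) ⟨one_mem _, by simp⟩ fun x y hx hy => ⟨mul_mem hx.1 hy.1, ?_⟩).2
  · rw [((h.fr.four U hU).conj g).mul_self hx]; exact one_mem _
  · convert mul_mem (mul_mem hx.2 (h.w_comm hU hu hp
      (commutator_mem_commutator (inv_mem hx.1) (h.w_le hU hp hy.1)))) hy.2 using 1
    rw [commutatorElement_def]; group

theorem w_cen {U' : Subgroup G} (hU : U ∈ 𝒰) (hU' : U' ∈ 𝒰) (e : U ≠ U') :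
    nclIn U (pResOf 2 P) ≤ centralizer (nclIn U' (pResOf 2 P) : Set G) := by
  obtain ⟨u, hu, hp⟩ := h.fr.toFP0.exists_pt hU
  obtain ⟨u', hu', hp'⟩ := h.fr.toFP0.exists_pt hU'
  rw [← commutator_eq_bot_iff_le_centralizer, eq_bot_iff, ← h.fr.disj U hU U' hU' e]
  refine le_inf ((commutator_mono le_rfl (h.w_le hU' hp)).trans ((h.w_comm hU hu hp).trans (zpowers_le.2 hu))) ?_
  rw [commutator_comm]
  exact (commutator_mono le_rfl (h.w_le hU hp')).trans ((h.w_comm hU' hu' hp').trans (zpowers_le.2 hu'))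

theorem w_nab (hU : U ∈ 𝒰) : ¬ nclIn U (pResOf 2 P) ≤ centralizer (nclIn U (pResOf 2 P) : Set G) := fun c => by
  have k : ∀ A ∈ 𝒰, ∀ B ∈ 𝒰, nclIn A (pResOf 2 P) ≤ centralizer (nclIn B (pResOf 2 P) : Set G) := fun A hA B hB => by
    by_cases e : A = B
    · obtain ⟨t, ht, rfl⟩ := h.fr.trans U hU A hA
      have := conjS_mono (g := t) c
      rw [← e]
      rwa [conjS_centralizer, conjS_nclIn,
        mem_normalizer_iff_conjS.1 (le_normalizer_pResOf P (h.fp.syl.le ht))] at this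
    · exact h.w_cen hA hB e
  obtain ⟨g, hg, hn⟩ := h.n
  obtain ⟨x, hx, t, ht, rfl⟩ := h.fp.toFP0.mul hg
  rw [conjS_mul, mem_normalizer_iff_conjS.1 (h.fr.toFP0.norm_S (h.fr.syl.le ht))] at hn
  exact hn (sSup_le fun A hA => le_centralizer_iff.1 (conjS_le_iff.2 (sSup_le fun B hB => conjS_le_iff.1
    ((conjS_le_nclIn hx).trans ((k B hB A hA).trans (centralizer_anti (le_nclIn _ _)))))))

theorem w_nc (hU : U ∈ 𝒰) : ¬ nclIn U (pResOf 2 P) ≤ centralizer (U : Set G) := fun e =>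
  h.w_nab hU (le_centralizer_nclIn e (le_normalizer_nclIn _ _))

theorem w_inf (hU : U ∈ 𝒰) : nclIn U (pResOf 2 P) ⊓ centralizer (U : Set G) ≤ pCoreOf 2 R := by
  obtain ⟨u, hu, hp⟩ := h.fr.toFP0.exists_pt hU
  rw [h.fr.core]
  refine le_inf (inf_le_left.trans ((h.w_le hU hp).trans (inf_le_left.trans h.QT)))
    (le_centralizer_iff.1 (sSup_le fun A hA => le_centralizer_iff.1 ?_))
  by_cases e : U = A
  · exact e ▸ inf_le_right
  · exact inf_le_left.trans ((h.w_cen hU hA e).trans (centralizer_anti (le_nclIn _ _)))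

theorem w_idx (hU : U ∈ 𝒰) {a b : G} (ha : a ∈ nclIn U (pResOf 2 P)) (hb : b ∈ nclIn U (pResOf 2 P))
    (h1 : a ∉ centralizer (U : Set G)) (h2 : b ∉ centralizer (U : Set G)) : a * b ∈ centralizer (U : Set G) := by
  obtain ⟨u, hu, hp⟩ := h.fr.toFP0.exists_pt hU
  exact (mul_mem_iff_of_index_two ((h.fr.four U hU).relIndex_eq_two
    ((isPGroup_pCoreOf P).to_le ((h.w_le hU hp).trans inf_le_left)) ((h.w_le hU hp).trans (h.d_norm hU hu hp))
    (h.w_nc hU)) (a := ⟨a, ha⟩) (b := ⟨b, hb⟩)).2 (iff_of_false h1 h2)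

theorem pick (hU : U ∈ 𝒰) (hu : u ∈ U) (hp : u ∈ Pt T 𝒰) {a : G}
    (ha : a ∈ pCoreOf 2 P ⊓ centralizer ({u} : Set G))
    (hc : a ∈ centralizer ((nclIn U (pResOf 2 P) ⊓ centralizer (U : Set G) : Subgroup G) : Set G)) :
    ∃ v ∈ U, a * v ∈ centralizer (nclIn U (pResOf 2 P) : Set G) := by
  have h4 := h.fr.four U hU
  obtain ⟨w, hw, hw'⟩ := SetLike.not_le_iff_exists.1 (h.w_nc hU)
  suffices ∃ v ∈ U, Commute w (a * v) by
    obtain ⟨v, hv, e⟩ := this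
    have k : ∀ y ∈ nclIn U (pResOf 2 P), y ∈ centralizer (U : Set G) → Commute y (a * v) := fun y h1 h2 =>
      Commute.mul_right (hc y ⟨h1, h2⟩) (h2 v hv).symm
    refine ⟨v, hv, fun y hy => ?_⟩
    by_cases f : y ∈ centralizer (U : Set G)
    · exact k y hy f
    · simpa using ((k _ (mul_mem hy hw) (h.w_idx hU hy hw f hw')).mul_left e.inv_left).eq
  rcases ax_zp (h4.mul_self hu) (h.w_comm hU hu hp (commutator_mem_commutator hw ha)) with e | e
  · exact ⟨1, one_mem _, by rw [mul_one]; exact commutatorElement_eq_one_iff_commute.1 e⟩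
  obtain ⟨v, hv, e2⟩ : ∃ v ∈ U, w * v * w⁻¹ ≠ v := by
    by_contra! c
    exact hw' (ba_cen'.2 c)
  have e3 := (four_commutator h4 hu hp.1 (h.d_norm hU hu hp (h.w_le hU hp hw)) (h.w_le hU hp hw).2 hv).resolve_left e2
  refine ⟨v, hv, mul_inv_eq_iff_eq_mul.1 ?_⟩
  calc _ = ⁅w, a⁆ * a * (w * v * w⁻¹) := by rw [commutatorElement_def]; group
    _ = a * (u * u) * v := by
      rw [e, e3, h4.comm hv hu, ← mem_centralizer_singleton_iff.1 ha.2]; group
    _ = _ := by rw [h4.mul_self hu, mul_one]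

end Hf

theorem Hf.sq (h : Hf T P R 𝒱 𝒰) (k : Hf T R P 𝒰 𝒱) (hU : U ∈ 𝒰) {a : G}
    (ha : a ∈ nclIn U (pResOf 2 P) ⊓ centralizer (U : Set G)) : a * a = 1 := by
  have := Fact.mk Nat.prime_two
  obtain ⟨u, hu, hp⟩ := h.fr.toFP0.exists_pt hU
  have uS := le_sSup hU hu
  have aP := (h.w_le hU hp ha.1).1
  have aR := h.w_inf hU ha
  have cu : pCoreOf 2 R ≤ centralizer ({u} : Set G) := fun x hx =>
    mem_centralizer_singleton_iff.2 ((h.fr.toFP0.core_le hx).2 u uS).symm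
  have key : ∀ V ∈ 𝒱, ∃ v ∈ V, a * v ∈ centralizer (nclIn V (pResOf 2 R) : Set G) := fun V hV => by
    obtain ⟨z, hz, hq⟩ := h.fp.toFP0.exists_pt hV
    have az : a ∈ pCoreOf 2 R ⊓ centralizer ({z} : Set G) :=
      ⟨aR, mem_centralizer_singleton_iff.2 ((h.fp.toFP0.core_le aP).2 z (le_sSup hV hz)).symm⟩
    refine k.pick hV hz hq az fun b hb => commutatorElement_eq_one_iff_commute.1 ?_
    have m1 := k.w_comm hV hz hq (commutator_mem_commutator hb.1 az)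
    have m2 := h.w_comm hU hu hp (commutator_mem_commutator ha.1
      (show b ∈ _ from mem_inf.2 ⟨k.w_inf hV hb, cu (k.w_le hV hq hb.1).1⟩))
    rw [← commutatorElement_inv, inv_mem_iff] at m2
    refine (ax_zp ((h.fp.four V hV).mul_self hz) m1).resolve_right fun e1 => ?_
    rcases ax_zp ((h.fr.four U hU).mul_self hu) m2 with e2 | e2
    · exact hq.1 (e1.symm.trans e2)
    obtain ⟨x, hx, ho, fx, -⟩ := h.fp.toFP0.exists_odd hV
    have := h.g u hp (mem_pResOf hx (Nat.coprime_two_right.2 ho))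
    rw [← e2, e1] at this
    exact hq.1 (fx.le (show z ∈ V ⊓ centralizer {x} from
      ⟨hz, mem_centralizer_singleton_iff.2 (mem_centralizer_singleton_iff.1 this).symm⟩))
  obtain ⟨s, hs, hd⟩ : ∃ s ∈ sSup 𝒱, ∀ V ∈ 𝒱, a * s ∈ centralizer (nclIn V (pResOf 2 R) : Set G) := by
    obtain ⟨V, hV⟩ := h.fp.ne
    obtain ⟨v, hv, e⟩ := key V hV
    rcases h.fp.two.oth_cases hV with ⟨f, -⟩ | ⟨f1, f2, f3⟩
    · exact ⟨v, le_sSup hV hv, fun A hA => by rw [f] at hA; exact hA ▸ e⟩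
    obtain ⟨v', hv', e'⟩ := key _ f1
    refine ⟨v * v', mul_mem (le_sSup hV hv) (le_sSup f1 hv'), fun A hA => ?_⟩
    rw [f3] at hA
    rcases hA with rfl | rfl
    · rw [← mul_assoc]
      exact mul_mem e (k.w_cen f1 hV f2 (le_nclIn _ _ hv'))
    · rw [h.fp.comm V hV _ f1 hv' v hv, ← mul_assoc]
      exact mul_mem e' (k.w_cen hV f1 f2.symm (le_nclIn _ _ hv))
  set D := pCoreOf 2 R ⊓ centralizer (nclIn (sSup 𝒱) (pResOf 2 R) : Set G) with hD
  have nD : R ≤ normalizer (D : Set G) := le_normalizer_inf (le_normalizer_pCoreOf R) (le_normalizer_centralizer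
    (h.fr.syl.le_of_pResOf_le (le_normalizer_nclIn _ _) (le_normalizer_nclIn_of_le
      (h.fp.syl.le.trans h.fp.toFP0.norm_S) (h.fr.syl.le.trans (le_normalizer_pResOf R)))))
  have dD : a * s ∈ D := mem_inf.2 ⟨mul_mem aR (k.c hs), zpowers_le.1 (le_centralizer_iff.1 (nclIn_le_iff.2
    fun g hg => conjS_le_iff.2 (sSup_le fun V hV => conjS_le_iff.1 ((conjS_le_nclIn hg).trans
      (le_centralizer_iff.1 (zpowers_le.2 (hd V hV)))))))⟩
  have lD : D ≤ pCoreOf 2 P ⊓ centralizer ({u} : Set G) := le_inf (by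
    rw [h.fp.core]
    exact inf_le_inf k.QT (centralizer_anti (le_nclIn _ _))) (inf_le_left.trans cu)
  have wR : nclIn U (pResOf 2 P) ≤ R := (h.w_le hU hp).trans (inf_le_left.trans (h.QT.trans h.fr.syl.le))
  have hK : pResOf 2 R ≤ R ⊓ BHS.kl D (sSup 𝒰) := h.fr.res_le inf_le_left
    (le_normalizer_inf le_normalizer (BHS.le_normalizer_kl nD h.fr.toFP0.norm_S)) fun c => h.w_nc hU
      ((le_inf wR ((BHS.le_kl_iff (wR.trans nD)).2 (by
        rw [commutator_comm]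
        exact (commutator_mono le_rfl lD).trans ((h.w_comm hU hu hp).trans (zpowers_le.2 uS))))).trans
        (c.trans (centralizer_anti (le_sSup hU))))
  have e1 : a * s * (a * s) = a * a := by
    calc _ = a * (s * a) * s := by group
      _ = a * a * (s * s) := by rw [(h.fp.toFP0.core_le aP).2 s hs]; group
      _ = _ := by rw [← pow_two s, h.fp.toFP0.elemAb.2 s hs, mul_one]
  refine h.fr.toFP0.S_inf_cen.le (show a * a ∈ _ from mem_inf.2
    ⟨zpowers_le.2 uS (h.w_sq hU hu hp ha.1), fun x hx => ?_⟩)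
  have m := (hK hx).2.2 _ dD
  have c1 := (h.fr.toFP0.core_le dD.1).2 _ m
  have c2 := h.fr.toFP0.elemAb.2 _ m
  rw [← e1]
  generalize a * s = d at *
  calc x * (d * d) = ⁅x, d⁆ * (d * ⁅x, d⁆) * d * x := by rw [commutatorElement_def]; group
    _ = ⁅x, d⁆ ^ 2 * (d * d * x) := by rw [← c1, pow_two]; group
    _ = _ := by rw [c2, one_mul]

theorem Am.btwo (h : Am T P R 𝒱 𝒰) (c1 : sSup 𝒱 ≤ pCoreOf 2 R) (c2 : sSup 𝒰 ≤ pCoreOf 2 P)
    (g1 : Gd T P 𝒰) (g2 : Gd T R 𝒱)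
    (n1 : ∃ g ∈ R, ¬ sSup 𝒱 ≤ centralizer ((conjS g (sSup 𝒱) : Subgroup G) : Set G))
    (n2 : ∃ g ∈ P, ¬ sSup 𝒰 ≤ centralizer ((conjS g (sSup 𝒰) : Subgroup G) : Set G)) : False := by
  have k : Hf T P R 𝒱 𝒰 := ⟨h, c2, g1, n2⟩
  obtain ⟨U, hU⟩ := h.fr.ne
  have hA : Hp (nclIn U (pResOf 2 P)) (nclIn U (pResOf 2 P) ⊓ centralizer (U : Set G)) :=
    ⟨inf_le_left, fun e => k.w_nc hU (e.trans inf_le_right), fun a ha b hb h1 h2 =>
      ⟨mul_mem ha hb, k.w_idx hU ha hb (fun e => h1 ⟨ha, e⟩) fun e => h2 ⟨hb, e⟩⟩,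
      fun a ha => k.sq ⟨h.symm, c1, g2, n1⟩ hU ha⟩
  have := (two_hp (k.w_nab hU)).res_le_norm (H := pResOf 2 P) (fun g hg A hA => by
    have := Hp.conj hA g
    rwa [mem_normalizer_iff_conjS.1 (le_normalizer_nclIn _ _ hg)] at this) hA
  rw [pResOf_pResOf] at this
  exact hA.ne (nclIn_le (le_inf (le_nclIn _ _) (h.fr.four U hU).le_centralizer) this)

end CfsgLib.QT5
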