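import Mathlib
import Cfsg.Agent.Lib.QT5.LOC
import Cfsg.Agent.Lib.QT5.TWO

/-!
PATH: the critical distance is one.
-/

set_option autoImplicit false

namespace CfsgLib.QT5

open Subgroup Cfsg CfsgLib.LAE CfsgLib.PLocal CfsgLib.ZN
open scoped commutatorElement

variable {G : Type*} [Group G]

/-- paths in the coset graph -/
structure Path (P : Bool → Subgroup G) where
  t : ℕ → Bool
  e : ℕ → G
  ht : ∀ m, t (m + 1) = !t m
  he : ∀ m, (e m)⁻¹ * e (m + 1) ∈ P (t m)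

theorem image_mul (g h : G) (𝒱 : Set (Subgroup G)) : conjS (g * h) '' 𝒱 = conjS g '' (conjS h '' 𝒱) := by
  rw [Set.image_image]; exact Set.image_congr fun V _ => conjS_mul g h V

theorem conjS_sSup' (g : G) (𝒱 : Set (Subgroup G)) : sSup (conjS g '' 𝒱) = conjS g (sSup 𝒱) := by
  rw [sSup_image, sSup_eq_iSup, conjS_iSup]
  exact iSup_congr fun V => (conjS_iSup g fun _ : V ∈ 𝒱 => V).symm

namespace Path

variable {P : Bool → Subgroup G} (π : Path P) (T : Subgroup G) (𝒱 : Bool → Set (Subgroup G))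

def drop (k : ℕ) : Path P := ⟨fun m => π.t (k + m), fun m => π.e (k + m), fun m => π.ht (k + m),
  fun m => π.he (k + m)⟩

def sh : Path P := ⟨fun m => π.t (m + 1), fun m => π.e (m + 1), fun m => π.ht (m + 1),
  fun m => π.he (m + 1)⟩

def ext (n : ℕ) (k : G) (hk : (π.e n)⁻¹ * k ∈ P (π.t n)) : Path P :=
  ⟨π.t, fun m => if m ≤ n then π.e m else k, π.ht, fun m => by
    rcases lt_trichotomy m n with h | rfl | h
    · rw [if_pos h.le, if_pos (Nat.succ_le_of_lt h)]; exact π.he m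
    · rw [if_pos le_rfl, if_neg (Nat.not_succ_le_self m)]; exact hk
    · rw [if_neg (not_le.mpr h), if_neg (by omega), inv_mul_cancel]; exact one_mem _⟩

def base (P : Bool → Subgroup G) (i : Bool) : Path P :=
  ⟨fun m => Nat.rec i (fun _ b => !b) m, fun _ => 1, fun _ => rfl, fun _ => by simp⟩

def H (m : ℕ) : Subgroup G := conjS (π.e m) (P (π.t m))
def E (m : ℕ) : Subgroup G := conjS (π.e m) T
def V (m : ℕ) : Set (Subgroup G) := conjS (π.e m) '' 𝒱 (π.t m)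

def Good (P : Bool → Subgroup G) (𝒱 : Bool → Set (Subgroup G)) (n : ℕ) : Prop :=
  ∀ π : Path P, sSup (π.V 𝒱 n) ≤ pCoreOf 2 (π.H 0) ∧ sSup (π.V 𝒱 0) ≤ pCoreOf 2 (π.H n)

def Crit (b : ℕ) : Prop := ¬ sSup (π.V 𝒱 b) ≤ centralizer ((sSup (π.V 𝒱 0) : Subgroup G) : Set G)

variable [Finite G] {π T 𝒱} (a : ∀ i, Am T (P i) (P !i) (𝒱 i) (𝒱 !i))

omit [Finite G] in
theorem H_eq (m : ℕ) : π.H m = conjS (π.e (m + 1)) (P (π.t m)) := by
  rw [H, ← mul_inv_cancel_left (π.e m) (π.e (m + 1)), conjS_mul, conjS_eq_of_mem (π.he m)]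

omit [Finite G] in
theorem exists_ext (n : ℕ) {g : G} (hg : g ∈ π.H n) : ∃ ρ : Path P, ρ.t = π.t ∧
    (∀ m ≤ n, ρ.e m = π.e m) ∧ ρ.e (n + 1) = g * π.e n :=
  ⟨π.ext n (g * π.e n) (by rw [← mul_assoc]; exact mem_conjS.mp hg), rfl, fun _ h => if_pos h,
    if_neg (Nat.not_succ_le_self n)⟩

include a

theorem V_eq (m : ℕ) : π.V 𝒱 m = conjS (π.e (m + 1)) '' 𝒱 (π.t m) := by
  rw [V, ← mul_inv_cancel_left (π.e m) (π.e (m + 1)), image_mul, (a _).fp.image_conj (π.he m)]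

theorem am (m : ℕ) : Am (π.E T (m + 1)) (π.H m) (π.H (m + 1)) (π.V 𝒱 m) (π.V 𝒱 (m + 1)) := by
  have := (a (π.t m)).conjugate (π.e (m + 1))
  rwa [← H_eq, ← V_eq a, ← π.ht] at this

theorem fp (m : ℕ) : FP (π.E T m) (π.H m) (π.V 𝒱 m) := (a (π.t m)).fp.conjugate (π.e m)

omit a in
theorem gd (m : ℕ) : Gd (π.E T (m + 1)) (π.H m) (π.V 𝒱 (m + 1)) ↔ Gd T (P (π.t m)) (𝒱 !π.t m) := by
  rw [H_eq, ← π.ht]; exact gd_conj _

theorem gd' (m : ℕ) : Gd (π.E T (m + 1)) (π.H (m + 1)) (π.V 𝒱 m) ↔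
    Gd T (P (π.t (m + 1))) (𝒱 !π.t (m + 1)) := by
  rw [V_eq a, π.ht, Bool.not_not, ← π.ht]; exact gd_conj _

theorem exists_bad : ∃ n, ¬ Good P 𝒱 n := by
  by_contra! hg
  have reach : ∀ g ∈ closure ((P true : Set G) ∪ P false), ∀ i, ∃ (ρ : Path P) (n : ℕ),
      ρ.t 0 = true ∧ ρ.e 0 = 1 ∧ ρ.e n = g ∧ ρ.t n = i := by
    have step : ∀ g : G, (∀ i, ∃ (ρ : Path P) (n : ℕ), ρ.t 0 = true ∧ ρ.e 0 = 1 ∧ ρ.e n = g ∧ ρ.t n = i) →
        ∀ j, ∀ p ∈ P j, ∀ i, ∃ (ρ : Path P) (n : ℕ),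
          ρ.t 0 = true ∧ ρ.e 0 = 1 ∧ ρ.e n = g * p ∧ ρ.t n = i := by
      intro g h j p hp i
      obtain ⟨ρ, n, h1, h2, rfl, rfl⟩ := h j
      let σ := ρ.ext n (ρ.e n * p) (by rwa [inv_mul_cancel_left])
      have s0 : σ.e 0 = ρ.e 0 := by simp [σ, ext]
      by_cases k : i = ρ.t n
      · exact ⟨σ, n + 2, h1, s0.trans h2, if_neg (by omega), by
          rw [k]; change ρ.t (n + 1 + 1) = _; rw [ρ.ht, ρ.ht, Bool.not_not]⟩
      · exact ⟨σ, n + 1, h1, s0.trans h2, if_neg (by omega), by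
          change ρ.t (n + 1) = _; rw [ρ.ht]; exact (Bool.eq_not_iff.mpr k).symm⟩
    intro g hg
    induction hg using closure_induction_right with
    | one =>
      intro i
      cases i
      · exact ⟨base P true, 1, rfl, rfl, rfl, rfl⟩
      · exact ⟨base P true, 0, rfl, rfl, rfl, rfl⟩
    | mul_right x _ y hy ih => exact hy.elim (step x ih true y) (step x ih false y)
    | mul_inv_cancel x _ y hy ih =>
      exact hy.elim (fun k => step x ih true _ (inv_mem k)) fun k => step x ih false _ (inv_mem k)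
  set K := closure ((P true : Set G) ∪ P false)
  have hn : K ≤ normalizer ((nclIn (sSup (𝒱 true)) K : Subgroup G) : Set G) := le_normalizer_nclIn _ _
  have := (a true).noN (nclIn (sSup (𝒱 true)) K) (iSup_le fun g => by
      obtain ⟨ρ, n, h1, h2, h3, h4⟩ := reach g g.2 true
      have := (hg n ρ).1
      rw [V, H, h1, h2, h3, h4, conjS_one, conjS_sSup'] at this
      exact this.trans ((a true).fp.core_le.trans inf_le_left))
    (le_trans (fun x hx => subset_closure (Or.inl hx)) hn)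
    (le_trans (fun x hx => subset_closure (Or.inr hx)) hn)
  exact (a true).fp.S_ne (eq_bot_iff.mpr (this ▸ le_nclIn _ _))

variable {b : ℕ} (hb : ∀ n < b, Good P 𝒱 n)
include hb

omit [Finite G] a in
theorem good (π : Path P) {k j : ℕ} (h1 : k ≤ j) (h2 : j < k + b) :
    sSup (π.V 𝒱 j) ≤ pCoreOf 2 (π.H k) ∧ sSup (π.V 𝒱 k) ≤ pCoreOf 2 (π.H j) := by
  obtain ⟨m, rfl⟩ := Nat.exists_eq_add_of_le h1
  exact hb m (by omega) (π.drop k)

theorem last_le (h : 1 ≤ b) : sSup (π.V 𝒱 b) ≤ π.E T 1 :=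
  (good hb π h (by omega)).1.trans ((fp a 1).core_le.trans inf_le_left)

theorem first_le (h : 1 ≤ b) : sSup (π.V 𝒱 0) ≤ π.E T b := by
  obtain ⟨c, rfl⟩ : ∃ c, b = c + 1 := ⟨b - 1, by omega⟩
  exact (good hb π (Nat.zero_le c) (by omega)).2.trans ((am a c).fp.core_le.trans inf_le_left)

theorem exists_crit (h : ¬ Good P 𝒱 b) : 1 ≤ b ∧ ∃ π : Path P, π.Crit 𝒱 b := by
  have h1 : 1 ≤ b := Nat.pos_of_ne_zero fun e => h (e ▸ fun π => ⟨(fp a 0).S_le_core, (fp a 0).S_le_core⟩)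
  refine ⟨h1, by_contra fun k => h fun π => ?_⟩
  have c : sSup (π.V 𝒱 b) ≤ centralizer ((sSup (π.V 𝒱 0) : Subgroup G) : Set G) :=
    by_contra fun c => k ⟨π, c⟩
  exact ⟨(am a 0).fp.core ▸ le_inf (last_le a hb h1) c,
    (fp a b).core ▸ le_inf (first_le a hb h1) (le_centralizer_iff.mp c)⟩

theorem pr (h : 1 ≤ b) (c : π.Crit 𝒱 b) :
    ∃ V V' z, Pr (π.E T b) (π.E T 1) (π.V 𝒱 b) (π.V 𝒱 0) V V' z :=
  exists_pr (fp a b).toFP0 (am a 0).fp.toFP0 (first_le a hb h) (last_le a hb h) c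

variable {V V' : Subgroup G} {z : G}

theorem le_H (h : 1 ≤ b) (hV : V' ∈ π.V 𝒱 0) : V' ≤ π.H b :=
  ((le_sSup hV).trans (first_le a hb h)).trans (fp a b).syl.le

theorem shift (h : 2 ≤ b) (p : Pr (π.E T b) (π.E T 1) (π.V 𝒱 b) (π.V 𝒱 0) V V' z)
    (al : z ∉ Pt (π.E T (b + 1)) (π.V 𝒱 b)) : π.sh.Crit 𝒱 b := fun c =>
  (am a b).shift (am a 0).fp.toFP0 p.mem p.mem' p.pt.1 p.zV p.zV' (le_H a hb (by omega) p.mem') p.nc al
    (good hb π (Nat.le_succ b) (by omega)).1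
    (le_trans ((am a 1).fp.core ▸ le_inf (last_le (π := π.sh) a hb (by omega)) c)
      (((fp a 1).core_le.trans inf_le_left).trans (am a 0).fp.syl.le))

theorem cen_first {k : ℕ} (h : k < b) {U : Subgroup G} (hU : U ∈ π.V 𝒱 k) (hz : z ∈ U) (hV : V' ∈ π.V 𝒱 0) :
    V' ≤ centralizer ({z} : Set G) := fun v hv => mem_centralizer_singleton_iff.mpr
  (((good hb π (Nat.zero_le k) (by omega)).1.trans ((fp a 0).core_le.trans inf_le_right))
    (le_sSup (s := π.V 𝒱 k) hU hz) v (le_sSup (s := π.V 𝒱 0) hV hv))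

/-- extension by an allowed edge -/
theorem step (h : 2 ≤ b) (p : Pr (π.E T b) (π.E T 1) (π.V 𝒱 b) (π.V 𝒱 0) V V' z) {g : G} (hg : g ∈ π.H b)
    (al : z ∉ Pt (conjS g (π.E T b)) (π.V 𝒱 b)) : ∃ ρ : Path P, ρ.t = π.t ∧
      (∀ m ≤ b, ρ.H m = π.H m ∧ ρ.E T m = π.E T m ∧ ρ.V 𝒱 m = π.V 𝒱 m) ∧
      ρ.e (b + 1) = g * π.e b ∧ ρ.E T (b + 1) = conjS g (π.E T b) ∧ ρ.sh.Crit 𝒱 b := by
  obtain ⟨ρ, h1, h2, h3⟩ := exists_ext b hg
  have k : ∀ m ≤ b, ρ.H m = π.H m ∧ ρ.E T m = π.E T m ∧ ρ.V 𝒱 m = π.V 𝒱 m := fun m hm => by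
    simp only [H, E, Path.V, h1, h2 m hm, and_self]
  have k' : ρ.E T (b + 1) = conjS g (π.E T b) := by rw [E, h3, conjS_mul, E]
  refine ⟨ρ, h1, k, h3, k', shift a hb h (V := V) (V' := V') (z := z) ?_ ?_⟩
  · rwa [(k b le_rfl).2.1, (k 1 (by omega)).2.1, (k b le_rfl).2.2, (k 0 (by omega)).2.2]
  · rwa [k', (k b le_rfl).2.2]

theorem crit_sh (h : 2 ≤ b) (c : π.Crit 𝒱 b) : ∃ ρ : Path P, ρ.Crit 𝒱 b ∧ ∀ m, ρ.t m = !π.t m := by
  obtain ⟨V, V', z, p⟩ := pr a hb (by omega) c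
  obtain ⟨g, hg, al⟩ := (fp a b).exists_allowed p.mem p.zV p.pt.1
  obtain ⟨ρ, h1, -, -, -, h5⟩ := step a hb h p hg al
  exact ⟨ρ.sh, h5, fun m => by rw [← h1]; exact ρ.ht m⟩

theorem gd_of (h : 2 ≤ b) (c : π.Crit 𝒱 b) : Gd T (P (π.t b)) (𝒱 !π.t b) := by
  by_contra k
  obtain ⟨V, V', z, p⟩ := pr a hb (by omega) c
  have hP := le_H a hb (by omega) p.mem'
  refine (fp a b).tri p.mem p.pt.1 p.zV hP (cen_first a hb (by omega) p.mem' p.zV' p.mem') p.nc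
    (am (π := π) a 1).fp.two_pt fun g hg al => ?_
  obtain ⟨ρ, h1, h2, -, h4, h5⟩ := step a hb h p hg al
  obtain ⟨U, U', u, q⟩ := pr a hb (by omega) h5
  have m := am (π := ρ) a b
  obtain ⟨s, hs, x, hx, e, r⟩ := m.gd_step (V' := V') (fun j => k (h1 ▸ (gd b).mp j)) q.pt
    ((h2 b le_rfl).1 ▸ hP)
    (cen_first (π := ρ) a hb (k := 1) (by omega) q.mem' q.zV' ((h2 0 (by omega)).2.2 ▸ p.mem'))
  rw [(h2 b le_rfl).1] at hx
  rw [(h2 b le_rfl).2.2] at hs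
  rw [h4] at r
  refine ⟨s, hs, x, hx, ?_, r⟩
  rw [e, ← (h2 2 h).2.1, ← (h2 1 (by omega)).2.2]
  exact q.pt'

theorem gd_all (h : 2 ≤ b) (c : π.Crit 𝒱 b) (i : Bool) : Gd T (P i) (𝒱 !i) := by
  obtain ⟨ρ, c', e⟩ := crit_sh a hb h c
  by_cases k : i = π.t b
  · exact k ▸ gd_of a hb h c
  · have := gd_of a hb h c'
    rwa [e, ← Bool.eq_not_iff.mpr k] at this

theorem not_three (h : 3 ≤ b) (c : π.Crit 𝒱 b) : False := by
  obtain ⟨V, V', z, p⟩ := pr a hb (by omega) c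
  refine (fp a b).tri p.mem p.pt.1 p.zV (le_H a hb (by omega) p.mem')
    (cen_first a hb (by omega) p.mem' p.zV' p.mem') p.nc (am (π := π) a 2).fp.two_pt fun g hg al => ?_
  obtain ⟨ρ, h1, h2, -, h4, h5⟩ := step a hb (by omega) p hg al
  obtain ⟨U, U', u, q⟩ := pr a hb (by omega) h5
  obtain ⟨f, hf, bl⟩ := (fp (π := ρ.sh) a b).exists_allowed q.mem q.zV q.pt.1
  obtain ⟨σ, k1, k2, k3, k4, k5⟩ := step a hb (by omega) q hf bl
  obtain ⟨W, W', w, r⟩ := pr a hb (by omega) k5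
  have m := am (π := ρ) a b
  have e : σ.V 𝒱 (b + 1) = conjS f '' ρ.V 𝒱 b := by
    rw [Path.V, k3, image_mul, V_eq a, k1]
    change _ '' (_ '' 𝒱 (ρ.t (b + 1 + 1))) = _
    rw [ρ.ht, ρ.ht, Bool.not_not]; rfl
  have hw : w ∈ Pt (ρ.E T (b + 1)) (ρ.V 𝒱 b) := by
    rw [← m.symm.pt_inv ((gd' a b).mpr (gd_all a hb (by omega) c _)) hf, ← e]
    exact k4 ▸ r.pt
  have hw' : w ∈ Pt (ρ.E T 3) (ρ.V 𝒱 2) := by
    have := r.pt'
    change w ∈ Pt (σ.E T 2) (σ.V 𝒱 1) at this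
    rwa [(k2 2 (by omega)).2.1, (k2 1 (by omega)).2.2] at this
  obtain ⟨-, Y, hY, wY, -⟩ := id hw'
  have cw := cen_first (π := ρ) a hb (k := 2) (by omega) hY wY ((h2 0 (by omega)).2.2 ▸ p.mem')
  have jw := m.fp.pt_J hw
  rw [h4] at jw
  rw [(h2 3 h).2.1, (h2 2 (by omega)).2.2] at hw'
  obtain ⟨w1, Y', hY', wY', -⟩ := hw
  rw [(h2 b le_rfl).2.2] at hY'
  exact ⟨w, le_sSup (s := π.V 𝒱 b) hY' wY', 1, one_mem _, by rwa [mul_one], w1, jw, cw⟩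

omit hb in
theorem two_of (c : π.Crit 𝒱 2) : ∃ g ∈ P (!π.t 0),
    ¬ sSup (𝒱 (π.t 0)) ≤ centralizer ((conjS g (sSup (𝒱 (π.t 0))) : Subgroup G) : Set G) := by
  refine ⟨(π.e 2)⁻¹ * π.e 1, by simpa [π.ht] using inv_mem (π.he 1), fun k => c ?_⟩
  rw [V_eq a 0, Path.V, conjS_sSup', conjS_sSup', show π.t 2 = π.t 0 by rw [π.ht, π.ht, Bool.not_not]]
  rw [conjS_mul, ← conjS_centralizer, le_conjS_iff, inv_inv] at k
  exact k

end Path

variable [Finite G] {T P R : Subgroup G} {𝒱 𝒰 : Set (Subgroup G)}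

theorem Am.b1 (h : Am T P R 𝒱 𝒰) : B1 T P R 𝒱 𝒰 := by
  classical
  refine ⟨h, fun hc => ?_⟩
  let P' : Bool → Subgroup G := fun i => cond i P R
  let 𝒱' : Bool → Set (Subgroup G) := fun i => cond i 𝒱 𝒰
  have a : ∀ i, Am T (P' i) (P' !i) (𝒱' i) (𝒱' !i) := fun i => by cases i; exacts [h.symm, h]
  have cc : ∀ i, sSup (𝒱' i) ≤ centralizer ((sSup (𝒱' !i) : Subgroup G) : Set G) := fun i => by
    cases i; exacts [le_centralizer_iff.mp hc, hc]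
  have ex := Path.exists_bad a
  have hb : ∀ n < Nat.find ex, Path.Good P' 𝒱' n := fun n hn => not_not.mp (Nat.find_min ex hn)
  obtain ⟨h1, π, c⟩ := Path.exists_crit a hb (Nat.find_spec ex)
  generalize Nat.find ex = b at hb h1 c
  rcases lt_trichotomy b 2 with k | rfl | k
  · obtain rfl : b = 1 := by omega
    refine c ?_
    rw [Path.V_eq a 0, Path.V, conjS_sSup', conjS_sSup', ← conjS_centralizer, conjS_le_conjS_iff, π.ht]
    exact le_centralizer_iff.mp (cc _)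
  · obtain ⟨ρ, c', e⟩ := Path.crit_sh a hb le_rfl c
    have n2 := Path.two_of a c'
    rw [e, Bool.not_not] at n2
    have g2 := Path.gd_all a hb le_rfl c (!π.t 0)
    rw [Bool.not_not] at g2
    have m := a (π.t 0)
    exact m.btwo (m.fr.core ▸ le_inf m.fp.S_le (cc _))
      (m.fp.core ▸ le_inf m.fr.S_le (le_centralizer_iff.mp (cc _))) (Path.gd_all a hb le_rfl c _) g2
      (Path.two_of a c) n2
  · exact Path.not_three a hb k c

end CfsgLib.QT5
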