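import Mathlib
import Cfsg.Agent.Lib.QT5.FAM
import Cfsg.Agent.Lib.QT5.BC

/-!
RED: reduction to the amalgam.
-/

set_option autoImplicit false

namespace CfsgLib.QT5

open Subgroup Cfsg CfsgLib.LAE CfsgLib.PLocal CfsgLib.ZN
open scoped commutatorElement

variable {G : Type*} [Group G] [Finite G] {T T' P P' R H M V V' W U : Subgroup G}
  {𝒱 𝒱' 𝒰 𝒲 : Set (Subgroup G)}

omit [Finite G] in
theorem red_core (h : IsMaximalTwoLocal M) : pCoreOf 2 M ≠ ⊥ := by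
  obtain ⟨⟨Q, h1, h2, rfl⟩, -⟩ := h
  exact fun e => h2 (le_bot_iff.1 (e ▸ le_pCoreOf h1 le_normalizer le_rfl))

omit [Finite G] in
theorem red_max (h : IsMaximalTwoLocal M) {N : Subgroup G} (h1 : IsPGroup 2 N) (h0 : N ≠ ⊥)
    (hn : M ≤ normalizer (N : Set G)) : M = normalizer (N : Set G) := (h.2 _ ⟨N, h1, h0, rfl⟩ hn).symm

theorem red_Z_le (T : Subgroup G) : omegaZ 2 T ≤ thompsonSubgroupOf 2 T := fun x hx =>
  mem_thompsonSubgroupOf_of_centralizes (mem_omegaZ.1 hx).1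
    (centralizer_anti (thompsonSubgroupOf_le T) (mem_omegaZ.1 hx).2.1) (mem_omegaZ.1 hx).2.2

/-- the factorization when `J(T)` centralizes the normal closure of `Ω₁(Z(T))` -/
theorem Hy.red_fac (h : Hy T) (hT : T ≤ M) (hO : pCoreOf 2 M ≠ ⊥)
    (hJ : thompsonSubgroupOf 2 T ≤ centralizer (nclIn (omegaZ 2 T) M : Set G)) {m : G} (hm : m ∈ M) :
    ∃ k ∈ centralizer (omegaZ 2 T : Set G), ∃ y ∈ normalizer (thompsonSubgroupOf 2 T : Set G),
      y ∈ normalizer ((T ⊓ centralizer (omegaZ 2 (thompsonSubgroupOf 2 T) : Set G) : Subgroup G) : Set G) ∧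
        m = k * y := by
  have hS := h.ec.syl.mono hT le_top
  obtain ⟨e1, e2⟩ := h.elemAb_V hT hO
  have n : M ≤ normalizer ((M ⊓ centralizer (nclIn (omegaZ 2 T) M : Set G) : Subgroup G) : Set G) :=
    le_normalizer_inf le_normalizer (le_normalizer_centralizer (le_normalizer_nclIn _ _))
  obtain ⟨k, hk, y, hy, e⟩ := (hS.inf_of_normal inf_le_left n).frattini (n hm)
  have eJ : thompsonSubgroupOf 2 (T ⊓ (M ⊓ centralizer (nclIn (omegaZ 2 T) M : Set G))) = thompsonSubgroupOf 2 T :=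
    thompsonSubgroupOf_eq_of_le inf_le_left
      (le_inf (thompsonSubgroupOf_le T) (le_inf ((thompsonSubgroupOf_le T).trans hT) hJ))
  have yJ : y ∈ normalizer (thompsonSubgroupOf 2 T : Set G) := eJ ▸ normalizer_le_normalizer_thompsonSubgroupOf _ hy
  have hV : nclIn (omegaZ 2 T) M ≤ omegaZ 2 (thompsonSubgroupOf 2 T) :=
    le_omegaZ e1 (fun x hx => mem_thompsonSubgroupOf_of_centralizes ((e2.trans hS.pCoreOf_le) hx)
      (le_centralizer_iff.1 hJ hx) ((elemAb_iff.1 e1).2 x hx)) (le_centralizer_iff.1 hJ)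
  have eB : T ⊓ centralizer (omegaZ 2 (thompsonSubgroupOf 2 T) : Set G) =
      (T ⊓ (M ⊓ centralizer (nclIn (omegaZ 2 T) M : Set G))) ⊓
        centralizer (omegaZ 2 (thompsonSubgroupOf 2 T) : Set G) :=
    le_antisymm (le_inf (le_inf inf_le_left (le_inf (inf_le_left.trans hT)
      (inf_le_right.trans (centralizer_anti hV)))) inf_le_right) (inf_le_inf_right _ inf_le_left)
  refine ⟨k, centralizer_anti (le_nclIn _ _) hk.2, y, yJ, ?_, e⟩
  rw [eB]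
  exact le_normalizer_inf (zpowers_le.2 hy) (le_normalizer_centralizer (le_normalizer_omegaZ_of_le
    (zpowers_le.2 yJ))) (mem_zpowers y)

theorem Hy.red_fp (h : Hy T) (h1 : IsMaximalTwoLocal M) (hT : T ≤ M)
    (hJ : ¬ thompsonSubgroupOf 2 T ≤ centralizer (nclIn (omegaZ 2 T) M : Set G)) :
    ∃ P 𝒱, FP T P 𝒱 ∧ P ≤ M ∧ M = normalizer ((sSup 𝒱 : Subgroup G) : Set G) := by
  obtain ⟨𝒱, f⟩ := h.exists_fp0 hT (red_core h1) hJ
  obtain ⟨P, hP, f'⟩ := f.exists_fp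
  exact ⟨P, 𝒱, f', hP, red_max h1 (elemAb_isPGroup f.elemAb) f.S_ne f.norm_S⟩

theorem Hy.red_Z_ne (h : Hy T) (h1 : IsMaximalTwoLocal M) (hT : T ≤ M) : omegaZ 2 T ≠ ⊥ :=
  omegaZ_ne_bot h.ec.syl.isPGroup fun e =>
    red_core h1 (le_bot_iff.1 (e ▸ (h.ec.syl.mono hT le_top).pCoreOf_le))

theorem Hy.red_mixed (h : Hy T) {M₁ M₂ : Subgroup G} (h1 : IsMaximalTwoLocal M₁) (h2 : IsMaximalTwoLocal M₂)
    (c1 : centralizer (omegaZ 2 T : Set G) ≤ M₁) (c2 : centralizer (omegaZ 2 T : Set G) ≤ M₂)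
    (k1 : ¬ thompsonSubgroupOf 2 T ≤ centralizer (nclIn (omegaZ 2 T) M₁ : Set G))
    (k2 : thompsonSubgroupOf 2 T ≤ centralizer (nclIn (omegaZ 2 T) M₂ : Set G)) : M₁ = M₂ := by
  have t1 := (le_centralizer_omegaZ T).trans c1
  have t2 := (le_centralizer_omegaZ T).trans c2
  obtain ⟨P, 𝒱, f, -, e⟩ := h.red_fp h1 t1 k1
  obtain ⟨N, n0, n1, n2, n3⟩ := f.push h.ec (D := T ⊓ centralizer (omegaZ 2 (thompsonSubgroupOf 2 T) : Set G))
    (fun e' => h.red_Z_ne h1 t1 (le_bot_iff.1 (e' ▸ le_inf (omegaZ_le T) ((omegaZ_le_centralizer T).trans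
      (centralizer_anti ((omegaZ_le _).trans (thompsonSubgroupOf_le T))))))) inf_le_left f.inf_res_le_baum
    (le_normalizer_inf le_normalizer (le_normalizer_centralizer (le_normalizer_omegaZ_of_le
      (le_normalizer_thompson T)))) le_rfl
  refine h2.2 _ h1.1 fun m hm => ?_
  obtain ⟨k, hk, y, -, hy, rfl⟩ := h.red_fac t2 (red_core h2) k2 hm
  exact mul_mem (c1 hk) (e ▸ h.le_norm f n0 (n1.trans inf_le_left) n3 (n2 hy))

theorem Hy.red_both (h : Hy T) (h1 : IsMaximalTwoLocal M) (c1 : centralizer (omegaZ 2 T : Set G) ≤ M)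
    (k1 : thompsonSubgroupOf 2 T ≤ centralizer (nclIn (omegaZ 2 T) M : Set G)) :
    M = normalizer (pCoreOf 2 (nclIn (thompsonSubgroupOf 2 T) (centralizer (omegaZ 2 T : Set G))) : Set G) := by
  have t1 := (le_centralizer_omegaZ T).trans c1
  have e : nclIn (thompsonSubgroupOf 2 T) (centralizer (omegaZ 2 T : Set G)) = nclIn (thompsonSubgroupOf 2 T) M :=
    le_antisymm (nclIn_mono le_rfl c1) (nclIn_le_iff.2 fun m hm => by
      obtain ⟨k, hk, y, hy, -, rfl⟩ := h.red_fac t1 (red_core h1) k1 hm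
      rw [conjS_mul, mem_normalizer_iff_conjS.1 hy]
      exact conjS_le_nclIn hk)
  refine red_max h1 (isPGroup_pCoreOf _) (fun e' => h.red_Z_ne h1 t1 (le_bot_iff.1 (e' ▸ ?_)))
    (le_normalizer_pCoreOf_of_le (e ▸ le_normalizer_nclIn _ _))
  exact le_pCoreOf (elemAb_isPGroup (elemAb_omegaZ T)) ((red_Z_le T).trans (le_nclIn _ _))
    (le_normalizer_of_le_centralizer (nclIn_le_of_le ((thompsonSubgroupOf_le T).trans (le_centralizer_omegaZ T))))

theorem Hy.exists_am (h : Hy T) {M₁ M₂ : Subgroup G} (h1 : IsMaximalTwoLocal M₁) (h2 : IsMaximalTwoLocal M₂)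
    (c1 : centralizer (omegaZ 2 T : Set G) ≤ M₁) (c2 : centralizer (omegaZ 2 T : Set G) ≤ M₂) (ne : M₁ ≠ M₂) :
    ∃ P R 𝒱 𝒰, Am T P R 𝒱 𝒰 ∧ M₁ = normalizer ((sSup 𝒱 : Subgroup G) : Set G) ∧
      M₂ = normalizer ((sSup 𝒰 : Subgroup G) : Set G) := by
  have t1 := (le_centralizer_omegaZ T).trans c1
  have t2 := (le_centralizer_omegaZ T).trans c2
  by_cases k1 : thompsonSubgroupOf 2 T ≤ centralizer (nclIn (omegaZ 2 T) M₁ : Set G) <;>
    by_cases k2 : thompsonSubgroupOf 2 T ≤ centralizer (nclIn (omegaZ 2 T) M₂ : Set G)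
  · exact absurd ((h.red_both h1 c1 k1).trans (h.red_both h2 c2 k2).symm) ne
  · exact absurd (h.red_mixed h2 h1 c2 c1 k2 k1).symm ne
  · exact absurd (h.red_mixed h1 h2 c1 c2 k1 k2) ne
  obtain ⟨P, 𝒱, f, p1, e1⟩ := h.red_fp h1 t1 k1
  obtain ⟨R, 𝒰, f', p2, e2⟩ := h.red_fp h2 t2 k2
  have no : ∀ N : Subgroup G, N ≤ T → P ≤ normalizer (N : Set G) → R ≤ normalizer (N : Set G) → N = ⊥ :=
    fun N a b c => by_contra fun n0 => ne (h1.2 _ h2.1
      (e2 ▸ (h.up f' (c.trans (e1 ▸ h.le_norm f n0 a b)) (red_core h1)).norm_S)).symm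
  refine ⟨P, R, 𝒱, 𝒰, ⟨f, f', no, fun k => ?_, fun k => ?_⟩, e1, e2⟩
  · obtain ⟨N, n0, n1, n2, n3⟩ := f.push h.ec (fun e => f'.S_ne (le_bot_iff.1 (e ▸ f'.S_le_core)))
      f'.syl.pCoreOf_le k f'.syl.le (le_normalizer_pCoreOf R)
    exact n0 (no N (n1.trans f'.syl.pCoreOf_le) n3 n2)
  · obtain ⟨N, n0, n1, n2, n3⟩ := f'.push h.ec (fun e => f.S_ne (le_bot_iff.1 (e ▸ f.S_le_core)))
      f.syl.pCoreOf_le k f.syl.le (le_normalizer_pCoreOf P)
    exact n0 (no N (n1.trans f.syl.pCoreOf_le) n2 n3)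


end CfsgLib.QT5
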