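import Mathlib
import Cfsg.Agent.Lib.QT5.Defs
import Cfsg.Agent.Lib.QT1.U21
import Cfsg.Agent.S1820
import Cfsg.Agent.S1821
import Cfsg.Agent.S1851

/-!
SOL: all overgroups of `T` with nontrivial `O₂` are solvable.
-/

set_option autoImplicit false

namespace CfsgLib.QT5

open Subgroup Cfsg CfsgLib.LAE CfsgLib.PLocal CfsgLib.ZN
open scoped commutatorElement

variable {G : Type*} [Group G] [Finite G] {T T' P P' R H M V V' W U : Subgroup G}
  {𝒱 𝒱' 𝒰 𝒲 : Set (Subgroup G)}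

theorem sol_of_perfect (h : ∀ L : Subgroup G, ⁅L, L⁆ = L → L = ⊥) : Group.IsSolvable G := by
  obtain ⟨_, ⟨n, rfl⟩, hn⟩ := (wellFounded_lt (α := Subgroup G)).has_min (Set.range (derivedSeries G)) ⟨_, 0, rfl⟩
  refine ⟨⟨n, h _ ?_⟩⟩
  by_contra e
  exact hn _ ⟨n + 1, rfl⟩ (lt_of_le_of_ne (commutator_le_self _) e)

theorem calL_empty [IsSimpleGroup G] (hG : ¬ IsMulCommutative G) (hQ : IsQTKE G) (S : Sylow 2 G)
    (hE : calLf (S : Subgroup G) = ∅) {M₁ M₂ : Subgroup G}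
    (h1 : M₁ ∈ maxTwoLocalsContaining (centralizer (omegaZ 2 (S : Subgroup G) : Set G)))
    (h2 : M₂ ∈ maxTwoLocalsContaining (centralizer (omegaZ 2 (S : Subgroup G) : Set G))) (ne : M₁ ≠ M₂)
    {L₀ : Subgroup G} (h0 : L₀ ∈ calL (S : Subgroup G)) : False := by
  have : Fact (Nat.Prime 2) := ⟨Nat.prime_two⟩
  obtain ⟨L, hL, hmax⟩ := (wellFounded_gt (α := Subgroup G)).has_min (calL (S : Subgroup G)) ⟨_, h0⟩
  have hM : L ∈ calLMax (S : Subgroup G) :=
    ⟨hL, fun K hK le => by_contra fun e => hmax K hK (lt_of_le_of_ne le (Ne.symm e))⟩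
  obtain ⟨-, f2, f3⟩ := Cfsg.Agent.S1821.result hG hQ S L hM
  obtain ⟨a1, a2, a3⟩ := Cfsg.Agent.S1851.calL_facts hQ.2.2 S hL
  have hV : moduleV L = ⊥ := by_contra fun e => by
    have : L ∈ calLf (S : Subgroup G) :=
      ⟨hL, ⟨((QT1.cIn_iff le_sup_left).1 hL.1).1, by rw [QT1.oddGenerated_eq, a1], f2⟩, e⟩
    rwa [hE] at this
  change ⁅omegaZ 2 (pCoreOf 2 L), L⁆ = ⊥ at hV
  rw [commutator_eq_bot_iff_le_centralizer, le_centralizer_iff] at hV
  set H := L ⊔ (S : Subgroup G) with hH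
  have hW : IsPGroup 2 (omegaZ 2 (pCoreOf 2 H)) := (isPGroup_pCoreOf H).to_le (omegaZ_le _)
  have nW : H ≤ normalizer (omegaZ 2 (pCoreOf 2 H) : Set G) :=
    le_normalizer_omegaZ_of_le (le_normalizer_pCoreOf H)
  have c1 := a2.commutator_pResOf_le hW ((omegaZ_le _).trans (map_subtype_le _)) nW
  have c2 : omegaZ 2 (pCoreOf 2 H) ⊓ pResOf 2 L ≤ omegaZ 2 (pCoreOf 2 L) := by
    rw [a1]
    exact le_omegaZ (elemAb_mono (elemAb_omegaZ _) inf_le_left)
      (le_pCoreOf hW.to_inf_left inf_le_right (le_normalizer_inf (le_sup_left.trans nW) le_normalizer))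
      (inf_le_left.trans ((omegaZ_le_centralizer _).trans (centralizer_anti a2.pCoreOf_le)))
  have c3 := pResOf_le_centralizer_of_le hW (le_sup_left.trans nW) (c1.trans c2) (a1.le.trans hV)
  rw [a1] at c3
  have c4 : H ≤ centralizer (omegaZ 2 (S : Subgroup G) : Set G) :=
    sup_le (c3.trans (centralizer_anti (a3.omegaZ_le le_sup_right
      (isSylowIn_of_le S le_sup_right).pCoreOf_le))) (le_centralizer_omegaZ _)
  have e1 : M₁ ∈ maxTwoLocalsContaining H := ⟨h1.1, c4.trans h1.2⟩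
  have e2 : M₂ ∈ maxTwoLocalsContaining H := ⟨h2.1, c4.trans h2.2⟩
  rw [f3] at e1 e2
  exact ne (e1.trans e2.symm)

theorem hy_of [IsSimpleGroup G] (hG : ¬ IsMulCommutative G) (hQ : IsQTKE G) (S : Sylow 2 G)
    (hE : calLf (S : Subgroup G) = ∅) {M₁ M₂ : Subgroup G}
    (h1 : M₁ ∈ maxTwoLocalsContaining (centralizer (omegaZ 2 (S : Subgroup G) : Set G)))
    (h2 : M₂ ∈ maxTwoLocalsContaining (centralizer (omegaZ 2 (S : Subgroup G) : Set G))) (ne : M₁ ≠ M₂) :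
    Hy (S : Subgroup G) := by
  have : Fact (Nat.Prime 2) := ⟨Nat.prime_two⟩
  refine ⟨QT1.ec_of_even hQ.2.2 S, fun H hT hH => ?_,
    fun H _ hH => QT1.sqt_of_calH hQ.1 fun e => hH (pCoreOf_eq_bot_iff.2 e)⟩
  have k := (Cfsg.Agent.S1820.result hG hQ H fun e => hH (pCoreOf_eq_bot_iff.2 e)).1
  have e : calC H = ∅ := Set.eq_empty_of_forall_notMem fun K hK => by
    have h3 : QT1.CIn (K.map H.subtype) H := by
      rwa [← QT1.cIn_iff (map_subtype_le K), subgroupOf, comap_map_eq_self_of_injective H.subtype_injective]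
    refine calL_empty hG hQ S hE h1 h2 ne (L₀ := K.map H.subtype)
      ⟨(h3.mono le_sup_left (sup_le h3.le hT)).mem, ⟨(isSylowIn_of_le S le_sup_right).toSylow, rfl⟩,
        fun e => hH ?_⟩
    rw [← pCoreOf_eq_bot_iff] at e
    exact le_bot_iff.1 ((pCoreOf_le_pCoreOf_of_le (sup_le h3.le hT)
      ((isSylowIn_of_le S hT).pCoreOf_le.trans le_sup_right)).trans e.le)
  rw [e, sSup_empty] at k
  exact sol_of_perfect fun L hL => le_bot_iff.1 (k ▸ le_sSup (s := {L : Subgroup H | ⁅L, L⁆ = L}) hL)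

end CfsgLib.QT5
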