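import Mathlib
import Cfsg.Agent.Lib.QT5.BA
import Cfsg.Agent.Lib.QT1.WrA

/-!
WR: recognition of the wreath product.
-/

set_option autoImplicit false

namespace CfsgLib.QT5

open Subgroup Cfsg CfsgLib.LAE CfsgLib.PLocal CfsgLib.ZN
open scoped commutatorElement

variable {G : Type*} [Group G] [Finite G] {T T' P P' R H M V V' W U : Subgroup G}
  {𝒱 𝒱' 𝒰 𝒲 : Set (Subgroup G)}

namespace WR

open scoped Pointwise in
theorem mem_block (σ : Equiv.Perm (Fin 4 ⊕ Fin 4))
    (h : (∀ i, (σ i).isLeft = i.isLeft) ∨ ∀ i, (σ i).isLeft = i.isRight) : σ ∈ blockStabilizerS4wr2 := by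
  have k : ∀ (f f' : Fin 4 ⊕ Fin 4 → Bool), (∀ i, f' (σ i) = f i) →
      σ • {i | f i = true} = {i | f' i = true} := fun f f' h => by
    ext j
    obtain ⟨i, rfl⟩ := σ.surjective j
    rw [← Equiv.Perm.smul_def, Set.smul_mem_smul_set_iff]
    exact (Bool.coe_iff_coe.2 (h i)).symm
  have n : ∀ i : Fin 4 ⊕ Fin 4, i.isRight = !i.isLeft := fun i => by cases i <;> rfl
  rw [blockStabilizerS4wr2, MulAction.mem_stabilizer_iff, Set.smul_set_insert,
    Set.smul_set_singleton, Set.range_inl, Set.range_inr]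
  rcases h with h | h
  · rw [k _ _ h, k _ Sum.isRight fun i => by rw [n, n, h]]
  · rw [k _ _ h, k _ Sum.isRight fun i => by rw [n, h, n, Bool.not_not], Set.pair_comm]

theorem card_block : Nat.card blockStabilizerS4wr2 = 1152 := by
  have e : blockStabilizerS4wr2 = QT1.Wr.psi.range :=
    le_antisymm (fun _ h => QT1.Wr.mem_range h) (by rintro _ ⟨x, rfl⟩; exact QT1.Wr.psi_mem x)
  rw [e, ← Nat.card_congr (MonoidHom.ofInjective QT1.Wr.psi_inj).toEquiv]
  exact CfsgLib.W2.TG.card_eq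

theorem exists_equiv {Ω : Type*} (p : Ω → Prop) (h1 : Nat.card {a // p a} = 4)
    (h2 : Nat.card {a // ¬ p a} = 4) :
    ∃ e : Ω ≃ Fin 4 ⊕ Fin 4, ∀ a, (e a).isLeft = true ↔ p a := by
  classical
  have f1 : Finite {a // p a} := Nat.finite_of_card_ne_zero (by omega)
  have f2 : Finite {a // ¬ p a} := Nat.finite_of_card_ne_zero (by omega)
  refine ⟨(Equiv.sumCompl p).symm.trans
    (Equiv.sumCongr (Finite.equivFinOfCardEq h1) (Finite.equivFinOfCardEq h2)), fun a => ?_⟩
  by_cases h : p a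
  · simp [h]
  · simp [h]

/-- two four-groups permuted by `M`, with self-centralizing product -/
structure Sd (M V W : Subgroup G) : Prop where
  fV : IsFour V
  fW : IsFour W
  disj : V ⊓ W = ⊥
  cV : V ≤ centralizer (W : Set G)
  VM : V ≤ M
  WM : W ≤ M
  hc : ∀ g ∈ M, g ∈ centralizer (V : Set G) → g ∈ centralizer (W : Set G) → g ∈ V ⊔ W
  nrm : ∀ g ∈ M, (conjS g V = V ∧ conjS g W = W) ∨ (conjS g V = W ∧ conjS g W = V)

/-- the points -/
def Pts (M W : Subgroup G) : Set (Subgroup G) :=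
  {Y | Nat.card Y = 3 ∧ Y ≤ M ∧ Y ≤ centralizer (W : Set G)}

omit [Finite G] in
theorem conj_pts {Y : Subgroup G} {g : G} (hg : g ∈ M) (hY : Y ∈ Pts M W) :
    conjS g Y ∈ Pts M (conjS g W) :=
  ⟨by rw [card_conjS]; exact hY.1, conjS_le_of_le_of_mem hY.2.1 hg, by
    rw [← conjS_centralizer]; exact conjS_mono hY.2.2⟩

omit [Finite G] in
theorem cube {Y : Subgroup G} (hY : Nat.card Y = 3) {y : G} (hy : y ∈ Y) : y ^ 3 = 1 := by
  have := pow_card_eq_one' (x := (⟨y, hy⟩ : Y))
  rw [hY] at this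
  exact congrArg Subtype.val this

omit [Finite G] in
theorem exists_ne {Y : Subgroup G} (hY : Nat.card Y = 3) : ∃ y ∈ Y, y ≠ 1 := by
  by_contra h
  push Not at h
  rw [(eq_bot_iff_forall Y).2 h, card_bot] at hY
  omega

omit [Finite G] in
theorem one_of {y : G} (h3 : y ^ 3 = 1) (h2 : y * y = 1) : y = 1 := by
  rw [pow_succ, sq, h2, one_mul] at h3
  exact h3

omit [Finite G] in
theorem ord_three {y : G} (h3 : y ^ 3 = 1) (h1 : y ≠ 1) : orderOf y = 3 :=
  haveI := Fact.mk Nat.prime_three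
  orderOf_eq_prime h3 h1

namespace Sd

omit [Finite G] in
theorem symm (h : Sd M V W) : Sd M W V where
  fV := h.fW
  fW := h.fV
  disj := by rw [inf_comm]; exact h.disj
  cV := le_centralizer_iff.mp h.cV
  VM := h.WM
  WM := h.VM
  hc := fun g hg a b => by rw [sup_comm]; exact h.hc g hg b a
  nrm := fun g hg => (h.nrm g hg).imp And.symm And.symm

variable (h : Sd M V W)
include h

omit [Finite G] in
theorem ne : V ≠ W := fun e => h.fW.ne_bot (by have := h.disj; rwa [e, inf_idem] at this)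

omit [Finite G] in
theorem norm_of {g : G} (hg : g ∈ M) (hn : g ∈ normalizer (W : Set G)) : g ∈ normalizer (V : Set G) := by
  rcases h.nrm g hg with k | k
  · exact mem_normalizer_iff_conjS.2 k.1
  · exact absurd (k.2.symm.trans (mem_normalizer_iff_conjS.1 hn)) h.ne

omit [Finite G] in
theorem dec {g : G} (hg : g ∈ M) (a : g ∈ centralizer (V : Set G)) (b : g ∈ centralizer (W : Set G)) :
    ∃ v ∈ V, ∃ w ∈ W, g = v * w :=
  (mem_sup_iff_of_left_le_normalizer (le_normalizer_of_le_centralizer h.cV)).mp (h.hc g hg a b)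

omit [Finite G] in
theorem sq_one {g : G} (hg : g ∈ M) (a : g ∈ centralizer (V : Set G)) (b : g ∈ centralizer (W : Set G)) :
    g * g = 1 := by
  obtain ⟨v, hv, w, hw, rfl⟩ := h.dec hg a b
  have c : w * v = v * w := mem_centralizer_iff.mp (h.cV hv) w hw
  calc v * w * (v * w) = v * (w * v) * w := by group
    _ = (v * v) * (w * w) := by rw [c]; group
    _ = 1 := by rw [h.fV.mul_self hv, h.fW.mul_self hw, mul_one]

omit [Finite G] in
theorem not_cen {Y : Subgroup G} (hY : Y ∈ Pts M W) {y : G} (hy : y ∈ Y) (h1 : y ≠ 1) :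
    y ∉ centralizer (V : Set G) := fun k =>
  h1 (one_of (cube hY.1 hy) (h.sq_one (hY.2.1 hy) k (hY.2.2 hy)))

omit [Finite G] in
theorem not_both {Y : Subgroup G} (hY : Y ∈ Pts M W) : Y ∉ Pts M V := fun k => by
  obtain ⟨y, hy, h1⟩ := exists_ne hY.1
  exact h.not_cen hY hy h1 (k.2.2 hy)

omit [Finite G] in
theorem pts_norm {Y : Subgroup G} (hY : Y ∈ Pts M W) : Y ≤ normalizer (V : Set G) := fun _ hy =>
  h.norm_of (hY.2.1 hy) (centralizer_le_normalizer _ (hY.2.2 hy))

theorem inj {X : Subgroup G} (hX : X ∈ Pts M W) {u : G} (hu : u ∈ V) (e : conjS u X = X) : u = 1 := by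
  obtain ⟨x, hx, h1⟩ := exists_ne hX.1
  have hn := h.pts_norm hX hx
  have hf := h.fV.fpf_of_odd hn (by rw [ord_three (cube hX.1 hx) h1]; decide) (h.not_cen hX hx h1)
  have a : u * x * u⁻¹ * x⁻¹ ∈ X := mul_mem (e ▸ conj_mem_conjS.2 hx) (inv_mem hx)
  have b : u * x * u⁻¹ * x⁻¹ ∈ V := by
    have := mul_mem hu (conj_mem_of_mem_normalizer hn (inv_mem hu))
    simpa only [mul_assoc] using this
  have c := one_of (cube hX.1 a) (h.fV.mul_self b)
  have : u ∈ V ⊓ centralizer ({x} : Set G) := mem_inf.mpr ⟨hu, by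
    rw [mem_centralizer_singleton_iff]
    calc u * x = (u * x * u⁻¹ * x⁻¹) * (x * u) := by group
      _ = x * u := by rw [c, one_mul]⟩
  rw [hf] at this
  exact mem_bot.mp this

omit [Finite G] in
theorem idx3 {X : Subgroup G} (hX : X ∈ Pts M W) : (centralizer (V : Set G)).relIndex X = 3 := by
  have a := relIndex_dvd_card_self (centralizer (V : Set G)) X
  rw [hX.1] at a
  rcases (Nat.dvd_prime Nat.prime_three).mp a with k | k
  · obtain ⟨x, hx, h1⟩ := exists_ne hX.1
    exact absurd (relIndex_eq_one.mp k hx) (h.not_cen hX hx h1)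
  · exact k

theorem surj {X Y : Subgroup G} (hX : X ∈ Pts M W) (hY : Y ∈ Pts M W) : ∃ a ∈ V, Y = conjS a X := by
  obtain ⟨y, hy, h1⟩ := exists_ne hY.1
  have y3 := cube hY.1 hy
  set C := centralizer (V : Set G) with hC
  set N := normalizer (V : Set G) with hN
  have hXN : X ≤ N := h.pts_norm hX
  have hXC : X ≤ normalizer (C : Set G) := le_normalizer_centralizer hXN
  have hL : X ⊔ C ≤ N := sup_le hXN (centralizer_le_normalizer _)
  have i1 : C.relIndex N ∣ 6 := h.fV.relIndex_dvd_six le_rfl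
  have i2 : C.relIndex (X ⊔ C) = 3 := by rw [relIndex_sup_of_le_normalizer hXC]; exact h.idx3 hX
  have i3 := relIndex_mul_relIndex C (X ⊔ C) N le_sup_right hL
  rw [i2] at i3
  have i4 : (X ⊔ C).relIndex N ∣ 2 :=
    Nat.dvd_of_mul_dvd_mul_left (by norm_num : 0 < 3) (by rw [i3]; exact i1)
  have hyN : y ∈ N := h.pts_norm hY hy
  have sq : ∀ g ∈ N, g * g ∈ X ⊔ C := fun g hg => by
    rcases (Nat.dvd_prime Nat.prime_two).mp i4 with k | k
    · exact relIndex_eq_one.mp k (mul_mem hg hg)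
    · exact mem_subgroupOf.mp (mul_self_mem_of_index_two k (⟨g, hg⟩ : N))
  have hyL : y ∈ X ⊔ C := by
    have := sq _ (mul_mem hyN hyN)
    rwa [show y * y * (y * y) = y by
      calc y * y * (y * y) = y ^ 3 * y := by simp only [pow_succ, pow_zero, one_mul, mul_assoc]
        _ = y := by rw [y3, one_mul]] at this
  obtain ⟨u, hu, c, hc, e⟩ := (mem_sup_iff_of_left_le_normalizer hXC).mp hyL
  have ec : c = u⁻¹ * y := by rw [e]; group
  obtain ⟨v, hv, w, hw, rfl⟩ := h.dec (g := c) (ec ▸ mul_mem (inv_mem (hX.2.1 hu)) (hY.2.1 hy)) hc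
    (ec ▸ mul_mem (inv_mem (hX.2.2 hu)) (hY.2.2 hy))
  have u3 := cube hX.1 hu
  have huN := hXN hu
  have cw : Commute (u * v) w :=
    (mem_centralizer_iff.mp (mul_mem (hX.2.2 hu) (h.cV hv)) w hw).symm
  have m1 : (u * v) ^ 3 ∈ V := by
    have := mul_mem (conj_mem_of_mem_normalizer huN hv) (mul_mem (conj_mem_of_mem_normalizer huN
      (conj_mem_of_mem_normalizer huN hv)) (conj_mem_of_mem_normalizer huN
      (conj_mem_of_mem_normalizer huN (conj_mem_of_mem_normalizer huN hv))))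
    rwa [show u * v * u⁻¹ * (u * (u * v * u⁻¹) * u⁻¹ * (u * (u * (u * v * u⁻¹) * u⁻¹) * u⁻¹)) = (u * v) ^ 3 by
      calc _ = (u * v) ^ 3 * (u ^ 3)⁻¹ := by simp only [pow_succ, pow_zero]; group
        _ = _ := by rw [u3, inv_one, mul_one]] at this
  have w3 : w ^ 3 = w := by rw [pow_succ, _root_.sq, h.fW.mul_self hw, one_mul]
  have m2 : (u * v) ^ 3 * w = 1 := by rw [← w3, ← cw.mul_pow, mul_assoc, ← e, y3]
  have w1 : w = 1 := by
    have : w ∈ V ⊓ W := mem_inf.mpr ⟨by
      rw [← eq_inv_of_mul_eq_one_right m2 |>.symm]; exact inv_mem m1, hw⟩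
    rw [h.disj] at this
    exact mem_bot.mp this
  subst w1
  rw [mul_one] at m2 e
  have vv := h.fV.mul_self hv
  have ey : y = (u⁻¹ * v * u) * u * (u⁻¹ * v * u)⁻¹ := by
    have vi : v⁻¹ = v := inv_eq_of_mul_eq_one_right vv
    calc y = u * v := e
      _ = (u ^ 3)⁻¹ * u * ((u * v) ^ 3) * v⁻¹ * (v * v) := by rw [u3, m2, vv, vi]; group
      _ = u⁻¹ * v * u * v * u * (v * v) * (v⁻¹ * v) * 1 := by simp only [pow_succ, pow_zero]; group
      _ = u⁻¹ * v * u * v⁻¹ * u := by rw [vv, vi, vv]; group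
      _ = _ := by group
  refine ⟨u⁻¹ * v * u, conj_inv_mem_of_mem_normalizer huN hv, ?_⟩
  have z1 : zpowers y = Y := CfsgLib.Core.eq_of_le_of_card_le (zpowers_le.mpr hy) (by
    rw [Nat.card_zpowers, ord_three y3 h1, hY.1])
  refine CfsgLib.Core.eq_of_le_of_card_le ?_ (by rw [card_conjS, hX.1, hY.1])
  rw [← z1, zpowers_le, ey]
  exact conj_mem_conjS.2 hu

omit [Finite G] in
theorem conj_V {X : Subgroup G} (hX : X ∈ Pts M W) {a : G} (ha : a ∈ V) : conjS a X ∈ Pts M W := by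
  have := conj_pts (h.VM ha) hX
  rwa [mem_normalizer_iff_conjS.1 (centralizer_le_normalizer _ (h.cV ha))] at this

theorem inj' {X : Subgroup G} (hX : X ∈ Pts M W) {a b : G} (ha : a ∈ V) (hb : b ∈ V)
    (e : conjS a X = conjS b X) : a = b := by
  have := h.inj hX (mul_mem (inv_mem hb) ha) (by rw [conjS_mul, e, conjS_inv_conjS])
  rw [inv_mul_eq_one] at this
  exact this.symm

theorem card_pts {X : Subgroup G} (hX : X ∈ Pts M W) : Nat.card (Pts M W) = 4 := by
  rw [← h.fV.card]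
  refine (Nat.card_eq_of_bijective (fun a : V => (⟨conjS a X, h.conj_V hX a.2⟩ : Pts M W))
    ⟨fun a b e => Subtype.ext (h.inj' hX a.2 b.2 (congrArg Subtype.val e)), fun Y => ?_⟩).symm
  obtain ⟨a, ha, e⟩ := h.surj hX Y.2
  exact ⟨⟨a, ha⟩, Subtype.ext e.symm⟩

theorem cen_of_fix {X : Subgroup G} (hX : X ∈ Pts M W) {m : G} (hm : m ∈ M)
    (hf : ∀ Y ∈ Pts M W, conjS m Y = Y) : m ∈ centralizer (V : Set G) := by
  have hn : m ∈ normalizer (V : Set G) := by
    rcases h.nrm m hm with k | k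
    · exact mem_normalizer_iff_conjS.2 k.1
    · have := conj_pts hm hX
      rw [hf X hX, k.2] at this
      exact absurd this (h.not_both hX)
  rw [mem_centralizer_iff]
  intro a ha
  have := h.inj' hX (conj_mem_of_mem_normalizer hn ha) ha (by
    rw [conjS_mul, conjS_mul, ← hf X hX, conjS_inv_conjS, hf X hX, hf _ (h.conj_V hX ha)])
  calc a * m = m * a * m⁻¹ * m := by rw [this]
    _ = m * a := by group

theorem faithful {X X' : Subgroup G} (hX : X ∈ Pts M W) (hX' : X' ∈ Pts M V) {m : G} (hm : m ∈ M)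
    (hf : ∀ Y, Y ∈ Pts M W ∨ Y ∈ Pts M V → conjS m Y = Y) : m = 1 := by
  obtain ⟨v, hv, w, hw, rfl⟩ := h.dec hm (h.cen_of_fix hX hm fun Y k => hf Y (Or.inl k))
    (h.symm.cen_of_fix hX' hm fun Y k => hf Y (Or.inr k))
  have c : w * v = v * w := mem_centralizer_iff.mp (h.cV hv) w hw
  have a := hf X (Or.inl hX)
  have b := hf X' (Or.inr hX')
  rw [conjS_mul, mem_normalizer_iff_conjS.1 (centralizer_le_normalizer _
    (le_centralizer_iff.mp hX.2.2 hw))] at a
  rw [← c, conjS_mul, mem_normalizer_iff_conjS.1 (centralizer_le_normalizer _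
    (le_centralizer_iff.mp hX'.2.2 hv))] at b
  rw [h.inj hX hv a, h.symm.inj hX' hw b, mul_one]

theorem six {X A N : Subgroup G} (hX : X ∈ Pts M W) (hA : IsPGroup 2 A) (hn : ¬ A ≤ centralizer (V : Set G))
    (hN : N ≤ normalizer (V : Set G)) (h1 : X ≤ N) (h2 : A ≤ N) :
    6 ∣ (centralizer (V : Set G)).relIndex N := by
  have a := relIndex_dvd_relIndex_of_le_normalizer h1 (le_normalizer_centralizer hN)
  have b := relIndex_dvd_relIndex_of_le_normalizer h2 (le_normalizer_centralizer hN)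
  rw [h.idx3 hX] at a
  rw [h.fV.relIndex_eq_two hA (h2.trans hN) hn] at b
  exact Nat.Coprime.mul_dvd_of_dvd_of_dvd (by norm_num : Nat.Coprime 2 3) b a

theorem card_ge {X X' A A' : Subgroup G} (hX : X ∈ Pts M W) (hX' : X' ∈ Pts M V)
    (hA : IsPGroup 2 A) (aM : A ≤ M) (aW : A ≤ centralizer (W : Set G)) (aV : ¬ A ≤ centralizer (V : Set G))
    (hA' : IsPGroup 2 A') (aM' : A' ≤ M) (aV' : A' ≤ centralizer (V : Set G))
    (aW' : ¬ A' ≤ centralizer (W : Set G)) {t : G} (ht : t ∈ M) (e : conjS t V = W) :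
    1152 ≤ Nat.card M := by
  set K := centralizer (W : Set G) ⊓ (M ⊓ normalizer (W : Set G)) with hK
  have cn : centralizer (W : Set G) ≤ normalizer (W : Set G) := centralizer_le_normalizer _
  have s1 : 6 ∣ (centralizer (V : Set G)).relIndex K :=
    h.six hX hA aV (fun g hg => h.norm_of hg.2.1 hg.2.2) (le_inf hX.2.2 (le_inf hX.2.1 (hX.2.2.trans cn)))
      (le_inf aW (le_inf aM (aW.trans cn)))
  have s2 : 6 ∣ (centralizer (W : Set G)).relIndex (M ⊓ normalizer (W : Set G)) :=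
    h.symm.six hX' hA' aW' inf_le_right (le_inf hX'.2.1 (h.symm.pts_norm hX'))
      (le_inf aM' fun g hg => h.symm.norm_of (aM' hg) (centralizer_le_normalizer _ (aV' hg)))
  have s3 : 16 ∣ Nat.card (centralizer (V : Set G) ⊓ K : Subgroup G) := by
    have : Nat.card (V ⊔ W : Subgroup G) = 16 := by
      rw [CfsgLib.Core.card_sup_of_le_normalizer_of_disjoint (le_normalizer_of_le_centralizer h.cV) h.disj,
        h.fV.card, h.fW.card]
    rw [← this]
    exact card_dvd_of_le (sup_le (le_inf h.fV.le_centralizer (le_inf h.cV (le_inf h.VM (h.cV.trans cn))))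
      (le_inf h.symm.cV (le_inf h.fW.le_centralizer (le_inf h.WM le_normalizer))))
  have c1 := CfsgLib.Core.card_inf_mul_relIndex (centralizer (V : Set G)) K
  have c2 := CfsgLib.Core.card_inf_mul_relIndex (centralizer (W : Set G)) (M ⊓ normalizer (W : Set G))
  have d : 16 * 6 * 6 ∣ Nat.card (M ⊓ normalizer (W : Set G) : Subgroup G) := by
    rw [← c2, ← hK, ← c1]
    exact Nat.mul_dvd_mul (Nat.mul_dvd_mul s3 s1) s2
  have lt : M ⊓ normalizer (W : Set G) < M := lt_of_le_of_ne inf_le_left fun k => by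
    have := h.norm_of ht (k.ge ht).2
    exact h.ne ((mem_normalizer_iff_conjS.1 this).symm.trans e)
  have := two_mul_card_le_of_lt lt
  have := Nat.le_of_dvd Nat.card_pos d
  omega

omit [Finite G] in
theorem conj_or {g : G} (hg : g ∈ M) {Y : Subgroup G} (hY : Y ∈ Pts M W ∨ Y ∈ Pts M V) :
    conjS g Y ∈ Pts M W ∨ conjS g Y ∈ Pts M V := by
  rcases hY with hY | hY <;> have := conj_pts hg hY <;> rcases h.nrm g hg with k | k
  · exact Or.inl (k.2 ▸ this)
  · exact Or.inr (k.2 ▸ this)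
  · exact Or.inr (k.1 ▸ this)
  · exact Or.inl (k.1 ▸ this)

/-- the action on the eight points -/
@[reducible] def act : MulAction M {Y : Subgroup G // Y ∈ Pts M W ∨ Y ∈ Pts M V} where
  smul m Y := ⟨conjS m Y, h.conj_or m.2 Y.2⟩
  one_smul Y := Subtype.ext (conjS_one Y.1)
  mul_smul a b Y := Subtype.ext (conjS_mul (a : G) (b : G) Y.1)

theorem iso {X X' : Subgroup G} (hX : X ∈ Pts M W) (hX' : X' ∈ Pts M V) (hge : 1152 ≤ Nat.card M) :
    Nonempty (M ≃* blockStabilizerS4wr2) := by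
  let _ := h.act
  have sm : ∀ (m : M) (Y : {Y : Subgroup G // Y ∈ Pts M W ∨ Y ∈ Pts M V}), (m • Y).1 = conjS (m : G) Y.1 :=
    fun _ _ => rfl
  obtain ⟨e, he⟩ := exists_equiv (fun Y : {Y : Subgroup G // Y ∈ Pts M W ∨ Y ∈ Pts M V} => Y.1 ∈ Pts M W)
    ((Nat.card_congr (Equiv.subtypeSubtypeEquivSubtype (q := (· ∈ Pts M W)) Or.inl)).trans (h.card_pts hX))
    ((Nat.card_congr ((Equiv.subtypeEquivRight fun Y => ⟨fun k => Y.2.resolve_left k,
      fun k => h.symm.not_both k⟩).trans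
      (Equiv.subtypeSubtypeEquivSubtype (q := (· ∈ Pts M V)) Or.inr))).trans (h.symm.card_pts hX'))
  let φ : M →* Equiv.Perm (Fin 4 ⊕ Fin 4) :=
    e.permCongrHom.toMonoidHom.comp (MulAction.toPermHom M _)
  have ap : ∀ (m : M) Y, φ m (e Y) = e (m • Y) := fun m Y => by simp [φ]
  have n : ∀ i : Fin 4 ⊕ Fin 4, i.isRight = true ↔ ¬ i.isLeft = true := fun i => by cases i <;> simp
  have mem : ∀ m, φ m ∈ blockStabilizerS4wr2 := fun m => by
    refine mem_block _ ((h.nrm m m.2).imp (fun k i => ?_) fun k i => ?_)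
    · obtain ⟨Y, rfl⟩ := e.surjective i
      rw [Bool.eq_iff_iff, ap, he, he, sm]
      refine ⟨fun a => Y.2.resolve_right fun b => h.not_both a ?_, fun a => ?_⟩
      · have := conj_pts m.2 b
        rwa [k.1] at this
      · have := conj_pts m.2 a
        rwa [k.2] at this
    · obtain ⟨Y, rfl⟩ := e.surjective i
      rw [Bool.eq_iff_iff, ap, n, he, he, sm]
      refine ⟨fun a b => h.not_both a ?_, fun a => ?_⟩
      · have := conj_pts m.2 b
        rwa [k.2] at this
      · have := conj_pts m.2 (Y.2.resolve_left a)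
        rwa [k.1] at this
  have inj : Function.Injective (φ.codRestrict _ mem) := by
    refine (injective_iff_map_eq_one _).2 fun m k => Subtype.ext ?_
    have k' : φ m = 1 := congrArg Subtype.val k
    refine h.faithful hX hX' m.2 fun Y hY => ?_
    have := ap m ⟨Y, hY⟩
    rw [k', Equiv.Perm.one_apply] at this
    exact congrArg Subtype.val (e.injective this).symm
  exact ⟨MulEquiv.ofBijective _ (inj.bijective_of_nat_card_le (by rw [card_block]; exact hge))⟩

end Sd

end WR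

theorem FP0.wreath (h : FP0 T M 𝒱) (hV : V ∈ 𝒱) (hW : W ∈ 𝒱) (ne : V ≠ W)
    (hc : M ⊓ centralizer ((sSup 𝒱 : Subgroup G) : Set G) ≤ sSup 𝒱) :
    Nonempty (M ≃* blockStabilizerS4wr2) := by
  have oe : ∀ {V W : Subgroup G}, V ∈ 𝒱 → W ∈ 𝒱 → V ≠ W → oth 𝒱 V = W := fun {V W} hV hW ne => by
    rcases h.two.oth_cases hV with k | k
    · rw [k.1] at hW
      exact absurd (Set.mem_singleton_iff.mp hW).symm ne
    · rw [k.2.2] at hW
      rcases hW with e | e
      · exact absurd e.symm ne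
      · exact (Set.mem_singleton_iff.mp e).symm
  have hS : sSup 𝒱 = V ⊔ W := by rw [← sup_oth hV, oe hV hW ne]
  have mem : ∀ U ∈ 𝒱, U = V ∨ U = W := fun U hU => by
    rcases h.two U hU V hV W hW with k | k | k
    · exact Or.inl k
    · exact Or.inr k
    · exact absurd k ne
  have sd : WR.Sd M V W :=
    { fV := h.four V hV
      fW := h.four W hW
      disj := h.disj V hV W hW ne
      cV := h.comm W hW V hV
      VM := (h.le V hV).trans h.syl.le
      WM := (h.le W hW).trans h.syl.le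
      hc := fun g hg a b => hS ▸ hc (mem_inf.mpr ⟨hg, by
        rw [hS]
        exact le_centralizer_iff.mp (sup_le (le_centralizer_iff.mp (zpowers_le.mpr a))
          (le_centralizer_iff.mp (zpowers_le.mpr b))) (mem_zpowers g)⟩)
      nrm := fun g hg => by
        have d : conjS g V ≠ conjS g W := fun e => ne (conjS_injective g e)
        rcases mem _ (h.conj g hg V hV) with a | a <;> rcases mem _ (h.conj g hg W hW) with b | b
        · exact absurd (a.trans b.symm) d
        · exact Or.inl ⟨a, b⟩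
        · exact Or.inr ⟨a, b⟩
        · exact absurd (a.trans b.symm) d }
  have pt : ∀ {V W : Subgroup G}, V ∈ 𝒱 → W ∈ 𝒱 → V ≠ W → WR.Sd M V W → ∃ X, X ∈ WR.Pts M W :=
    fun {V W} hV hW ne sd => by
    obtain ⟨x, hx, ho, hf, hw⟩ := h.exists_odd hV
    rw [oe hV hW ne] at hw
    have a := sd.sq_one (pow_mem hx 3) (sd.fV.pow_three_mem (h.norm_of_odd hV hx ho) ho) (pow_mem hw 3)
    have b : x ^ 3 = 1 := by
      have c : orderOf x ∣ 2 * 3 := orderOf_dvd_of_pow_eq_one (by rw [mul_comm, pow_mul, sq, a])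
      exact orderOf_dvd_iff_pow_eq_one.mp
        (Nat.Coprime.dvd_of_dvd_mul_left (Nat.coprime_two_right.mpr ho) c)
    have x1 : x ≠ 1 := by
      rintro rfl
      refine sd.fV.ne_bot (le_bot_iff.mp (hf ▸ le_inf le_rfl fun g _ => ?_))
      rw [mem_centralizer_singleton_iff, mul_one, one_mul]
    exact ⟨zpowers x, by rw [Nat.card_zpowers, WR.ord_three b x1], zpowers_le.mpr hx, zpowers_le.mpr hw⟩
  obtain ⟨X, hX⟩ := pt hV hW ne sd
  obtain ⟨X', hX'⟩ := pt hW hV ne.symm sd.symm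
  obtain ⟨A, hA, a1, a2⟩ := h.exists_root hV
  obtain ⟨A', hA', b1, b2⟩ := h.exists_root hW
  rw [oe hV hW ne] at a2
  rw [oe hW hV ne.symm] at b2
  obtain ⟨t, ht, e⟩ := h.trans V hV W hW
  exact sd.iso hX hX' (sd.card_ge hX hX' (h.syl.isPGroup.to_le hA.1) (hA.1.trans h.syl.le) a2 a1
    (h.syl.isPGroup.to_le hA'.1) (hA'.1.trans h.syl.le) b2 b1 (h.syl.le ht) e)

end CfsgLib.QT5
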